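import Cfsg.Agent.H293.TwFrame
import Cfsg.Agent.OddHalf.Table.AutRGD
import Cfsg.Agent.FixBN.TraceSys

/-!
# Automorphisms of order two of a group with a root group datum: a chamber in an anisotropic residue

* `exists_chamber` : every automorphism of order two is conjugate to `conj a * φ`, `φ` a frame automorphism, `a` in the cell of the
  longest element of `W_J`, the simple reflections of `J` commute and are fixed by the diagram symmetry of `φ`.
-/

set_option autoImplicit false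
set_option linter.unusedSectionVars false

namespace Cfsg.Agent.H293.TwFix

open CoxeterSystem Cfsg.Agent.ChevalleyStructure.CoxeterGeom Cfsg.Agent.Tits.Roots Cfsg.Agent.Tits.Core
  Cfsg.Agent.Tits.Exchange Cfsg.Agent.Nodes.Reps Cfsg.Agent.Nodes.BNOf Cfsg.Agent.Nodes.StabComb
  Cfsg.Agent.Nodes.Bruhat Cfsg.Agent.Nodes.OppDec Cfsg.Agent.Nodes.LeviDec Cfsg.Agent.Nodes.NormalForm
  Cfsg.Agent.Nodes.Comb
  Cfsg.Agent.KFacts.RgdOpp Cfsg.Agent.KFacts.RgdAut Cfsg.Agent.KFacts.RgdDiag Cfsg.Agent.KFacts.RgdRigid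
open Cfsg.Agent.FixBN Cfsg.Agent.Tits.OfBN Cfsg.Agent.Tits.OppRes Cfsg.Agent.LieExceptional.BNPairCore
  Cfsg.Agent.OddHalf.Table.AutRGD Cfsg.Agent.Tits.Core.Bldg

variable {I W Y : Type*} [Fintype I] [DecidableEq I] [Group W] [Group Y] {M : CoxeterMatrix I}
  {cs : CoxeterSystem M W} {A : I → I → ℤ} {h : IsCartan M A} {p : ℕ} {T : Subgroup Y} {n : I → Y}
  {X : (I → ℤ) → Subgroup Y}

section Iso

variable {W' : Type*} [Group W'] (cs : CoxeterSystem M W) (cs' : CoxeterSystem M W')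

/-- The isomorphism of two Coxeter systems with the same matrix. -/
noncomputable def isoW : W ≃* W' := cs.mulEquiv.trans cs'.mulEquiv.symm

theorem isoW_simple (i : I) : isoW cs cs' (cs.simple i) = cs'.simple i := by
  exact congrArg cs'.mulEquiv.symm (cs.mulEquiv.apply_symm_apply _)

theorem isoW_wordProd (ω : List I) : isoW cs cs' (cs.wordProd ω) = cs'.wordProd ω := by
  induction ω with
  | nil => rw [wordProd_nil, wordProd_nil, map_one]
  | cons i ω ih => rw [wordProd_cons, wordProd_cons, map_mul, ih, isoW_simple]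

theorem length_isoW_le (w : W) : cs'.length (isoW cs cs' w) ≤ cs.length w := by
  obtain ⟨ω, hω, rfl⟩ := cs.exists_isReduced w
  rw [isoW_wordProd, hω]
  exact cs'.length_wordProd_le ω

theorem isoW_symm (w : W') : (isoW cs cs').symm w = isoW cs' cs w := rfl

theorem length_isoW (w : W) : cs'.length (isoW cs cs' w) = cs.length w := by
  apply le_antisymm (length_isoW_le cs cs' w)
  have h1 := length_isoW_le cs' cs (isoW cs cs' w)
  rwa [← isoW_symm, MulEquiv.symm_apply_apply] at h1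

theorem isoW_mem_WJ {J : Set I} {w : W} (hw : w ∈ WJ cs J) : isoW cs cs' w ∈ WJ cs' J := by
  have h1 : WJ cs J ≤ (WJ cs' J).comap (isoW cs cs').toMonoidHom := by
    refine (Subgroup.closure_le _).2 ?_
    rintro _ ⟨j, hj, rfl⟩
    rw [SetLike.mem_coe, Subgroup.mem_comap]
    show isoW cs cs' (cs.simple j) ∈ _
    rw [isoW_simple]
    exact Subgroup.subset_closure ⟨j, hj, rfl⟩
  exact h1 hw

theorem isoW_wJ [Finite W] (J : Set I) : isoW cs cs' (wJ cs J) = wJ cs' J := by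
  apply IsLongest.eq_wJ
  have hL := isLongest_wJ cs J
  refine ⟨isoW_mem_WJ cs cs' hL.1, fun v hv => ?_⟩
  obtain ⟨u, rfl⟩ := (isoW cs cs').surjective v
  have hu : u ∈ WJ cs J := by
    have h1 := isoW_mem_WJ cs' cs hv
    rwa [← isoW_symm, MulEquiv.symm_apply_apply] at h1
  have h2 := hL.2 u hu
  rw [← map_mul, ← map_mul, length_isoW, length_isoW, length_isoW, length_isoW]
  exact h2

end Iso

section Cells

variable (R : RGD cs h p T n X)

include R in
/-- Generation. -/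
theorem gen_of_top [Finite W] (hG : GG cs h T X = ⊤) : RGD.B cs h T X ⊔ NN cs R.nsys = ⊤ := by
  rw [eq_top_iff]
  intro g _
  have hg : g ∈ GG cs h T X := by rw [hG]; exact Subgroup.mem_top g
  obtain ⟨w, b₁, hb₁, k, hk, b₂, hb₂, rfl⟩ := (mem_GG R).1 hg
  exact mul_mem (mul_mem (Subgroup.mem_sup_left hb₁) (Subgroup.mem_sup_right ⟨w, hk⟩)) (Subgroup.mem_sup_left hb₂)

/-- The cells and the Weyl distance. -/
theorem exists_rp_mk [Finite W] (hgen : RGD.B cs h T X ⊔ NN cs R.nsys = ⊤)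
    [hN : (((R.bnPair hgen).B ⊓ (R.bnPair hgen).N).subgroupOf (R.bnPair hgen).N).Normal]
    (cs' : CoxeterSystem M (WP (R.bnPair hgen)))
    (hcs : ∀ i, cs'.simple i = QuotientGroup.mk
      (⟨(eS R hgen i : Y), (R.bnPair hgen).subset (eS R hgen i).2⟩ : (R.bnPair hgen).N)) (ω : List I) :
    ∃ g : (R.bnPair hgen).N, Rp cs R.nsys (cs.wordProd ω) (g : Y) ∧ cs'.wordProd ω = QuotientGroup.mk g := by
  induction ω with
  | nil => exact ⟨1, by rw [wordProd_nil]; exact rp_one, by rw [wordProd_nil]; rfl⟩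
  | cons i ω ih =>
    obtain ⟨g, hg, hg'⟩ := ih
    refine ⟨⟨(eS R hgen i : Y), (R.bnPair hgen).subset (eS R hgen i).2⟩ * g, ?_, ?_⟩
    · rw [wordProd_cons]
      exact (rp_simple cs R.nsys i).mul hg
    · rw [wordProd_cons, hg', hcs]
      rfl

theorem wt_eq_iff_cell [Finite W] (hgen : RGD.B cs h T X ⊔ NN cs R.nsys = ⊤)
    [hN : (((R.bnPair hgen).B ⊓ (R.bnPair hgen).N).subgroupOf (R.bnPair hgen).N).Normal]
    (cs' : CoxeterSystem M (WP (R.bnPair hgen)))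
    (hcs : ∀ i, cs'.simple i = QuotientGroup.mk
      (⟨(eS R hgen i : Y), (R.bnPair hgen).subset (eS R hgen i).2⟩ : (R.bnPair hgen).N)) (w : W) (a : Y) :
    wt (R.bnPair hgen) a = isoW cs cs' w ↔ Cell R.nsys cs h X w a := by
  obtain ⟨ω, rfl⟩ := cs.wordProd_surjective w
  obtain ⟨g, hg, hg'⟩ := exists_rp_mk R hgen cs' hcs ω
  rw [isoW_wordProd, hg', wt_eq_iff, mem_C]
  constructor
  · rintro ⟨b₁, hb₁, b₂, hb₂, e⟩
    exact ⟨b₁, hb₁, g, hg, b₂, hb₂, e⟩
  · rintro ⟨b₁, hb₁, k, hk, b₂, hb₂, e⟩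
    refine ⟨b₁, hb₁, (g : Y)⁻¹ * k * b₂, ?_, ?_⟩
    · exact mul_mem (RGD.T_le_B (hg.unique hk)) hb₂
    · rw [e]; group

end Cells

/-- **A chamber in an anisotropic residue.** -/
theorem exists_chamber [Finite W] [Finite Y] [Fact p.Prime] (R : RGD cs h p T n X) (hG : GG cs h T X = ⊤)
    (hcore : (RGD.B cs h T X).normalCore = ⊥) {α : MulAut Y} (hα : α * α = 1) :
    ∃ (J : Set I) (g a : Y) (φ : MulAut Y) (σ : Equiv.Perm I), Diag T X φ σ ∧ KFacts.RgdAut.Fix φ (RGD.Sup X (RGD.Pos cs h)) ∧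
      KFacts.RgdAut.Fix φ (UN cs h X) ∧
      Cell R.nsys cs h X (wJ cs J) a ∧ MulAut.conj g * α * (MulAut.conj g)⁻¹ = MulAut.conj a * φ ∧
      (∀ i ∈ J, ∀ j ∈ J, cs.simple i * cs.simple j = cs.simple j * cs.simple i) ∧ (∀ i ∈ J, σ i = i) := by
  have hgen := gen_of_top R hG
  obtain ⟨hN, cs', hcs, hfin, S⟩ := exists_setup R hgen hcore
  have hC : Cox cs' := inferInstance
  have hτ : ∀ g, (α : Y ≃* Y) ((α : Y ≃* Y) g) = g := fun g => by
    have := DFunLike.congr_fun hα g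
    exact this
  obtain ⟨t, ht⟩ := TwOfBN.exists_tw S (eS R hgen) cs' hcs α hτ
  have hΔth := thick (R.bnPair hgen) (eS R hgen) cs' hcs
  have Ss := OfBN.sys (eS R hgen) cs' hcs S
  set P := R.bnPair hgen with hP
  obtain ⟨J, -, y, -, hgd⟩ := Tw.exists_gd (t := t) (J := Set.univ) (fun i _ => Set.mem_univ _)
    (x := (QuotientGroup.mk 1 : Y ⧸ P.B)) (by rw [Bldg.Res_univ]; trivial)
  have hJc := fun i j (hi : i ∈ J) (hj : j ∈ J) => Ss.gd_comm hΔth hgd hi hj
  have hJσ := fun i (hi : i ∈ J) => Ss.gd_σ hΔth hgd hi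
  have hδ := hgd.δ_θ
  obtain ⟨g, rfl⟩ := QuotientGroup.mk_surjective y
  obtain ⟨g₀, hg₀⟩ := QuotientGroup.mk_surjective (t.θ (QuotientGroup.mk 1))
  -- the action of `θ`
  have hθ : ∀ x : Y, t.θ (QuotientGroup.mk x) = QuotientGroup.mk (α x * g₀) := by
    intro x
    have h1 : (QuotientGroup.mk x : Y ⧸ P.B) = x • (QuotientGroup.mk 1 : Y ⧸ P.B) := by
      rw [OfBN.smul_mk, mul_one]
    rw [h1, t.θ_smul, ht, ← hg₀, OfBN.smul_mk]
  -- `α₀ = conj g₀⁻¹ * α` preserves `B`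
  obtain ⟨α₀, hα₀⟩ : ∃ α₀ : MulAut Y, α₀ = MulAut.conj g₀⁻¹ * α := ⟨_, rfl⟩
  have hα₀' : ∀ x, α₀ x = g₀⁻¹ * α x * g₀ := fun x => by rw [hα₀, MulAut.mul_apply, MulAut.conj_apply, inv_inv]
  have hB : ∀ b, α₀ b ∈ P.B ↔ b ∈ P.B := by
    intro b
    have h1 : b ∈ P.B ↔ (QuotientGroup.mk b : Y ⧸ P.B) = QuotientGroup.mk 1 := by
      rw [eq_comm, OfBN.mk_eq, inv_one, one_mul]
    have h2 : α₀ b ∈ P.B ↔ t.θ (QuotientGroup.mk b) = t.θ (QuotientGroup.mk 1) := by
      rw [hθ, hθ, map_one, one_mul, eq_comm, OfBN.mk_eq, hα₀', mul_assoc]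
    rw [h1, h2, t.θ.injective.eq_iff]
  -- it preserves `U`
  have hUle : ∀ β : MulAut Y, (∀ b, β b ∈ P.B ↔ b ∈ P.B) → ∀ u ∈ RGD.Sup X (RGD.Pos cs h),
      β u ∈ RGD.Sup X (RGD.Pos cs h) := by
    intro β hβ u hu
    obtain ⟨m, hm⟩ := R.isPGroup_Upos ⟨u, hu⟩
    have hm' : u ^ p ^ m = 1 := congrArg Subtype.val hm
    exact R.mem_U_of_mem_B ((hβ u).2 (RGD.U_le_B hu)) (k := m) (by rw [← map_pow, hm', map_one])
  have hU : KFacts.RgdAut.Fix α₀ (RGD.Sup X (RGD.Pos cs h)) := by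
    intro u
    constructor
    · intro hu
      have h1 := hUle α₀⁻¹ (fun b => by rw [← hB (α₀⁻¹ b), MulAut.apply_inv_self]) _ hu
      rwa [MulAut.inv_apply_self] at h1
    · exact hUle α₀ hB u
  obtain ⟨u, hu, hφU, hφUN, -, σ, D⟩ := exists_frame_pow R hG hU
  refine ⟨J, g⁻¹, g⁻¹ * α g * g₀ * u⁻¹, MulAut.conj u * α₀, σ, D, hφU, hφUN, ?_, ?_, ?_, ?_⟩
  · -- the cell
    rw [← wt_eq_iff_cell R hgen cs' hcs, isoW_wJ, wt_mul_right _ _ (inv_mem (RGD.U_le_B hu))]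
    rw [hθ, bldg_δ_mk] at hδ
    rw [← hδ, mul_assoc]
  · rw [hα₀]
    ext z
    simp only [MulAut.mul_apply, MulAut.conj_apply, map_mul, map_inv, mul_inv_rev, inv_inv, mul_assoc,
      inv_mul_cancel_left, mul_inv_cancel_left, MulAut.conj_inv_apply]
  · intro i hi j hj
    apply (isoW cs cs').injective
    rw [map_mul, map_mul, isoW_simple, isoW_simple]
    exact hJc i j hi hj
  · intro i hi
    have h1 := hJσ i hi
    apply hC.inj
    -- the distance of `θ (mk 1)` and `θ (mk (n i))`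
    have h2 : (bldg P (eS R hgen) cs' hcs).δ (t.θ (QuotientGroup.mk 1)) (t.θ (QuotientGroup.mk (n i))) = cs'.simple i := by
      rw [t.δ_θ, bldg_δ_mk, inv_one, one_mul]
      have h3 : wt P (n i) = cs'.simple i := by
        rw [← isoW_simple cs cs' i, wt_eq_iff_cell R hgen cs' hcs]
        exact cell_of_rp (rp_simple cs R.nsys i)
      rw [h3, t.φ_simple, h1]
    rw [← h2, hθ, hθ, map_one, one_mul, bldg_δ_mk, ← isoW_simple cs cs' (σ i)]
    symm
    rw [wt_eq_iff_cell R hgen cs' hcs]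
    have h4 : g₀⁻¹ * (α (n i) * g₀) = u⁻¹ * (MulAut.conj u * α₀) (n i) * u := by
      rw [MulAut.mul_apply, MulAut.conj_apply, hα₀']; group
    rw [h4]
    exact ⟨u⁻¹, inv_mem (RGD.U_le_B hu), _, D.rp (R := R) i, u, RGD.U_le_B hu, rfl⟩

end Cfsg.Agent.H293.TwFix
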