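import Mathlib
import Cfsg.Prelude.Def_Local
import Cfsg.Prelude.Def_Involutions
import Cfsg.Agent.SignalizersComponents.StandardTrichotomy
import Cfsg.Agent.SignalizersComponents.ComponentImage
import Cfsg.Agent.StdG24.StdQuot
import Cfsg.Agent.Classification.IdU.Gen
import Cfsg.Agent.QTComp.Quat
import Cfsg.Agent.S0205

/-!
# Standard subgroups whose centralizer has cyclic Sylow 2-subgroups: reduction modulo the odd core

`Hyp L`: `L` is a standard subgroup of the finite group `G` and `C_G(L)` has cyclic Sylow 2-subgroups.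

* `Hyp.std_map`, `Hyp.cyc_map` : the image of `L` modulo `O(G)` has the same properties;
* `Hyp.normal_map_iff` : the image is normal iff `L O(G)` is;
* `Hyp.le_centralizer` : if `g t g⁻¹ ∈ t u O(G)`, `u ∈ L \ O(G)`, `t` the involution of `C_G(L)`, then `L` centralizes `O(G)`.
-/

set_option autoImplicit false
set_option linter.unusedSectionVars false

namespace Cfsg.Agent.H293.StdOdd

open Cfsg Subgroup Cfsg.Agent.SignalizersComponents Cfsg.Agent.SignalizersComponents.Components
open Cfsg.Agent.SignalizersComponents.StandardTools Cfsg.Agent.StdG24.StdQuot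
open scoped commutatorElement

universe u

variable {G : Type u} [Group G] [Finite G]

theorem solvable_of_odd {O : Subgroup G} (hO : Odd (Nat.card O)) : Group.IsSolvable O :=
  Cfsg.Agent.S0205.result hO

/-- The hypothesis. -/
structure Hyp (L : Subgroup G) : Prop where
  std : IsStandardSubgroup L
  cyc : ∀ R : Sylow 2 ↥(centralizer (L : Set G)), IsCyclic ↥(R : Subgroup ↥(centralizer (L : Set G)))

namespace Hyp

variable {L : Subgroup G}

theorem exists_inv (h : Hyp L) : ∃ t ∈ centralizer (L : Set G), orderOf t = 2 := by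
  have : Fact (Nat.Prime 2) := ⟨Nat.prime_two⟩
  obtain ⟨x, hx⟩ := exists_prime_orderOf_dvd_card' (G := ↥(centralizer (L : Set G))) 2 h.std.2.1.1.two_dvd
  exact ⟨x, x.2, by rwa [orderOf_coe]⟩

/-- two commuting involutions of `C(L)` are equal -/
theorem eq_of_comm (h : Hyp L) {s t : G} (hs : s ∈ centralizer (L : Set G)) (ht : t ∈ centralizer (L : Set G))
    (hs1 : s ≠ 1) (ht1 : t ≠ 1) (hs2 : s * s = 1) (ht2 : t * t = 1) (hst : s * t = t * s) : s = t := by
  have : Fact (Nat.Prime 2) := ⟨Nat.prime_two⟩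
  let s' : ↥(centralizer (L : Set G)) := ⟨s, hs⟩
  let t' : ↥(centralizer (L : Set G)) := ⟨t, ht⟩
  have hc : s' * t' = t' * s' := Subtype.ext hst
  have h1 : IsPGroup 2 (closure ({s', t'} : Set ↥(centralizer (L : Set G)))) := by
    intro ⟨x, hx⟩
    refine ⟨1, ?_⟩
    have key : ∀ x ∈ closure ({s', t'} : Set ↥(centralizer (L : Set G))),
        x * x = 1 ∧ x * s' = s' * x ∧ x * t' = t' * x := by
      intro x hx
      induction hx using closure_induction with
      | mem x hx =>
        rcases hx with rfl | rfl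
        · exact ⟨Subtype.ext hs2, rfl, hc⟩
        · exact ⟨Subtype.ext ht2, hc.symm, rfl⟩
      | one => simp
      | mul x y hx hy h1 h2 =>
        have hxy : y * x = x * y := by
          have hmem : y ∈ centralizer ({x} : Set ↥(centralizer (L : Set G))) := by
            have : closure ({s', t'} : Set ↥(centralizer (L : Set G))) ≤ centralizer ({x} : Set _) := by
              rw [closure_le]
              rintro z (rfl | rfl)
              · exact mem_centralizer_singleton_iff.2 h1.2.1.symm
              · exact mem_centralizer_singleton_iff.2 h1.2.2.symm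
            exact this hy
          exact mem_centralizer_singleton_iff.1 hmem
        refine ⟨?_, ?_, ?_⟩
        · calc x * y * (x * y) = x * (y * x) * y := by group
            _ = (x * x) * (y * y) := by rw [hxy]; group
            _ = 1 := by rw [h1.1, h2.1, one_mul]
        · rw [mul_assoc, h2.2.1, ← mul_assoc, h1.2.1, mul_assoc]
        · rw [mul_assoc, h2.2.2, ← mul_assoc, h1.2.2, mul_assoc]
      | inv x hx h1 =>
        have : x⁻¹ = x := inv_eq_of_mul_eq_one_right h1.1
        rw [this]; exact h1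
    apply Subtype.ext
    change x ^ 2 ^ 1 = 1
    rw [pow_one, pow_two]
    exact (key x hx).1
  obtain ⟨R, hR⟩ := h1.exists_le_sylow
  have hcR := h.cyc R
  have hsR : s' ∈ (R : Subgroup _) := hR (subset_closure (by simp))
  have htR : t' ∈ (R : Subgroup _) := hR (subset_closure (by simp))
  have h2 : s' = t' := Cfsg.Agent.Classification.IdU.Gen.eq_of_sq_of_isCyclic (R : Subgroup _) hcR hsR htR
    (Subtype.ext hs2) (Subtype.ext ht2) (fun hh => hs1 (congrArg Subtype.val hh)) (fun hh => ht1 (congrArg Subtype.val hh))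
  exact congrArg Subtype.val h2

theorem ne_bot (h : Hyp L) : L ≠ ⊥ := StandardTrichotomy.ne_bot h.std

/-- a subgroup of odd order does not contain `L` -/
theorem not_le (h : Hyp L) {O : Subgroup G} (hO : Odd (Nat.card O)) : ¬ L ≤ O := by
  intro hle
  have h1 : Group.IsSolvable O := solvable_of_odd hO
  have h2 : Group.IsSolvable L := Group.isSolvable_of_isSolvable_injective (Subgroup.inclusion_injective hle)
  exact quasisimple_not_isSolvable h.std.1 h2

theorem cent_le (h : Hyp L) {t : G} (ht : orderOf t = 2) (htL : t ∈ centralizer (L : Set G)) :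
    centralizer ({t} : Set G) ≤ normalizer (L : Set G) :=
  StandardTrichotomy.centralizer_involution_le h.std ht htL

theorem le_cent (_h : Hyp L) {t : G} (htL : t ∈ centralizer (L : Set G)) : L ≤ centralizer ({t} : Set G) := by
  intro l hl
  rw [mem_centralizer_singleton_iff]
  exact mem_centralizer_iff.1 htL l hl

/-- elements of an odd normal subgroup commuting with `t` centralize `L` -/
theorem cent_of_fix (h : Hyp L) {t : G} (ht : orderOf t = 2) (htL : t ∈ centralizer (L : Set G)) {O : Subgroup G}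
    (hOn : O.Normal) (hO : Odd (Nat.card O)) {x : G} (hx : x ∈ O) (hxt : x * t = t * x) :
    x ∈ centralizer (L : Set G) := by
  have h1 : O ⊓ centralizer ({t} : Set G) ≤ normalizer (L : Set G) := inf_le_right.trans (h.cent_le ht htL)
  have h2 : L ≤ normalizer ((O ⊓ centralizer ({t} : Set G) : Subgroup G) : Set G) := by
    intro l hl
    have hl' := h.le_cent htL hl
    refine mem_normalizer_fintype fun y hy => ?_
    exact ⟨hOn.conj_mem y hy.1 l, (centralizer ({t} : Set G)).mul_mem ((centralizer ({t} : Set G)).mul_mem hl' hy.2)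
      ((centralizer ({t} : Set G)).inv_mem hl')⟩
  rcases le_or_le_centralizer h.std.1 h1 h2 with h3 | h3
  · exact absurd (h3.trans inf_le_left) (h.not_le hO)
  · exact h3 ⟨hx, mem_centralizer_singleton_iff.2 hxt⟩

/-- the elements commuting with `L` modulo `O` -/
def chat (L O : Subgroup G) [O.Normal] : Subgroup G :=
  (centralizer ((L.map (QuotientGroup.mk' O) : Subgroup (G ⧸ O)) : Set (G ⧸ O))).comap (QuotientGroup.mk' O)

theorem mem_chat {O : Subgroup G} [O.Normal] {x : G} : x ∈ chat L O ↔ ∀ l ∈ L, ⁅x, l⁆ ∈ O := by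
  unfold chat
  rw [mem_comap, mem_centralizer_iff]
  constructor
  · intro hx l hl
    rw [← QuotientGroup.ker_mk' O, MonoidHom.mem_ker, map_commutatorElement, commutatorElement_eq_one_iff_mul_comm]
    exact (hx _ ⟨l, hl, rfl⟩).symm
  · rintro hx _ ⟨l, hl, rfl⟩
    have h1 := hx l hl
    rw [← QuotientGroup.ker_mk' O, MonoidHom.mem_ker, map_commutatorElement, commutatorElement_eq_one_iff_mul_comm] at h1
    exact h1.symm

theorem centralizer_le_chat {O : Subgroup G} [O.Normal] : centralizer (L : Set G) ≤ chat L O := by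
  intro x hx
  rw [mem_chat]
  intro l hl
  have : ⁅x, l⁆ = 1 := commutatorElement_eq_one_iff_mul_comm.2 (mem_centralizer_iff.1 hx l hl).symm
  rw [this]
  exact one_mem _

/-- an odd normal subgroup meets `L` in central elements -/
theorem inf_le_centralizer (h : Hyp L) {O : Subgroup G} (hOn : O.Normal) (hO : Odd (Nat.card O)) :
    O ⊓ L ≤ centralizer (L : Set G) := by
  have h3 : (O.subgroupOf L).Normal := inferInstance
  rcases quasisimple_normal h.std.1 _ h3 with h | h'
  · exact absurd (subgroupOf_eq_top.mp h) (Hyp.not_le (by assumption) hO)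
  · intro x hx
    rw [mem_centralizer_iff]
    intro y hy
    have hxc : (⟨x, hx.2⟩ : L) ∈ center L := h' (mem_subgroupOf.mpr hx.1)
    exact congrArg Subtype.val (mem_center_iff.mp hxc ⟨y, hy⟩)

theorem chat_inf_le (h : Hyp L) {O : Subgroup G} [hOn : O.Normal] (hO : Odd (Nat.card O)) :
    chat L O ⊓ normalizer (L : Set G) ≤ centralizer (L : Set G) := by
  rw [← commutator_eq_bot_iff_le_centralizer]
  refine commutator_eq_bot_of_commutator_commutator_eq_bot h.std.1.1 ?_
  rw [commutator_eq_bot_iff_le_centralizer]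
  refine le_trans (le_inf ?_ ?_) (h.inf_le_centralizer hOn hO)
  · rw [commutator_le]
    exact fun x hx l hl => mem_chat.1 hx.1 l hl
  · exact le_normalizer_iff_commutator_le_right.mp inf_le_right

/-- A Sylow 2-subgroup of `C(L)` is a maximal 2-subgroup of `chat L O`. -/
theorem sylow_max (h : Hyp L) {O : Subgroup G} [hOn : O.Normal] (hO : Odd (Nat.card O))
    (R : Sylow 2 ↥(centralizer (L : Set G))) {Q : Subgroup G} (hQ : IsPGroup 2 Q) (hQc : Q ≤ chat L O)
    (hRQ : (R : Subgroup ↥(centralizer (L : Set G))).map (centralizer (L : Set G)).subtype ≤ Q) :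
    Q = (R : Subgroup ↥(centralizer (L : Set G))).map (centralizer (L : Set G)).subtype := by
  set S := (R : Subgroup ↥(centralizer (L : Set G))).map (centralizer (L : Set G)).subtype with hS
  by_contra hne
  have h1 := StandardTrichotomy.lt_inf_normalizer hQ (lt_of_le_of_ne hRQ (Ne.symm hne))
  obtain ⟨x, hx, hxS⟩ := SetLike.exists_of_lt h1
  have hSC : S ≤ centralizer (L : Set G) := map_subtype_le _
  have hSe : Even (Nat.card S) := by
    rw [← Nat.card_congr ((R : Subgroup _).equivMapOfInjective _ (centralizer (L : Set G)).subtype_injective).toEquiv]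
    have h2 := h.std.2.1.1
    have : Fact (Nat.Prime 2) := ⟨Nat.prime_two⟩
    have h3 := R.card_eq_multiplicity
    have h4 : 1 ≤ (Nat.card ↥(centralizer (L : Set G))).factorization 2 :=
      (Nat.prime_two.dvd_iff_one_le_factorization Nat.card_pos.ne').1 h2.two_dvd
    rw [even_iff_two_dvd]
    change 2 ∣ Nat.card (R : Subgroup ↥(centralizer (L : Set G)))
    rw [h3]
    exact dvd_pow_self 2 (by omega)
  have hxN : x ∈ normalizer (L : Set G) := normalizer_le_of_even h.std hSC hSe hx.2
  have hxC : x ∈ centralizer (L : Set G) := h.chat_inf_le hO ⟨hQc hx.1, hxN⟩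
  -- `⟨S, x⟩` is a 2-subgroup of `C(L)`
  have h5 : IsPGroup 2 ((Q ⊓ centralizer (L : Set G)).subgroupOf (centralizer (L : Set G))) := by
    refine IsPGroup.of_injective (hQ.to_le inf_le_left) ((Q ⊓ centralizer (L : Set G)).subgroupOfEquivOfLe inf_le_right).toMonoidHom
      (MulEquiv.injective _)
  have h6 := R.is_maximal' h5 (by
    intro y hy
    rw [mem_subgroupOf]
    exact ⟨hRQ ⟨y, hy, rfl⟩, y.2⟩)
  apply hxS
  have h7 : (⟨x, hxC⟩ : ↥(centralizer (L : Set G))) ∈ (Q ⊓ centralizer (L : Set G)).subgroupOf (centralizer (L : Set G)) :=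
    mem_subgroupOf.2 ⟨hx.1, hxC⟩
  rw [h6] at h7
  exact ⟨_, h7, rfl⟩

/-- surjection onto the centralizer of the image -/
def chatHom (L O : Subgroup G) [O.Normal] :
    ↥(chat L O) →* ↥(centralizer ((L.map (QuotientGroup.mk' O) : Subgroup (G ⧸ O)) : Set (G ⧸ O))) :=
  ((QuotientGroup.mk' O).comp (chat L O).subtype).codRestrict _ fun x => x.2

theorem chatHom_surjective (L O : Subgroup G) [O.Normal] : Function.Surjective (chatHom L O) := by
  rintro ⟨y, hy⟩
  obtain ⟨x, rfl⟩ := QuotientGroup.mk'_surjective O y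
  exact ⟨⟨x, hy⟩, rfl⟩

omit [Finite G] in
/-- cyclic Sylow 2-subgroups of an image -/
theorem cyc_of_surj {X Y : Type*} [Group X] [Finite X] [Group Y] {f : X →* Y} (hf : Function.Surjective f)
    (Q : Sylow 2 X) (hQ : IsCyclic ↥(Q : Subgroup X)) (R : Sylow 2 Y) : IsCyclic ↥(R : Subgroup Y) := by
  have : Fact (Nat.Prime 2) := ⟨Nat.prime_two⟩
  have : Finite Y := Finite.of_surjective f hf
  have h1 : IsCyclic ↥((Q : Subgroup X).map f) :=
    isCyclic_of_surjective (f.subgroupMap (Q : Subgroup X)) (MonoidHom.subgroupMap_surjective _ _)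
  have h2 : ((Q.mapSurjective hf : Sylow 2 Y) : Subgroup Y) = (Q : Subgroup X).map f := Sylow.coe_mapSurjective hf Q
  rw [← h2] at h1
  exact isCyclic_of_surjective (Sylow.equiv (Q.mapSurjective hf) R) (Sylow.equiv (Q.mapSurjective hf) R).surjective

/-- **The centralizer of the image has cyclic Sylow 2-subgroups.** -/
theorem cyc_map (h : Hyp L) {O : Subgroup G} [hOn : O.Normal] (hO : Odd (Nat.card O))
    (R' : Sylow 2 ↥(centralizer ((L.map (QuotientGroup.mk' O) : Subgroup (G ⧸ O)) : Set (G ⧸ O)))) :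
    IsCyclic ↥(R' : Subgroup ↥(centralizer ((L.map (QuotientGroup.mk' O) : Subgroup (G ⧸ O)) : Set (G ⧸ O)))) := by
  have : Fact (Nat.Prime 2) := ⟨Nat.prime_two⟩
  obtain ⟨R⟩ : Nonempty (Sylow 2 ↥(centralizer (L : Set G))) := inferInstance
  set S := (R : Subgroup ↥(centralizer (L : Set G))).map (centralizer (L : Set G)).subtype with hS
  have hSC : S ≤ centralizer (L : Set G) := map_subtype_le _
  have hSc : S ≤ chat L O := hSC.trans centralizer_le_chat
  have eS : ↥(R : Subgroup ↥(centralizer (L : Set G))) ≃* S :=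
    (R : Subgroup _).equivMapOfInjective _ (centralizer (L : Set G)).subtype_injective
  have hSp : IsPGroup 2 S := R.isPGroup'.of_equiv eS
  have hSp' : IsPGroup 2 (S.subgroupOf (chat L O)) := hSp.of_equiv (subgroupOfEquivOfLe hSc).symm
  obtain ⟨Q, hQ⟩ := hSp'.exists_le_sylow
  have hQm : (Q : Subgroup ↥(chat L O)).map (chat L O).subtype = S := by
    refine h.sylow_max hO R (Q.isPGroup'.map _) (map_subtype_le _) ?_
    intro y hy
    exact ⟨⟨y, hSc hy⟩, hQ (mem_subgroupOf.2 hy), rfl⟩
  have hcS : IsCyclic S := by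
    have := h.cyc R
    exact isCyclic_of_surjective eS eS.surjective
  have hcQ : IsCyclic ↥(Q : Subgroup ↥(chat L O)) := by
    have eQ : ↥(Q : Subgroup ↥(chat L O)) ≃* ↥((Q : Subgroup ↥(chat L O)).map (chat L O).subtype) :=
      (Q : Subgroup _).equivMapOfInjective _ (chat L O).subtype_injective
    rw [hQm] at eQ
    exact isCyclic_of_surjective eQ.symm eQ.symm.surjective
  exact cyc_of_surj (chatHom_surjective L O) Q hcQ R'

end Hyp

/-- involutions of a subgroup with cyclic Sylow 2-subgroups are conjugate -/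
theorem exists_conj_of_cyc {X : Type*} [Group X] [Finite X] {C : Subgroup X}
    (hc : ∀ R : Sylow 2 ↥C, IsCyclic ↥(R : Subgroup ↥C)) {s t : X} (hs : s ∈ C) (ht : t ∈ C)
    (hs1 : s ≠ 1) (ht1 : t ≠ 1) (hs2 : s * s = 1) (ht2 : t * t = 1) : ∃ r ∈ C, r * t * r⁻¹ = s := by
  have : Fact (Nat.Prime 2) := ⟨Nat.prime_two⟩
  have h2 : IsPGroup 2 (zpowers (⟨t, ht⟩ : C)) := by
    apply IsPGroup.of_card (n := 1)
    rw [Nat.card_zpowers, pow_one, orderOf_mk]
    exact orderOf_eq_prime (by rw [pow_two]; exact ht2) ht1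
  obtain ⟨Q, hQ⟩ := h2.exists_le_sylow
  have hcQ := hc Q
  have htQ : (⟨t, ht⟩ : C) ∈ (Q : Subgroup C) := hQ (mem_zpowers _)
  have e : ((Q : Subgroup C).map C.subtype).subgroupOf C = Q := by
    rw [subgroupOf, comap_map_eq_self_of_injective C.subtype_injective]
  refine Cfsg.Agent.Classification.IdU.Gen.exists_conj C ((Q : Subgroup C).map C.subtype) (Q.isPGroup'.map _)
    (map_subtype_le _) ?_ ?_ hs hs2 hs1
  · rintro _ ⟨z, hz, rfl⟩ hz2 hz1
    have := Cfsg.Agent.Classification.IdU.Gen.eq_of_sq_of_isCyclic (Q : Subgroup C) hcQ hz htQ (Subtype.ext hz2)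
      (Subtype.ext ht2) (fun hh => hz1 (congrArg Subtype.val hh)) (fun hh => ht1 (congrArg Subtype.val hh))
    exact congrArg Subtype.val this
  · rw [relIndex, e]
    exact Q.not_dvd_index

namespace Hyp

variable {L : Subgroup G}

/-- The image of `t`. -/
theorem map_mem {t : G} (htL : t ∈ centralizer (L : Set G)) {O : Subgroup G} [O.Normal] :
    QuotientGroup.mk' O t ∈ centralizer ((L.map (QuotientGroup.mk' O) : Subgroup (G ⧸ O)) : Set (G ⧸ O)) :=
  centralizer_le_chat htL

theorem map_ne_one {t : G} (ht : orderOf t = 2) {O : Subgroup G} [O.Normal] (hO : Odd (Nat.card O)) :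
    QuotientGroup.mk' O t ≠ 1 := by
  intro h1
  rw [← MonoidHom.mem_ker, QuotientGroup.ker_mk'] at h1
  have h2 : orderOf t ∣ Nat.card O := by
    have := orderOf_dvd_natCard (⟨t, h1⟩ : O)
    rwa [orderOf_mk] at this
  rw [ht] at h2
  exact (Nat.not_even_iff_odd.2 hO) (even_iff_two_dvd.2 h2)

theorem sq_eq_one {t : G} (ht : orderOf t = 2) : t * t = 1 := by
  rw [← pow_two, ← ht]; exact pow_orderOf_eq_one t

/-- elements of `G ⧸ O` commuting with the image of `t` lift to elements commuting with `t` -/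
theorem exists_lift {t : G} (ht : orderOf t = 2) {O : Subgroup G} [hOn : O.Normal] (hO : Odd (Nat.card O)) {y : G ⧸ O}
    (hy : y * QuotientGroup.mk' O t = QuotientGroup.mk' O t * y) :
    ∃ x : G, QuotientGroup.mk' O x = y ∧ x * t = t * x := by
  obtain ⟨g, rfl⟩ := QuotientGroup.mk'_surjective O y
  have ht2 := sq_eq_one ht
  have h1 : (g * t * g⁻¹) * t ∈ O := by
    rw [← QuotientGroup.ker_mk' O, MonoidHom.mem_ker, map_mul, map_mul, map_mul, map_inv, hy, mul_inv_cancel_right, ← map_mul,
      ht2, map_one]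
  obtain ⟨s, hs, hst⟩ := exists_conj_of_congr hO (x := g * t * g⁻¹) (y := t)
    (by rw [show g * t * g⁻¹ * (g * t * g⁻¹) = g * (t * t) * g⁻¹ by group, ht2]; group) ht2 h1
  refine ⟨s * g, ?_, ?_⟩
  · have : QuotientGroup.mk' O s = 1 := by rw [← MonoidHom.mem_ker, QuotientGroup.ker_mk']; exact hs
    rw [map_mul, this, one_mul]
  · calc s * g * t = s * (g * t * g⁻¹) * s⁻¹ * (s * g) := by group
      _ = t * (s * g) := by rw [hst]

/-- elements commuting with the image of `t` normalize the image of `L` -/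
theorem norm_map (h : Hyp L) {t : G} (ht : orderOf t = 2) (htL : t ∈ centralizer (L : Set G)) {O : Subgroup G}
    [hOn : O.Normal] (hO : Odd (Nat.card O)) {y : G ⧸ O} (hy : y * QuotientGroup.mk' O t = QuotientGroup.mk' O t * y) :
    y ∈ normalizer ((L.map (QuotientGroup.mk' O) : Subgroup (G ⧸ O)) : Set (G ⧸ O)) := by
  obtain ⟨x, rfl, hx⟩ := exists_lift ht hO hy
  have h1 : x ∈ normalizer (L : Set G) := h.cent_le ht htL (mem_centralizer_singleton_iff.2 hx)
  refine mem_normalizer_fintype ?_
  rintro _ ⟨a, ha, rfl⟩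
  rw [← map_inv, ← map_mul, ← map_mul]
  exact ⟨_, (mem_normalizer_iff.1 h1 a).1 ha, rfl⟩

/-- elements moving an involution of the centralizer of the image into this centralizer normalize the image of `L` -/
theorem norm_of_conj (h : Hyp L) {O : Subgroup G} [hOn : O.Normal] (hO : Odd (Nat.card O)) {y g : G ⧸ O}
    (hy : y ∈ centralizer ((L.map (QuotientGroup.mk' O) : Subgroup (G ⧸ O)) : Set (G ⧸ O))) (hy1 : y ≠ 1)
    (hy2 : y * y = 1)
    (hyg : g * y * g⁻¹ ∈ centralizer ((L.map (QuotientGroup.mk' O) : Subgroup (G ⧸ O)) : Set (G ⧸ O))) :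
    g ∈ normalizer ((L.map (QuotientGroup.mk' O) : Subgroup (G ⧸ O)) : Set (G ⧸ O)) := by
  obtain ⟨t, htL, ht⟩ := h.exists_inv
  have ht2 := sq_eq_one ht
  have hπ : QuotientGroup.mk' O t * QuotientGroup.mk' O t = 1 := by rw [← map_mul, ht2, map_one]
  obtain ⟨r, hr, hr'⟩ := exists_conj_of_cyc (h.cyc_map hO) hy (map_mem htL) hy1 (map_ne_one ht hO) hy2 hπ
  obtain ⟨r', hr1, hr1'⟩ := exists_conj_of_cyc (h.cyc_map hO) hyg (map_mem htL) (by
    intro h1
    apply hy1
    rw [mul_inv_eq_one] at h1
    exact mul_left_cancel (h1.trans (mul_one g).symm)) (map_ne_one ht hO) (by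
      rw [show g * y * g⁻¹ * (g * y * g⁻¹) = g * (y * y) * g⁻¹ by group, hy2]; group) hπ
  -- `r'⁻¹ g r` commutes with the image of `t`
  have h1 : (r'⁻¹ * g * r) * QuotientGroup.mk' O t = QuotientGroup.mk' O t * (r'⁻¹ * g * r) := by
    calc (r'⁻¹ * g * r) * QuotientGroup.mk' O t = r'⁻¹ * (g * (r * QuotientGroup.mk' O t * r⁻¹) * g⁻¹) * g * r := by group
      _ = r'⁻¹ * (r' * QuotientGroup.mk' O t * r'⁻¹) * g * r := by rw [hr', hr1']
      _ = QuotientGroup.mk' O t * (r'⁻¹ * g * r) := by group
  have h2 := h.norm_map ht htL hO h1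
  have h3 : g = r' * (r'⁻¹ * g * r) * r⁻¹ := by group
  rw [h3]
  exact mul_mem (mul_mem (centralizer_le_normalizer _ hr1) h2) (inv_mem (centralizer_le_normalizer _ hr))

theorem map_ne_bot (h : Hyp L) {O : Subgroup G} [O.Normal] (hO : Odd (Nat.card O)) :
    L.map (QuotientGroup.mk' O) ≠ ⊥ := by
  intro h1
  rw [Subgroup.map_eq_bot_iff, QuotientGroup.ker_mk'] at h1
  exact h.not_le hO h1

theorem quasisimple_map (h : Hyp L) {O : Subgroup G} [O.Normal] (hO : Odd (Nat.card O)) :
    IsQuasisimple (L.map (QuotientGroup.mk' O)) := by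
  have : Nontrivial (L.map (QuotientGroup.mk' O)) := (nontrivial_iff_ne_bot _).2 (h.map_ne_bot hO)
  exact ComponentImage.isQuasisimple_of_surjective h.std.1 ((QuotientGroup.mk' O).subgroupMap L)
    (MonoidHom.subgroupMap_surjective _ _) this

/-- **The image of `L` is a standard subgroup.** -/
theorem std_map (h : Hyp L) {O : Subgroup G} [hOn : O.Normal] (hO : Odd (Nat.card O)) :
    IsStandardSubgroup (L.map (QuotientGroup.mk' O)) := by
  obtain ⟨t, htL, ht⟩ := h.exists_inv
  have ht2 := sq_eq_one ht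
  set π := QuotientGroup.mk' O with hπ
  have hπ2 : π t * π t = 1 := by rw [← map_mul, ht2, map_one]
  have hπ1 : π t ≠ 1 := map_ne_one ht hO
  have hπC : π t ∈ centralizer ((L.map π : Subgroup (G ⧸ O)) : Set (G ⧸ O)) := map_mem htL
  refine ⟨h.quasisimple_map hO, ⟨?_, ?_⟩, ?_, ?_⟩
  · have h3 : orderOf (⟨π t, hπC⟩ : centralizer ((L.map π : Subgroup (G ⧸ O)) : Set (G ⧸ O))) = 2 :=
      orderOf_eq_prime (by rw [pow_two]; exact Subtype.ext hπ2) fun h4 => hπ1 (congrArg Subtype.val h4)
    rw [even_iff_two_dvd, ← h3]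
    exact orderOf_dvd_natCard _
  · intro g hg
    by_contra hodd
    rw [Nat.not_odd_iff_even, even_iff_two_dvd] at hodd
    have : Fact (Nat.Prime 2) := ⟨Nat.prime_two⟩
    obtain ⟨y, hy⟩ := exists_prime_orderOf_dvd_card' 2 hodd
    obtain ⟨hy1, hy2⟩ := (orderOf_eq_prime_iff (p := 2)).1 hy
    apply hg
    obtain ⟨⟨y, hyC, z, hzC, hzy⟩, rfl⟩ : ∃ w, w = y := ⟨y, rfl⟩
    change g * z * g⁻¹ = y at hzy
    have hz2 : z * z = 1 := by
      have h1 : y * y = 1 := by
        have := congrArg Subtype.val hy1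
        rwa [SubgroupClass.coe_pow, pow_two] at this
      rw [← hzy] at h1
      calc z * z = g⁻¹ * (g * z * g⁻¹ * (g * z * g⁻¹)) * g := by group
        _ = 1 := by rw [h1]; group
    have hz1 : z ≠ 1 := by
      rintro rfl
      apply hy2
      apply Subtype.ext
      change y = 1
      rw [← hzy]; group
    exact Cfsg.Agent.StdG24.StdQuot.centralizer_normalizer_le (h.norm_of_conj hO hzC hz1 hz2 (by rw [hzy]; exact hyC))
  · intro g hg h1
    -- the conjugate is a perfect subgroup of the centralizer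
    have hle : (L.map π).map (MulAut.conj g).toMonoidHom ≤ centralizer ((L.map π : Subgroup (G ⧸ O)) : Set (G ⧸ O)) := by
      rw [← commutator_eq_bot_iff_le_centralizer, commutator_comm]
      exact h1
    set M := (L.map π).map (MulAut.conj g).toMonoidHom with hM
    have hq : IsQuasisimple M :=
      isQuasisimple_of_mulEquiv ((L.map π).equivMapOfInjective _ (MulAut.conj g).injective) (h.quasisimple_map hO)
    have : Fact (Nat.Prime 2) := ⟨Nat.prime_two⟩
    obtain ⟨P⟩ : Nonempty (Sylow 2 M) := inferInstance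
    have hcyc : IsCyclic P := by
      let f : M →* ↥(centralizer ((L.map π : Subgroup (G ⧸ O)) : Set (G ⧸ O))) := Subgroup.inclusion hle
      have hf : Function.Injective f := Subgroup.inclusion_injective hle
      obtain ⟨R, hR⟩ := (P.isPGroup'.map f).exists_le_sylow
      have := h.cyc_map hO R
      have h2 : IsCyclic ↥((P : Subgroup M).map f) :=
        isCyclic_of_injective (Subgroup.inclusion hR) (Subgroup.inclusion_injective hR)
      exact isCyclic_of_surjective ((P : Subgroup M).equivMapOfInjective f hf).symm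
        ((P : Subgroup M).equivMapOfInjective f hf).symm.surjective
    have hss := Cfsg.Agent.QTComp.Quat.subsingleton_of_cyclic (fun X _ _ hX => Cfsg.Agent.S0205.result hX)
      hq.1.commutator_eq_top P hcyc
    exact not_nontrivial_iff_subsingleton.2 hss (quasisimple_nontrivial hq)
  · refine le_antisymm Cfsg.Agent.StdG24.StdQuot.centralizer_normalizer_le ?_
    intro g hg
    exact h.norm_of_conj hO hπC hπ1 hπ2 ((mem_normalizer_iff.1 hg _).1 hπC)

theorem hyp_map (h : Hyp L) {O : Subgroup G} [hOn : O.Normal] (hO : Odd (Nat.card O)) :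
    Hyp (L.map (QuotientGroup.mk' O)) := ⟨h.std_map hO, h.cyc_map hO⟩

/-- The image of `L` is normal iff `L O` is. -/
theorem normal_of_map {O : Subgroup G} [O.Normal] (hn : (L.map (QuotientGroup.mk' O)).Normal) : (L ⊔ O).Normal := by
  have h1 := hn.comap (QuotientGroup.mk' O)
  rwa [comap_map_eq, QuotientGroup.ker_mk'] at h1

end Hyp

end Cfsg.Agent.H293.StdOdd
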