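import Cfsg.Prelude.Def_EvenType
import Cfsg.Agent.Mrg.Omega.ML.LieRow.Lie
import Cfsg.Agent.FixBN.ReeSplit
import Cfsg.Agent.FixBN.FixSplit
import Cfsg.Agent.Schreier.Balance
import Cfsg.Agent.CharactersDeep.QuatSylow

/-!
# A quasisimple normal subgroup of the fixed subgroup of an involutory automorphism

* `Cfg α A` : `α` is an automorphism of order 2 of the finite group `X`, `A ⊴ C_X(α)` is quasisimple, `C(A) ∩ C_X(α)` has
  cyclic Sylow 2-subgroups;
* `Cfg.card_dvd` : if `X` has a split (B,N)-pair of odd characteristic `p`, every `p`-subgroup of `C_X(α)` has an order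
  dividing `|Aut(A / Z(A))|`;
* `Cfg.two_mul_dvd` : if `α` is inner, `2 |A / Z(A)|` divides `|X|`.
-/

set_option autoImplicit false

namespace Cfsg.Agent.H293

open Cfsg Subgroup Cfsg.Agent.FixBN

universe u

/-- `A` is a quasisimple normal subgroup of the fixed subgroup of the automorphism `α` of order two. -/
structure Cfg {X : Type u} [Group X] [Finite X] (α : MulAut X) (A : Subgroup X) : Prop where
  sq : α * α = 1
  ne : α ≠ 1
  le : A ≤ fixedSubgroup α
  nrm : ∀ g ∈ fixedSubgroup α, ∀ a ∈ A, g * a * g⁻¹ ∈ A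
  qs : IsQuasisimple ↥A
  cyc : ∀ R : Sylow 2 ↥(centralizer (A : Set X) ⊓ fixedSubgroup α),
    IsCyclic ↥(R : Subgroup ↥(centralizer (A : Set X) ⊓ fixedSubgroup α))

namespace Cfg

variable {X : Type u} [Group X] [Finite X] {α : MulAut X} {A : Subgroup X}

theorem apply_apply (h : Cfg α A) (x : X) : α (α x) = x := DFunLike.congr_fun h.sq x

theorem le_normalizer (h : Cfg α A) : fixedSubgroup α ≤ normalizer (A : Set X) := by
  intro g hg
  rw [mem_normalizer_iff]
  intro a
  constructor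
  · exact h.nrm g hg a
  · intro h1
    have h2 := h.nrm g⁻¹ (inv_mem hg) _ h1
    have e : g⁻¹ * (g * a * g⁻¹) * g⁻¹⁻¹ = a := by group
    rwa [e] at h2

/-- a split (B,N)-pair -/
theorem hasSplit_of_lie {p : ℕ} (hp : p.Prime) (hp2 : p ≠ 2) {L : Type*} [Group L] [IsSimpleGroup L]
    (h : IsLieTypeChar p L) : HasSplit p L := by
  rcases Nodes.RGDLie.hasRGD_of_lie h with h1 | ⟨h2, -⟩ | ⟨h2, -⟩ | ⟨rfl, h1⟩
  · exact Omega.ML.LieRow.hasSplit_of_rgd hp h1
  · exact absurd h2 hp2
  · exact absurd h2 hp2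
  · exact ReeSplit.hasSplit_of_isoRee h1

/-- the odd core of the centralizer -/
theorem exists_core (h : Cfg α A) : ∃ O : Subgroup X, O ≤ centralizer (A : Set X) ⊓ fixedSubgroup α ∧ Odd (Nat.card O) ∧
    (∀ x ∈ centralizer (A : Set X) ⊓ fixedSubgroup α, Odd (orderOf x) → x ∈ O) ∧
    ∀ g ∈ fixedSubgroup α, ∀ x ∈ O, g * x * g⁻¹ ∈ O := by
  obtain ⟨R⟩ : Nonempty (Sylow 2 ↥(centralizer (A : Set X) ⊓ fixedSubgroup α)) := inferInstance
  obtain ⟨K, hK1, -, hK3⟩ := Cfsg.Agent.CharactersDeep.QuatSylow.exists_two_complement R (h.cyc R)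
  refine ⟨K.map (Subgroup.subtype _), map_subtype_le _, ?_, fun x hx ho => ⟨⟨x, hx⟩, ?_, rfl⟩, ?_⟩
  · rw [Subgroup.card_map_of_injective (Subgroup.subtype_injective _)]
    exact hK1
  · rw [SetLike.mem_coe, hK3, orderOf_mk]
    exact ho
  · rintro g hg _ ⟨⟨x, hx⟩, hxK, rfl⟩
    have hx' := mem_inf.1 hx
    have hgx : g * x * g⁻¹ ∈ centralizer (A : Set X) ⊓ fixedSubgroup α := by
      refine mem_inf.2 ⟨?_, mul_mem (mul_mem hg hx'.2) (inv_mem hg)⟩
      rw [mem_centralizer_iff]
      intro a ha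
      have h1 := h.nrm g⁻¹ (inv_mem hg) a ha
      rw [inv_inv] at h1
      have h2 := mem_centralizer_iff.1 hx'.1 _ h1
      calc a * (g * x * g⁻¹) = g * (g⁻¹ * a * g * x) * g⁻¹ := by group
        _ = g * (x * (g⁻¹ * a * g)) * g⁻¹ := by rw [h2]
        _ = _ := by group
    refine ⟨⟨g * x * g⁻¹, hgx⟩, ?_, rfl⟩
    rw [SetLike.mem_coe, hK3] at hxK ⊢
    rw [orderOf_mk] at hxK ⊢
    have e : orderOf (g * x * g⁻¹) = orderOf x := by
      have := orderOf_injective (MulAut.conj g).toMonoidHom (MulAut.conj g).injective x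
      simpa using this
    rwa [e]

/-- **The orders of the `p`-subgroups.** -/
theorem card_dvd (h : Cfg α A) {p : ℕ} [hp : Fact p.Prime] (hp2 : p ≠ 2) (hs : HasSplit p X) {V : Subgroup X}
    (hV : V ≤ fixedSubgroup α) (hVp : IsPGroup p V) : Nat.card V ∣ Nat.card (MulAut (↥A ⧸ center ↥A)) := by
  obtain ⟨O, hO, hodd, hmem, hnorm⟩ := h.exists_core
  have hfix := (fix_of_hasSplit hp2 hs α h.apply_apply (X := O) (fun x hx => (mem_inf.1 (hO hx)).2)
    (fun g hg x hx => hnorm g hg x hx) hodd).1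
  have hVN : V ≤ normalizer (A : Set X) := hV.trans h.le_normalizer
  let f : ↥V →* MulAut (↥A ⧸ center ↥A) :=
    (Cfsg.Agent.Schreier.Balance.quoAut ↥A).comp (A.normalizerMonoidHom.comp (Subgroup.inclusion hVN))
  refine Subgroup.card_dvd_of_injective f ?_
  rw [injective_iff_map_eq_one]
  intro v hv
  have h1 : A.normalizerMonoidHom (Subgroup.inclusion hVN v) = 1 :=
    Cfsg.Agent.Schreier.Balance.eq_one_of_quoAut_eq_one h.qs.1 hv
  have h2 : Subgroup.inclusion hVN v ∈ A.normalizerMonoidHom.ker := h1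
  rw [normalizerMonoidHom_ker, mem_subgroupOf] at h2
  have h3 : (v : X) ∈ centralizer (A : Set X) ⊓ fixedSubgroup α := mem_inf.2 ⟨h2, hV v.2⟩
  obtain ⟨k, hk⟩ := IsPGroup.iff_card.1 hVp
  have h4 : orderOf (v : X) ∣ p ^ k := by
    rw [orderOf_coe, ← hk]
    exact orderOf_dvd_natCard v
  obtain ⟨j, -, hj⟩ := (Nat.dvd_prime_pow hp.out).1 h4
  have h5 : (v : X) ∈ O := hmem _ h3 (by rw [hj]; exact (hp.out.odd_of_ne_two hp2).pow)
  have h6 : orderOf (v : X) ∣ Nat.card O := by
    have := orderOf_dvd_natCard (⟨(v : X), h5⟩ : O)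
    rwa [orderOf_mk] at this
  rw [hj] at h6
  have hj0 : j = 0 := by
    by_contra h0
    exact hfix ((dvd_pow_self p h0).trans h6)
  rw [hj0, pow_zero, orderOf_eq_one_iff] at hj
  exact Subtype.ext hj

/-- **Inner automorphisms.** -/
theorem two_mul_dvd (h : Cfg α A) {y : X} (hy : α = MulAut.conj y) (hZ : center X = ⊥) :
    2 * Nat.card (↥A ⧸ center ↥A) ∣ Nat.card X := by
  have hy1 : y ≠ 1 := by
    rintro rfl
    exact h.ne (by rw [hy, map_one])
  have hyy : y * y = 1 := by
    have h1 : y * y ∈ center X := by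
      rw [mem_center_iff]
      intro g
      have h2 := h.apply_apply g
      rw [hy, MulAut.conj_apply, MulAut.conj_apply] at h2
      calc g * (y * y) = (y * (y * g * y⁻¹) * y⁻¹) * (y * y) := by rw [h2]
        _ = y * y * g := by group
    rwa [hZ, mem_bot] at h1
  have hyA : ∀ a ∈ A, a * y = y * a := by
    intro a ha
    have h1 : α a = a := h.le ha
    rw [hy, MulAut.conj_apply, mul_inv_eq_iff_eq_mul] at h1
    exact h1.symm
  have hz : Nat.card (zpowers y) = 2 := by
    rw [Nat.card_zpowers]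
    exact orderOf_eq_prime (by rw [pow_two]; exact hyy) hy1
  have hcomm : ∀ (a : ↥A) (z : ↥(zpowers y)), Commute (A.subtype a) ((zpowers y).subtype z) := by
    rintro ⟨a, ha⟩ ⟨z, hz⟩
    obtain ⟨k, rfl⟩ := mem_zpowers_iff.1 hz
    exact (show Commute a y from hyA a ha).zpow_right k
  let f : ↥A × ↥(zpowers y) →* X := MonoidHom.noncommCoprod A.subtype (zpowers y).subtype hcomm
  have hfv : ∀ x : ↥A × ↥(zpowers y), f x = (x.1 : X) * x.2 := fun x => rfl
  have h1 : Nat.card f.ker ∣ Nat.card (center ↥A) := by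
    refine Subgroup.card_dvd_of_injective ((MonoidHom.fst _ _).comp f.ker.subtype |>.codRestrict (center ↥A) fun x => ?_) ?_
    · rw [mem_center_iff]
      intro b
      have h2 := hfv x.1
      have h3 : f x.1 = 1 := x.2
      rw [h3] at h2
      have h4 : ((x.1.1 : ↥A) : X) = (x.1.2 : X)⁻¹ := eq_inv_of_mul_eq_one_left h2.symm
      apply Subtype.ext
      show (b : X) * (x.1.1 : X) = (x.1.1 : X) * b
      rw [h4]
      exact ((hcomm b x.1.2).inv_right).eq
    · intro x x' he
      have h2 : x.1.1 = x'.1.1 := congrArg Subtype.val he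
      have h3 : ((x.1.1 : X)) * x.1.2 = 1 := x.2
      have h4 : ((x'.1.1 : X)) * x'.1.2 = 1 := x'.2
      apply Subtype.ext
      refine Prod.ext h2 (Subtype.ext ?_)
      rw [← h2, ← h3] at h4
      exact (mul_left_cancel h4).symm
  obtain ⟨k, hk⟩ := h1
  have h2 := Subgroup.card_mul_index f.ker
  rw [Subgroup.index_ker, Nat.card_prod, hz] at h2
  have h3 := Subgroup.card_eq_card_quotient_mul_card_subgroup (center ↥A)
  rw [hk] at h3
  have h4 : Nat.card f.range = 2 * Nat.card (↥A ⧸ center ↥A) * k := by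
    have h5 : 0 < Nat.card f.ker := Nat.card_pos
    apply Nat.eq_of_mul_eq_mul_left h5
    rw [h2, h3]; ring
  exact (Dvd.intro k h4.symm).trans (Subgroup.card_subgroup_dvd_card _)

/-- the order of the quotient divides the order of the group -/
theorem card_quot_dvd (A : Subgroup X) : Nat.card (↥A ⧸ center ↥A) ∣ Nat.card X :=
  (Subgroup.card_quotient_dvd_card _).trans (Subgroup.card_subgroup_dvd_card A)

end Cfg

end Cfsg.Agent.H293
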