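import Cfsg.Agent.H293.ClassG
import Cfsg.Agent.H293.Cfg
import Cfsg.Agent.H284.AltComp
import Cfsg.Agent.H284.CharTwoComp
import Cfsg.Agent.H78.TeFour
import Cfsg.Agent.H292.RowAll
import Cfsg.Agent.OrdDiv.Table

/-!
# The rows of the table: `A / Z(A)` has the order of `G₂(3)` or of `Sp₆(2)`

`h : Cfg α A`.

* `Cfg.comp`, `Cfg.eB`, `Cfg.card_B` : the component `B = A ∩ C_X(α)` of `C_X(α)`;
* `Cfg.not_alt` : `X` alternating (impossible for `G₂(3)` and `Sp₆(2)`);
* `Cfg.not_class` : `X` classical of odd characteristic;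
* `Cfg.not_exc_two` : `X` exceptional of characteristic two;
* `Cfg.class_two` : `X` classical of characteristic two;
* `Cfg.not_tits`.
-/

set_option autoImplicit false
set_option linter.unusedSectionVars false

namespace Cfsg.Agent.H293

open Subgroup Cfsg Cfsg.Lie Cfsg.Agent.OrdDiv Cfsg.Agent.H902 Cfsg.Agent.H902.Names Cfsg.Agent.H340
open Cfsg.Agent.H293.ClassG Cfsg.Agent.H292.Rows

universe u

/-- the two orders -/
def IsOrd (n : ℕ) : Prop := n = 4245696 ∨ n = 1451520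

theorem IsOrd.sh {n : ℕ} (h : IsOrd n) {X : Art.Sh} {p f : ℕ} (hr : Art.Real X p f n) :
    (X = .G2 ∧ p = 3 ∧ n = 4245696) ∨ (X = .C 3 ∧ p = 2 ∧ f = 1 ∧ n = 1451520) := by
  rcases h with rfl | rfl
  · obtain ⟨h1, h2, -⟩ := numG hr
    exact Or.inl ⟨h1, h2, rfl⟩
  · obtain ⟨h1, h2, h3⟩ := numS hr
    exact Or.inr ⟨h1, h2, h3, rfl⟩

theorem IsOrd.alt {n m : ℕ} (h : IsOrd n) (hm : 5 ≤ m) (h2 : 2 * n = m.factorial) : False := by
  rcases h with rfl | rfl
  · exact altG hm h2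
  · exact altS hm h2

/-- a simple group and its quotient by the centre -/
theorem card_quot_of_simple {S : Type*} [Group S] (hs : IsSimpleGroup S) (h1 : Nat.card (S ⧸ center S) ≠ 1) :
    Nat.card (S ⧸ center S) = Nat.card S := by
  rcases hs.eq_bot_or_eq_top_of_normal (center S) inferInstance with h | h
  · rw [h]
    exact Nat.card_congr (QuotientGroup.quotientBot).toEquiv
  · exfalso
    apply h1
    rw [h, ← Subgroup.index_eq_card, Subgroup.index_top]

namespace Cfg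

variable {X : Type u} [Group X] [Finite X] {α : MulAut X} {A : Subgroup X}

theorem comp (h : Cfg α A) : IsComponent (A.subgroupOf (fixedSubgroup α)) := by
  refine ⟨?_, SignalizersComponents.Components.isQuasisimple_of_mulEquiv (subgroupOfEquivOfLe h.le).symm h.qs⟩
  have hn : (A.subgroupOf (fixedSubgroup α)).Normal := by
    refine ⟨fun n hn g => ?_⟩
    rw [mem_subgroupOf] at hn ⊢
    exact h.nrm g g.2 n hn
  exact hn.isSubnormal

theorem card_B (h : Cfg α A) : Nat.card (↥(A.subgroupOf (fixedSubgroup α)) ⧸ center ↥(A.subgroupOf (fixedSubgroup α))) =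
    Nat.card (↥A ⧸ center ↥A) := by
  exact Nat.card_congr (Cfsg.Agent.LieClassical.OrthFinite.quotientCenterCongr (subgroupOfEquivOfLe h.le)).toEquiv

/-- **`X` is not alternating.** -/
theorem not_alt (h : Cfg α A) (hX : IsAlternating X) (ho : IsOrd (Nat.card (↥A ⧸ center ↥A))) : False := by
  obtain ⟨m, hm, ⟨e⟩⟩ := hX
  obtain ⟨k, j, hk, -, -, ⟨f⟩, -⟩ := Cfsg.Agent.H284.AltComp.table hm e h.sq h.ne h.comp
  rw [← h.card_B] at ho
  have hs : IsSimpleGroup ↥(alternatingGroup (Fin k)) :=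
    alternatingGroup.isSimpleGroup (by rw [Nat.card_eq_fintype_card, Fintype.card_fin]; exact hk)
  have hA : IsSimpleGroup ↥(A.subgroupOf (fixedSubgroup α)) := f.isSimpleGroup
  rw [card_quot_of_simple hA (by rcases ho with h1 | h1 <;> (rw [h1]; norm_num))] at ho
  exact ho.alt hk (alt_card hk f).symm

/-- **`X` is not classical of odd characteristic.** -/
theorem not_class (h : Cfg α A) {r : ℕ} (hr : r.Prime) (hr2 : r ≠ 2) (hX : IsClassicalChar r X)
    (ho : IsOrd (Nat.card (↥A ⧸ center ↥A))) : False := by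
  have h1 : IsClassicalChar r (↥(A.subgroupOf (fixedSubgroup α)) ⧸ center ↥(A.subgroupOf (fixedSubgroup α))) :=
    CF.component (cf_class hr hr2 hX α h.sq) h.comp.1 h.comp.2.2 h.comp.2.1.commutator_eq_top
  obtain ⟨Y, f, hY, h2⟩ := real_of_classical hr h1
  rw [← h.card_B] at ho
  rcases ho.sh h2 with ⟨rfl, -⟩ | ⟨rfl, h3, -⟩
  · exact hY
  · exact hr2 h3

/-- **`X` is not the Tits group.** -/
theorem not_tits (_h : Cfg α A) (hX : IsoTits X) (ho : IsOrd (Nat.card (↥A ⧸ center ↥A))) : False := by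
  have h1 : Nat.card X = 17971200 := NotCT.Orders.tits hX
  have h2 := card_quot_dvd A
  rw [h1] at h2
  rcases ho with h3 | h3 <;> (rw [h3] at h2; norm_num at h2)

section two

variable [IsSimpleGroup X]

theorem act_two (hna : ¬ IsMulCommutative X) (hX : IsLieTypeChar 2 X) : Cfsg.Agent.H284.CharTwoComp.ACT X :=
  fun _ hu => Cfsg.Agent.EvenType.CharTwoCent.char2_centralizer
    (Cfsg.Agent.EvenType.ChevTwo.charTwo hna (Or.inl hX)) hu

/-- in characteristic two `A` is simple -/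
theorem simple_two (hna : ¬ IsMulCommutative X) (hX : IsLieTypeChar 2 X) (h : Cfg α A) :
    IsSimpleGroup ↥(A.subgroupOf (fixedSubgroup α)) ∧
      centralizer ((A.subgroupOf (fixedSubgroup α) : Subgroup ↥(fixedSubgroup α)) : Set ↥(fixedSubgroup α)) = ⊥ :=
  have h1 := Cfsg.Agent.H284.CharTwoComp.of_fix (act_two hna hX) h.sq h.comp
  ⟨h1.1, h1.2.2.1⟩

theorem card_two (hna : ¬ IsMulCommutative X) (hX : IsLieTypeChar 2 X) (h : Cfg α A)
    (ho : IsOrd (Nat.card (↥A ⧸ center ↥A))) :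
    Nat.card (↥A ⧸ center ↥A) = Nat.card ↥(A.subgroupOf (fixedSubgroup α)) := by
  rw [← h.card_B] at ho ⊢
  exact card_quot_of_simple (h.simple_two hna hX).1 (by rcases ho with h1 | h1 <;> (rw [h1]; norm_num))

/-- **`X` exceptional of characteristic two.** -/
theorem not_exc_two (hna : ¬ IsMulCommutative X) (h : Cfg α A)
    (hX : IsExceptionalChevChar 2 X ∨ IsTwistedE6D4Char 2 X ∨ IsoSuzuki X ∨ Iso2F4 X)
    (ho : IsOrd (Nat.card (↥A ⧸ center ↥A))) : False := by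
  have hlie : IsLieTypeChar 2 X := by
    unfold IsLieTypeChar
    tauto
  rw [h.card_two hna hlie ho] at ho
  have hsq : α ^ 2 = 1 := by rw [pow_two]; exact h.sq
  have T : OrderTable.{0} := OrdDiv.table
  have key : ∀ {Y : Art.Sh} {p f : ℕ}, Art.Real Y p f (Nat.card ↥(A.subgroupOf (fixedSubgroup α))) →
      Y ≠ .C 3 → (Y = .G2 → p = 2) → False := by
    intro Y p f hY h1 h2
    rcases ho.sh hY with ⟨h3, h4, -⟩ | ⟨h3, -⟩
    · have := h2 h3
      omega
    · exact h1 h3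
  have pw : ∀ (F : Type) [Field F] [Fintype F] [CharP F 2], ∃ f : ℕ, 1 ≤ f ∧ Fintype.card F = 2 ^ f :=
    fun F => Cfsg.Agent.H284.SepOrd.field_pow (F := F) Nat.prime_two
  rcases Cfsg.Agent.H78.TeFour.exc_comp hna hX α hsq h.ne _ h.comp with hp | hp | hp | hp | hp
  · obtain ⟨F, F₀, _, _, _, _, _, _, hc, hp⟩ := hp
    obtain ⟨f, hf, hF⟩ := pw F₀
    rcases hp with ⟨h3, -, ⟨e⟩⟩ | ⟨-, -, L, _, _, hL, ⟨e⟩⟩ | ⟨-, ⟨b⟩⟩ | ⟨-, ⟨b⟩⟩ | ⟨-, ⟨b⟩⟩ | ⟨-, ⟨b⟩⟩
    · rw [hF] at h3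
      refine key (Y := .G2) (p := 2) (f := f) ⟨Nat.prime_two, hf, h3, ?_⟩ (by simp) (fun _ => rfl)
      rw [Nat.card_congr e.toEquiv, T.g2 F₀, hF]
      change 1 * _ = (2 ^ f) ^ 6 * (_ * _)
      ring
    · refine key (Y := .U 3) (p := 3) (f := 1) ?_ (by simp) (by simp)
      rw [Nat.card_congr e.toEquiv]
      exact psu_real (f := 1) Nat.prime_three le_rfl (by rw [hL]; norm_num) le_rfl (by norm_num)
    · refine key (Y := .F4) (p := 2) (f := f) ⟨Nat.prime_two, hf, trivial, ?_⟩ (by simp) (by simp)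
      rw [Nat.card_congr b.toEquiv, T.f4 F₀ _ hF]
      change 1 * _ = (2 ^ f) ^ 24 * (_ * _ * _ * _)
      ring
    · refine key (Y := .E6) (p := 2) (f := f) ⟨Nat.prime_two, hf, trivial, ?_⟩ (by simp) (by simp)
      rw [Nat.card_congr b.toEquiv]
      change Nat.gcd 3 (2 ^ f - 1) * _ = (2 ^ f) ^ 36 * (_ * _ * _ * _ * _ * _)
      rw [T.e6 F₀ _ hF]
      ring
    · refine key (Y := .E7) (p := 2) (f := f) ⟨Nat.prime_two, hf, trivial, ?_⟩ (by simp) (by simp)
      rw [Nat.card_congr b.toEquiv]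
      change Nat.gcd 2 (2 ^ f - 1) * _ = (2 ^ f) ^ 63 * (_ * _ * _ * _ * _ * _ * _)
      rw [T.e7 F₀ _ hF]
      ring
    · refine key (Y := .E8) (p := 2) (f := f) ⟨Nat.prime_two, hf, trivial, ?_⟩ (by simp) (by simp)
      rw [Nat.card_congr b.toEquiv, T.e8 F₀ _ hF]
      change 1 * _ = (2 ^ f) ^ 120 * (_ * _ * _ * _ * _ * _ * _ * _)
      ring
  · obtain ⟨F, F₀, _, _, _, _, _, _, q, q₀, hq, -, -, hF₀, -, ⟨e⟩⟩ := hp
    obtain ⟨f, hf, rfl⟩ := Cfsg.Agent.H284.SepOrd.root_pow Nat.prime_two (by norm_num) (pw F₀) hF₀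
    refine key (Y := .TD4) (p := 2) (f := f) ⟨Nat.prime_two, hf, trivial, ?_⟩ (by simp) (by simp)
    rw [Nat.card_congr e.toEquiv]
    change 1 * _ = (2 ^ f) ^ 12 * (_ * _ * _)
    rw [T.td4 F₀ _ hq hF₀]
    ring
  · obtain ⟨F, _, _, _, m, hF, -, ⟨hm, ⟨e⟩⟩ | ⟨-, h3⟩⟩ := hp
    · refine key (Y := .TF4) (p := 2) (f := 2 * m + 1) ⟨Nat.prime_two, by omega, ⟨rfl, odd_two_mul_add_one m, by omega⟩,
        ?_⟩ (by simp) (by simp)
      rw [Nat.card_congr e.toEquiv, T.tf4 F m hm hF]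
      change 1 * _ = (2 ^ (2 * m + 1)) ^ 12 * (_ * _ * _ * _)
      ring
    · have h1 : Nat.card ↥(A.subgroupOf (fixedSubgroup α)) = 17971200 := NotCT.Orders.tits h3
      rw [h1] at ho
      rcases ho with ho | ho <;> norm_num at ho
  · obtain ⟨F, _, _, _, ⟨a⟩, ⟨q₀, hF, ⟨e⟩⟩ | ⟨⟨e⟩⟩⟩ := hp
    · obtain ⟨f, hf, rfl⟩ := Cfsg.Agent.H284.SepOrd.root_pow Nat.prime_two (by norm_num) (pw F) hF
      refine key (Y := .TE6) (p := 2) (f := f) ⟨Nat.prime_two, hf, trivial, ?_⟩ (by simp) (by simp)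
      rw [Nat.card_congr e.toEquiv]
      change Nat.gcd 3 (2 ^ f + 1) * _ = (2 ^ f) ^ 36 * (_ * _ * _ * _ * _ * _)
      rw [T.te6 F _ ⟨2, f, Nat.prime_two.prime, hf, rfl⟩ hF]
      ring
    · obtain ⟨f, hf, hF⟩ := pw F
      refine key (Y := .F4) (p := 2) (f := f) ⟨Nat.prime_two, hf, trivial, ?_⟩ (by simp) (by simp)
      rw [Nat.card_congr e.toEquiv, T.f4 F _ hF]
      change 1 * _ = (2 ^ f) ^ 24 * (_ * _ * _ * _)
      ring
  · obtain ⟨F, F₀, _, _, _, _, _, _, q, hF, hF₀, ⟨a⟩, ⟨e⟩⟩ := hp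
    obtain ⟨f, hf, hF'⟩ := pw F₀
    refine key (Y := .F4) (p := 2) (f := f) ⟨Nat.prime_two, hf, trivial, ?_⟩ (by simp) (by simp)
    rw [Nat.card_congr e.toEquiv, T.f4 F₀ _ hF']
    change 1 * _ = (2 ^ f) ^ 24 * (_ * _ * _ * _)
    ring

/-- the two possible names -/
theorem name_of_ord {g : Grp} {n : ℕ} (ho : IsOrd n) (hg : N2 g n) : g = .g2 3 ∨ g = .psp 3 2 := by
  rcases ho with rfl | rfl
  · left
    have h1 : N2 (.g2 3) 4245696 := Or.inr ⟨_, _, _, IsLie.g2 3 1, realG⟩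
    rcases n2_unique hg h1 (by unfold Exc; norm_num) with h2 | ⟨m, q, -, -, -, h2⟩ | ⟨m, q, -, -, -, h2⟩
    · exact h2
    · exact absurd h2 (by simp)
    · exact absurd h2 (by simp)
  · right
    have h1 : N2 (.psp 3 2) 1451520 := Or.inr ⟨_, _, _, IsLie.psp 3 2 1, realS⟩
    rcases n2_unique hg h1 (by unfold Exc; norm_num) with h2 | ⟨m, q, -, -, -, h2⟩ | ⟨m, q, -, ho, -, h2⟩
    · exact h2
    · exact absurd h2 (by simp)
    · injection h2 with h3 h4
      rw [← h4] at ho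
      exact absurd ho (by decide)

theorem pr_psp {g k : Grp} (h : Pr g k) (hk : k = .psp 3 2) : g ∈ [Grp.psl 6 2, .psl 7 2, .psu 6 2, .psu 7 2, .psp 3 4,
      .oplus 4 2, .ominus 4 2] := by
  cases h with
  | lf n q => exact absurd hk (by simp)
  | lu n q hn => exact absurd hk (by simp)
  | ls n m q hm h =>
    injection hk with h1 h2
    subst h1 h2
    rcases h with rfl | rfl <;> simp
  | lt q => exact absurd hk (by simp)
  | la n h => exact absurd hk (by simp)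
  | us n m q hm h =>
    injection hk with h1 h2
    subst h1 h2
    rcases h with rfl | rfl <;> simp
  | ut q => exact absurd hk (by simp)
  | ua n h => exact absurd hk (by simp)
  | sf m q hm =>
    injection hk with h1 h2
    subst h1 h2
    simp
  | ps m q hm =>
    injection hk with h1 h2
    subst h1 h2
    simp
  | pp m q hm => exact absurd hk (by simp)
  | pm m q hm => exact absurd hk (by simp)
  | ms m q hm =>
    injection hk with h1 h2
    subst h1 h2
    simp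

theorem pr_g2 {g k : Grp} (h : Pr g k) (hk : k = .g2 3) : False := by
  cases h <;> simp at hk

/-- **`X` classical of characteristic two**: the list. -/
theorem class_two (hna : ¬ IsMulCommutative X) (h : Cfg α A) (hX : Cla X) (hX' : IsLieTypeChar 2 X)
    (ho : IsOrd (Nat.card (↥A ⧸ center ↥A))) :
    SpFour X ∨ (Nat.card (↥A ⧸ center ↥A) = 1451520 ∧ ∃ g ∈ [Grp.psl 6 2, .psl 7 2, .psu 6 2, .psu 7 2, .psp 3 4,
      .oplus 4 2, .ominus 4 2], Real g X) := by
  have hc := h.card_two hna hX' ho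
  rcases row_all hX with ⟨g, hg, -, hout⟩ | h4
  · right
    obtain ⟨k, hk, -, hN⟩ := hout α h.sq h.ne _ h.comp
    have ho' := ho
    rw [hc] at ho'
    rcases name_of_ord ho' hN with h1 | h1
    · exact (pr_g2 hk h1).elim
    · refine ⟨?_, g, pr_psp hk h1, hg⟩
      rcases ho with h2 | h2
      · exfalso
        rw [← hc, h2, h1] at hN
        have h3 : N2 (.g2 3) 4245696 := Or.inr ⟨_, _, _, IsLie.g2 3 1, realG⟩
        rcases n2_unique hN h3 (by unfold Exc; norm_num) with h4 | ⟨m, q, -, -, -, h4⟩ | ⟨m, q, -, ho, -, h4⟩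
        · exact absurd h4 (by simp)
        · exact absurd h4 (by simp)
        · exact absurd h4 (by simp)
      · exact h2
  · exact Or.inl h4

end two

end Cfg

end Cfsg.Agent.H293
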