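import Cfsg.Agent.H294.Gen

/-!
# Standard subgroups whose centralizer has cyclic Sylow 2-subgroups: the two cases

* `Out L` : `E(G) = ⟨L^G⟩` is a perfect central extension, with a kernel of odd order, of `S × S`, `S ≅ L / Z(L)`, or of the simple group `N`
  of a reduced configuration `Conf N A t` with `A / Z(A) ≅ L / Z(L)` (`A ≅ L` if `Z(L) = 1`);
* `out` : this holds as soon as every such configuration has a mover.
-/

set_option autoImplicit false
set_option linter.unusedSectionVars false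

namespace Cfsg.Agent.H293.Asm

open Cfsg Subgroup Cfsg.Agent.H293.StdOdd Cfsg.Agent.H293.G2Odd Cfsg.Agent.H293.G2Std
open Cfsg.Agent.StdL2.Setup Cfsg.Agent.StdL2.Assemble Cfsg.Agent.H294.Gen

universe u v w

variable {G : Type u} [Group G] [Finite G]

/-- a reduced configuration related to `L` -/
structure Rel {G : Type u} [Group G] (L : Subgroup G) {H : Type u} [Group H] [Finite H] (N A : Subgroup H) (t : H) : Prop where
  conf : Conf N A t
  quot : Nonempty ((↥A ⧸ center ↥A) ≃* (↥L ⧸ center ↥L))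
  iso : center ↥L = ⊥ → Nonempty (↥A ≃* ↥L)

/-- `⟨L^G⟩` is a perfect central extension of `E` with a kernel of odd order. -/
def Ext (L : Subgroup G) (E : Type u) [Group E] : Prop :=
  ∃ f : ↥(normalClosure (L : Set G)) →* E, Function.Surjective f ∧ f.ker ≤ center _ ∧ Odd (Nat.card f.ker)

theorem Ext.congr {L : Subgroup G} {E E' : Type u} [Group E] [Group E'] (e : E ≃* E') (h : Ext L E) : Ext L E' := by
  obtain ⟨f, h1, h2, h3⟩ := h
  have hk : (e.toMonoidHom.comp f).ker = f.ker := by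
    ext x
    rw [MonoidHom.mem_ker, MonoidHom.mem_ker]
    constructor
    · intro h4
      exact e.injective (by rw [map_one]; exact h4)
    · intro h4
      show e (f x) = 1
      rw [h4, map_one]
  exact ⟨e.toMonoidHom.comp f, e.surjective.comp h1, by rw [hk]; exact h2, by rw [hk]; exact h3⟩

/-- **the conclusion** -/
structure Out (L : Subgroup G) : Prop where
  layer : layer G = normalClosure (L : Set G)
  perfect : _root_.commutator ↥(normalClosure (L : Set G)) = ⊤
  cases : (IsSimpleGroup (↥L ⧸ center ↥L) ∧ ¬ IsMulCommutative (↥L ⧸ center ↥L) ∧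
      Ext L ((↥L ⧸ center ↥L) × (↥L ⧸ center ↥L))) ∨
    ∃ (H : Type u) (_ : Group H) (_ : Finite H) (N A : Subgroup H) (t : H), Rel L N A t ∧ Ext L ↥N

/-- the isomorphism type of the image of `L` -/
theorem iso_map {L : Subgroup G} (h : Hyp L) (hZ : center ↥L = ⊥) :
    Nonempty (↥(L.map (QuotientGroup.mk' (oddCore G))) ≃* ↥L) := by
  have hinj : Function.Injective ((QuotientGroup.mk' (oddCore G)).subgroupMap L) := by
    rw [injective_iff_map_eq_one]
    intro x hx
    have h1 : QuotientGroup.mk' (oddCore G) (x : G) = 1 := congrArg Subtype.val hx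
    rw [← MonoidHom.mem_ker, QuotientGroup.ker_mk'] at h1
    have h2 := h.inf_le_centralizer inferInstance (odd_oddCore G) ⟨h1, x.2⟩
    have h3 : x ∈ center ↥L := by
      rw [mem_center_iff]
      intro y
      exact Subtype.ext (mem_centralizer_iff.1 h2 y y.2)
    rwa [hZ, mem_bot] at h3
  exact ⟨(MulEquiv.ofBijective _ ⟨hinj, MonoidHom.subgroupMap_surjective _ _⟩).symm⟩

theorem out {L : Subgroup G} (h : Hyp L) (hnorm : ¬ (L ⊔ oddCore G).Normal)
    (core : ∀ (H : Type u) [Group H] [Finite H] (N A : Subgroup H) (t : H), Rel L N A t →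
      ∃ g z : H, z ∈ A ∧ z ≠ 1 ∧ g * t * g⁻¹ = t * z) : Out L := by
  obtain ⟨t, htL, ht, ht', htC, hcase⟩ := main_cases h hnorm
  obtain ⟨q⟩ := quot_map h
  rcases hcase with ⟨X, hX⟩ | S
  · obtain ⟨i⟩ := hX.iso
    have hsA := simple_congr i hX.simple
    have hncA := nc_congr i hX.nc
    have eA' : ↥(L.map (QuotientGroup.mk' (oddCore G))) ≃* (↥L ⧸ center ↥L) :=
      (quotBot (center_eq_bot hsA hncA)).symm.trans q.symm
    obtain ⟨w⟩ := wr_layer hX
    have w' : ↥(layer (G ⧸ oddCore G)) ≃* (↥L ⧸ center ↥L) × (↥L ⧸ center ↥L) := w.trans (eA'.prodCongr eA')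
    obtain ⟨g, z, hz, hz1, hg⟩ := hX.mover
    obtain ⟨hc, f, h1, h2, h3, h4, -⟩ := ext_of_mover h ht htL ⟨g, z, hz, hz1, hg⟩ hX.closure_eq
    exact ⟨layer_eq h hc hX.closure_eq, h4, Or.inl ⟨simple_congr eA' hsA, nc_congr eA' hncA, Ext.congr w' ⟨f, h1, h2, h3⟩⟩⟩
  · have C := conf_of_simple S ht' htC (h.cyc_map (odd_oddCore G))
    have hLH : layer (G ⧸ oddCore G) ≤ layer (G ⧸ oddCore G) ⊔ zpowers (QuotientGroup.mk' (oddCore G) t) := le_sup_left
    have hAH : L.map (QuotientGroup.mk' (oddCore G)) ≤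
        layer (G ⧸ oddCore G) ⊔ zpowers (QuotientGroup.mk' (oddCore G) t) := S.le_layer.trans hLH
    have eL := subgroupOfEquivOfLe hLH
    have eAH := subgroupOfEquivOfLe hAH
    obtain ⟨f⟩ := Cfsg.Agent.StdEven.Red.nonempty_quot eAH
    have R : Rel L ((layer (G ⧸ oddCore G)).subgroupOf
        (layer (G ⧸ oddCore G) ⊔ zpowers (QuotientGroup.mk' (oddCore G) t)))
        ((L.map (QuotientGroup.mk' (oddCore G))).subgroupOf
        (layer (G ⧸ oddCore G) ⊔ zpowers (QuotientGroup.mk' (oddCore G) t))) _ := ⟨C, ⟨f.trans q.symm⟩, fun hZ => by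
      obtain ⟨i⟩ := iso_map h hZ
      exact ⟨eAH.trans i⟩⟩
    obtain ⟨g, z, hz, hz1, hg⟩ := core _ _ _ _ R
    have hm : ∃ g z : G ⧸ oddCore G, z ∈ L.map (QuotientGroup.mk' (oddCore G)) ∧ z ≠ 1 ∧
        g * QuotientGroup.mk' (oddCore G) t * g⁻¹ = QuotientGroup.mk' (oddCore G) t * z :=
      ⟨(g : G ⧸ oddCore G), (z : G ⧸ oddCore G), mem_subgroupOf.1 hz, fun h1 => hz1 (Subtype.ext h1),
        congrArg Subtype.val hg⟩
    obtain ⟨hc, f, h1, h2, h3, h4, -⟩ := ext_of_mover h ht htL hm (simple_closure S)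
    exact ⟨layer_eq h hc (simple_closure S), h4, Or.inr ⟨_, _, _, _, _, _, R, Ext.congr eL.symm ⟨f, h1, h2, h3⟩⟩⟩

/-- no odd extensions: the isomorphism type -/
theorem Ext.equiv {L : Subgroup G} {E : Type u} [Group E] (hp : _root_.commutator ↥(normalClosure (L : Set G)) = ⊤)
    (h : Ext L E) {R : Type v} [Group R] (e : E ≃* R) (hN : NoOddExt.{u} R) :
    Nonempty (↥(normalClosure (L : Set G)) ≃* R) := by
  obtain ⟨f, h1, h2, h3⟩ := h
  exact ⟨(MulEquiv.ofBijective f ⟨(hN.congr e) _ hp f h1 h2 h3, h1⟩).trans e⟩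

end Cfsg.Agent.H293.Asm
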