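import Cfsg.Agent.H340.OddLie
import Cfsg.Agent.H250.EqD.DdN
import Cfsg.Agent.H284.SepOrd
import Cfsg.Agent.H902.AltLie

/-!
# Classical groups of odd characteristic: the nonabelian composition factors of the fixed subgroups of involutory automorphisms
are classical, in the same characteristic

* `isClassicalChar_congr`, `base_class`, `cf_class`;
* `real_of_classical` : the orders;
* `numG`, `numS` : the groups with the order of `G₂(3)` and of `Sp₆(2)`.
-/

set_option autoImplicit false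

namespace Cfsg.Agent.H293.ClassG

open Subgroup Cfsg Cfsg.Agent.BpLin Cfsg.Agent.BpCl QuadraticMap Cfsg.Agent.H340
open Cfsg.Agent.LieClassical.OrthCore Cfsg.Agent.LieClassical.OrthTrans
open Cfsg.Agent.OrdDiv Cfsg.Agent.H902 Cfsg.Agent.H902.Names

universe u

theorem isClassicalChar_congr {p : ℕ} {G H : Type*} [Group G] [Group H] (e : H ≃* G) (h : IsClassicalChar p G) :
    IsClassicalChar p H := by
  rcases h with h | h | h | h | h | h
  · obtain ⟨F, a, b, c, n, h1, h2, ⟨f⟩⟩ := h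
    exact Or.inl ⟨F, a, b, c, n, h1, h2, ⟨e.trans f⟩⟩
  · obtain ⟨F, a, b, c, n, h1, h2, ⟨f⟩⟩ := h
    exact Or.inr (Or.inl ⟨F, a, b, c, n, h1, h2, ⟨e.trans f⟩⟩)
  · obtain ⟨F, a, b, c, n, q, h1, h2, h3, ⟨f⟩⟩ := h
    exact Or.inr (Or.inr (Or.inl ⟨F, a, b, c, n, q, h1, h2, h3, ⟨e.trans f⟩⟩))
  · obtain ⟨F, a, b, c, n, h1, h2, ⟨f⟩⟩ := h
    exact Or.inr (Or.inr (Or.inr (Or.inl ⟨F, a, b, c, n, h1, h2, ⟨e.trans f⟩⟩)))
  · obtain ⟨F, a, b, c, n, h1, ⟨f⟩⟩ := h
    exact Or.inr (Or.inr (Or.inr (Or.inr (Or.inl ⟨F, a, b, c, n, h1, ⟨e.trans f⟩⟩))))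
  · obtain ⟨F, a, b, c, n, x, y, h1, h2, ⟨f⟩⟩ := h
    exact Or.inr (Or.inr (Or.inr (Or.inr (Or.inr ⟨F, a, b, c, n, x, y, h1, h2, ⟨e.trans f⟩⟩))))

/-- **`IsClassicalChar r` holds for the classical groups of odd characteristic `r`.** -/
theorem base_class {r : ℕ} (hr : r.Prime) (hr2 : r ≠ 2) : Base.{u} r (fun S _ => IsClassicalChar r S) where
  psl F _ _ _ n hs S _ := by
    rintro ⟨e⟩
    have := Fintype.ofFinite F
    have hn : 2 ≤ n := by
      by_contra hn
      have : Subsingleton (Fin n) := by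
        have : n = 0 ∨ n = 1 := by omega
        rcases this with rfl | rfl <;> infer_instance
      have : Subsingleton (Matrix.SpecialLinearGroup (Fin n) F) := inferInstance
      have : Subsingleton (Matrix.ProjectiveSpecialLinearGroup (Fin n) F) :=
        (QuotientGroup.mk'_surjective _).subsingleton
      exact not_nontrivial _ hs.toNontrivial
    refine Or.inl ⟨F, inferInstance, inferInstance, inferInstance, n, hn, ?_, ⟨e⟩⟩
    rintro rfl
    by_contra h4
    exact not_simple_sl_two_three (F := F) (by rwa [Nat.card_eq_fintype_card]) hs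
  psu F _ _ _ n q hF hn hs S _ := by
    rintro ⟨e⟩
    have h1 := card_ge_of_odd (F := F) hr hr2
    refine Or.inr (Or.inr (Or.inl ⟨F, inferInstance, inferInstance, inferInstance, n, q, hF, hn, ?_, ⟨e⟩⟩))
    rintro ⟨-, rfl⟩
    rw [hF] at h1
    exact absurd h1.1 (by decide)
  psp F _ _ _ m hm hs S _ := by
    rintro ⟨e⟩
    have := Fintype.ofFinite F
    have h1 := card_ge_of_odd (F := F) hr hr2
    exact Or.inr (Or.inl ⟨F, inferInstance, inferInstance, inferInstance, m, hm, fun _ => h1.2, ⟨e⟩⟩)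
  alt h := absurd h hr2
  orth F V _ _ _ _ _ _ Q hQ hd hs S _ := by
    rintro ⟨e⟩
    have := Fintype.ofFinite F
    have h1 := card_ge_of_odd (F := F) hr hr2
    have hG := LieClassical.OrthFinite.good_of_finite hQ hd
    rcases GenOrth.normal_form (Module.finrank F V) hQ rfl with ⟨k, hk, hS⟩ | ⟨k, hk, hS⟩ | ⟨k, hk, a, b, hab, hS⟩
    · obtain ⟨f⟩ := nonempty_E_equiv hG hS
      rcases Nat.lt_or_ge k 3 with h | h
      · obtain rfl : k = 2 := by omega
        obtain ⟨f'⟩ := S0301.result (F := F) h1.1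
        exact Or.inr (Or.inl ⟨F, inferInstance, inferInstance, inferInstance, 2, le_rfl, fun _ => h1.2,
          ⟨(e.trans f).trans f'⟩⟩)
      · exact Or.inr (Or.inr (Or.inr (Or.inl ⟨F, inferInstance, inferInstance, inferInstance, k, h, h1.1,
          ⟨e.trans f⟩⟩)))
    · obtain ⟨f⟩ := nonempty_E_equiv hG hS
      rcases Nat.lt_or_ge k 4 with h | h
      · obtain rfl : k = 3 := by omega
        obtain ⟨f'⟩ := S0302.result (F := F)
        exact Or.inl ⟨F, inferInstance, inferInstance, inferInstance, 4, by omega, by omega, ⟨(e.trans f).trans f'⟩⟩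
      · exact Or.inr (Or.inr (Or.inr (Or.inr (Or.inl ⟨F, inferInstance, inferInstance, inferInstance, k, h,
          ⟨e.trans f⟩⟩))))
    · obtain ⟨f_1⟩ := nonempty_E_equiv hG hS
      rcases Nat.lt_or_ge k 3 with h | h
      · obtain rfl : k = 2 := by omega
        have : Fact r.Prime := ⟨hr⟩
        obtain ⟨f, hf⟩ : ∃ f : ℕ, Fintype.card F = r ^ f := by
          obtain ⟨n, -, hn⟩ := FiniteField.card F r
          exact ⟨n, hn⟩
        have hf0 : f ≠ 0 := by
          rintro rfl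
          rw [pow_zero] at hf
          omega
        have hfin : Finite (GaloisField r (2 * f)) := inferInstance
        have hft : Fintype (GaloisField r (2 * f)) := Fintype.ofFinite _
        have hK : Fintype.card (GaloisField r (2 * f)) = (Fintype.card F) ^ 2 := by
          rw [← Nat.card_eq_fintype_card, GaloisField.card r (2 * f) (by omega), hf, ← pow_mul, mul_comm]
        obtain ⟨f'⟩ := S0303.result (F := F) (K := GaloisField r (2 * f)) rfl hK a b hab
        have hch : CharP (GaloisField r (2 * f)) r := inferInstance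
        exact Or.inr (Or.inr (Or.inl ⟨GaloisField r (2 * f), inferInstance, hft, hch, 4, Fintype.card F, hK,
          by omega, by omega, ⟨(e.trans f_1).trans f'⟩⟩))
      · refine Or.inr (Or.inr (Or.inr (Or.inr (Or.inr ⟨F, inferInstance, inferInstance, inferInstance, k + 1,
          a, b, by omega, hab, ⟨?_⟩⟩))))
        exact e.trans f_1

theorem cf_class {r : ℕ} (hr : r.Prime) (hr2 : r ≠ 2) {X : Type*} [Group X]
    (hX : IsClassicalChar r X) : InvCF.{u} (fun S _ => IsClassicalChar r S) X :=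
  cf_of_classical hr hr2 (base_class hr hr2) hX

/-- the classical shapes -/
def ClS : Art.Sh → Prop
  | .L _ => True
  | .C _ => True
  | .U _ => True
  | .D _ => True
  | .DD _ => True
  | _ => False

theorem real_of_classical {S : Type u} [Group S] {p : ℕ} (hp : p.Prime) (h : IsClassicalChar p S) :
    ∃ X f, ClS X ∧ Art.Real X p f (Nat.card S) := by
  rcases h with h | h | h | h | h | h
  · obtain ⟨F, _, _, _, n, hn, hn2, ⟨e⟩⟩ := h
    obtain ⟨f, hf, hF⟩ := H284.SepOrd.field_pow (F := F) hp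
    rw [hF] at hn2
    refine ⟨_, f, ?_, by rw [Nat.card_congr e.toEquiv]; exact psl_real hp hf hF hn hn2⟩
    trivial
  · obtain ⟨F, _, _, _, n, hn, hn2, ⟨e⟩⟩ := h
    obtain ⟨f, hf, hF⟩ := H284.SepOrd.field_pow (F := F) hp
    rw [hF] at hn2
    refine ⟨_, f, ?_, by rw [Nat.card_congr e.toEquiv]; exact psp_real hp hf hF hn hn2⟩
    trivial
  · obtain ⟨F, _, _, _, n, q, hF, hn, hn2, ⟨e⟩⟩ := h
    obtain ⟨f, hf, rfl⟩ := H284.SepOrd.root_pow hp (by norm_num) (H284.SepOrd.field_pow (F := F) hp) hF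
    refine ⟨_, f, ?_, by rw [Nat.card_congr e.toEquiv]; exact psu_real hp hf hF hn hn2⟩
    trivial
  · obtain ⟨F, _, _, _, n, hn, ho, ⟨e⟩⟩ := h
    obtain ⟨f, hf, hF⟩ := H284.SepOrd.field_pow (F := F) hp
    rw [hF] at ho
    refine ⟨_, f, ?_, by rw [Nat.card_congr e.toEquiv]; exact oodd_real hp hf hF hn ho⟩
    trivial
  · obtain ⟨F, _, _, _, n, hn, ⟨e⟩⟩ := h
    obtain ⟨f, hf, hF⟩ := H284.SepOrd.field_pow (F := F) hp
    refine ⟨_, f, ?_, by rw [Nat.card_congr e.toEquiv]; exact oplus_real hp hf hF hn⟩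
    trivial
  · obtain ⟨F, _, _, _, n, a, b, hn, hab, ⟨e⟩⟩ := h
    obtain ⟨f, hf, hF⟩ := H284.SepOrd.field_pow (F := F) hp
    refine ⟨_, f, ?_, by rw [Nat.card_congr e.toEquiv]; exact ominus_real hp hf hF hn hab⟩
    trivial

/-! ### the two orders -/

theorem realG : Art.Real .G2 3 1 4245696 := by
  refine ⟨Nat.prime_three, le_rfl, ?_, ?_⟩
  · change 3 ≤ 3 ^ 1; norm_num
  · change 1 * 4245696 = (3 ^ 1) ^ 6 * (((3 ^ 1) ^ 2 - 1) * ((3 ^ 1) ^ 6 - 1)); norm_num

theorem realS : Art.Real (.C 3) 2 1 1451520 := by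
  refine ⟨Nat.prime_two, le_rfl, ?_, ?_⟩
  · exact ⟨by norm_num, by norm_num⟩
  · simp only [Art.dd, Art.NN, Art.num, Finset.prod_range_succ, Finset.prod_range_zero]
    norm_num

/-- the shapes of order 4245696 -/
theorem numG {X : Art.Sh} {p f : ℕ} (h : Art.Real X p f 4245696) : X = .G2 ∧ p = 3 ∧ f = 1 := by
  rcases eq_or_ne p 3 with rfl | hp
  · rcases Art.same_char h realG with h1 | h1
    · exact ⟨h1.1, rfl, h1.2⟩
    · norm_num at h1
  · rcases Art.cross_char h realG hp with h1 | h1 | h1 <;> norm_num at h1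

/-- the shapes of order 1451520 -/
theorem numS {X : Art.Sh} {p f : ℕ} (h : Art.Real X p f 1451520) : X = .C 3 ∧ p = 2 ∧ f = 1 := by
  rcases eq_or_ne p 2 with rfl | hp
  · rcases Art.same_char h realS with h1 | h1
    · exact ⟨h1.1, rfl, h1.2⟩
    · norm_num at h1
  · rcases Art.cross_char h realS hp with h1 | h1 | h1 <;> norm_num at h1

theorem altG {n : ℕ} (hn : 5 ≤ n) (h : 2 * 4245696 = n.factorial) : False := by
  rcases Art.alt_lie realG hn h with h1 | h1 | h1 <;> norm_num at h1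

theorem altS {n : ℕ} (hn : 5 ≤ n) (h : 2 * 1451520 = n.factorial) : False := by
  rcases Art.alt_lie realS hn h with h1 | h1 | h1 <;> norm_num at h1

end Cfsg.Agent.H293.ClassG
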