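import Cfsg.Agent.H287.FixFi22

/-!
# `Fi₂₂`: an elementary abelian subgroup of order 32 in the fixed subgroup of an involutory automorphism

(as in `Cfsg.Agent.H287.FixFi22`, with nine commuting transpositions)
-/

set_option autoImplicit false

namespace Cfsg.Agent.H293

open Subgroup Cfsg Cfsg.Agent.H287
open Cfsg.Agent.CpAut

universe u v

namespace ElemFi22

open Cfsg.Agent.Fischer Cfsg.Agent.Fischer.Cert Cfsg.Agent.Fischer.Group22 Cfsg.Agent.Fischer.Rank22
open Cfsg.Agent.R01
open Cfsg.Agent.R01.Fi22Facts (E E_g mem_T_iff t_ptw ptw word com_of_chk com_iff)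
open Cfsg.Agent.R08.AutT (T)
open Cfsg.Agent.StdFi22.MainFi22 (bas)

open Data22.Gen in
/-- nine commuting transpositions -/
def ws : List Fi22Facts.CW := [([], a), ([], c), ([], e), ([], g), ([], h), ([], l), ([d, h, e, d], c),
  ([f, l, g, f], e), ([d, e, f, l, g, f, e, d], c)]

/-- all products -/
def ps : List (List Data22.Gen) := (ws.sublists.map fun l => (l.map word).flatten)

/-- images of a point -/
noncomputable def im (w : List Data22.Gen) : ℕ := walk Data22.nx w.reverse 56

theorem ws_com : ∀ c ∈ ws, ∀ c' ∈ ws,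
    Nat.beq (Cert.walk Data22.nx (word c).reverse (Fi22Facts.num c')) (Fi22Facts.num c') = true := by
  decide +kernel

theorem nodup_im : (ps.map im).Nodup := by decide +kernel

/-- the transposition of a word -/
noncomputable def tr (c : Fi22Facts.CW) : Spor.Fi22 := E (R.t (ptw c))

theorem tr_mem (c : Fi22Facts.CW) : tr c ∈ T := mem_T_iff.2 ⟨_, rfl⟩

theorem tr_comm : ∀ c ∈ ws, ∀ c' ∈ ws, tr c * tr c' = tr c' * tr c := fun c hc c' hc' =>
  com_iff.2 (com_of_chk (ws_com c hc c' hc'))

/-- the subgroup generated by the nine transpositions -/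
noncomputable def A₀ : Subgroup Spor.Fi22 := closure {t | ∃ c ∈ ws, t = tr c}

theorem prod_eq (l : List Fi22Facts.CW) : E ((l.map word).flatten.map g).prod = (l.map tr).prod := by
  induction l with
  | nil => exact map_one E
  | cons c l ih =>
    rw [List.map_cons, List.flatten_cons, List.map_append, List.prod_append, map_mul, ih, List.map_cons,
      List.prod_cons, ← t_ptw]
    rfl

theorem prod_mem {w : List Data22.Gen} (hw : w ∈ ps) : E (w.map g).prod ∈ A₀ := by
  rw [ps, List.mem_map] at hw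
  obtain ⟨l, hl, rfl⟩ := hw
  rw [prod_eq]
  refine Subgroup.list_prod_mem _ fun x hx => ?_
  obtain ⟨c, hc, rfl⟩ := List.mem_map.1 hx
  exact subset_closure ⟨c, (List.mem_sublists.1 hl).subset hc, rfl⟩

theorem card_A₀ : 512 ≤ Nat.card ↥A₀ := by
  classical
  have hfin : Finite Spor.Fi22 := Fi22Facts.finite
  let x : X := ⟨56, by decide⟩
  let F : ↥A₀ → ℕ := fun a => ((E.symm (a : Spor.Fi22) • x : X) : ℕ)
  have h1 : ((ps.map im).toFinset : Set ℕ) ⊆ Set.range F := by
    intro n hn
    rw [Finset.mem_coe, List.mem_toFinset, List.mem_map] at hn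
    obtain ⟨w, hw, rfl⟩ := hn
    refine ⟨⟨_, prod_mem hw⟩, ?_⟩
    change ((E.symm (E (w.map g).prod) • x : X) : ℕ) = _
    rw [E.symm_apply_apply, Fi22Loc.val_word]
    rfl
  have h2 := Set.ncard_le_ncard h1 (Set.toFinite _)
  rw [Set.ncard_coe_finset, List.toFinset_card_of_nodup nodup_im, List.length_map] at h2
  have h3 : ps.length = 512 := by decide +kernel
  rw [h3] at h2
  refine h2.trans ?_
  rw [← Nat.card_coe_set_eq]
  exact Finite.card_range_le F

theorem fi22 (x : MulAut Spor.Fi22) (hx : orderOf x = 2) : HasElem 32 (fixedSubgroup x) := by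
  have hfin : Finite Spor.Fi22 := Fi22Facts.finite
  have : Fact (Nat.Prime 2) := ⟨Nat.prime_two⟩
  have hxx : x * x = 1 := by rw [← pow_two, ← hx, pow_orderOf_eq_one]
  obtain ⟨S, -, hS⟩ := exists_inv_sylow (X := Spor.Fi22) hxx (P := ⊥) IsPGroup.of_bot fun y hy => by
    rw [mem_bot] at hy
    rw [hy, map_one]
    exact one_mem _
  let D : Set Spor.Fi22 := {t | t ∈ T ∧ t ∈ S}
  have hDc : ∀ a ∈ D, ∀ b ∈ D, a * b = b * a := by
    rintro a ⟨ha, haS⟩ b ⟨hb, hbS⟩
    rcases bas.three ha hb with h | h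
    · exact h
    · have h1 : (a * b) ^ 3 = 1 := by
        calc (a * b) ^ 3 = (a * b * a) * (b * a * b) := by rw [pow_succ, pow_succ, pow_one]; group
          _ = (a * b * a) * (a * b * a) := by rw [h]
          _ = a * b * (a * a) * b * a := by group
          _ = a * (b * b) * a := by rw [bas.sq ha]; group
          _ = 1 := by rw [bas.sq hb, mul_one, bas.sq ha]
      obtain ⟨k, hk⟩ := S.isPGroup' (⟨a * b, mul_mem haS hbS⟩ : ↥(S : Subgroup Spor.Fi22))
      have hk' : (a * b) ^ 2 ^ k = 1 := congrArg Subtype.val hk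
      have h2 : orderOf (a * b) = 1 := Nat.eq_one_of_dvd_coprimes
        (Nat.Coprime.pow_right k (by norm_num : Nat.Coprime 3 2)) (orderOf_dvd_of_pow_eq_one h1)
        (orderOf_dvd_of_pow_eq_one hk')
      have h3 : a * b = 1 := orderOf_eq_one_iff.1 h2
      have h4 : b = a := by
        rw [← bas.inv_self ha]
        exact eq_inv_of_mul_eq_one_right h3
      rw [h4]
  have hDs : ∀ a ∈ D, a * a = 1 := fun a ha => bas.sq ha.1
  have hinv : ∀ e ∈ closure D, x e ∈ closure D := by
    have h1 : closure D ≤ (closure D).comap x.toMonoidHom := by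
      rw [closure_le]
      rintro t ⟨ht, htS⟩
      exact subset_closure ⟨R08.AutT.aut_mem x ht, hS t htS⟩
    exact fun e he => h1 he
  have h2 : IsPGroup 2 ↥A₀ := isPGroup_of_sq (closure_sq (by
    rintro _ ⟨c, hc, rfl⟩ _ ⟨c', hc', rfl⟩
    exact tr_comm c hc c' hc') (by
    rintro _ ⟨c, hc, rfl⟩
    exact bas.sq (tr_mem c)))
  obtain ⟨S', hS'⟩ := h2.exists_le_sylow
  obtain ⟨g, hg⟩ := MulAction.exists_smul_eq Spor.Fi22 S' S
  have h3 : A₀.map (MulAut.conj g).toMonoidHom ≤ closure D := by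
    rw [map_le_iff_le_comap, A₀, closure_le]
    rintro _ ⟨c, hc, rfl⟩
    refine subset_closure ⟨bas.conjT g (tr_mem c), ?_⟩
    rw [← hg]
    exact ⟨_, hS' (subset_closure ⟨c, hc, rfl⟩), rfl⟩
  have h4 : 512 ≤ Nat.card ↥(closure D) := by
    refine card_A₀.trans ?_
    rw [Nat.card_congr (A₀.equivMapOfInjective (MulAut.conj g).toMonoidHom (MulAut.conj g).injective).toEquiv]
    exact Nat.card_le_card_of_injective _ (inclusion_injective h3)
  exact hasElem_fix (k := 5) hxx hinv (closure_comm hDc) (closure_sq hDc hDs) (by omega)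

end ElemFi22

/-- **`C_X(x)` has an elementary abelian subgroup of order 32 for the involutory automorphisms of `Fi₂₂`** -/
theorem elem_fi22' {X : Type u} [Group X] (h : Spor.IsoFi22 X) {x : MulAut X} (hx : orderOf x = 2) :
    HasElem 32 (fixedSubgroup x) := by
  obtain ⟨e⟩ := h
  have h1 : orderOf (MulAut.congr e x) = 2 := by rw [MulEquiv.orderOf_eq, hx]
  obtain ⟨E, hE1, hE2, hE3, hE4⟩ := ElemFi22.fi22 _ h1
  refine ⟨E.map e.symm.toMonoidHom, ?_, ?_, ?_, ?_⟩
  · rintro _ ⟨a, ha, rfl⟩
    have h2 : MulAut.congr e x a = a := hE1 ha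
    change x (e.symm a) = e.symm a
    apply e.injective
    rw [e.apply_symm_apply]
    exact h2
  · rintro _ ⟨a, ha, rfl⟩ _ ⟨b, hb, rfl⟩
    rw [← map_mul, ← map_mul, hE2 a ha b hb]
  · rintro _ ⟨a, ha, rfl⟩
    rw [← map_mul, hE3 a ha, map_one]
  · rw [← hE4]
    exact Nat.card_congr (E.equivMapOfInjective _ e.symm.injective).symm.toEquiv

end Cfsg.Agent.H293
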