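import Cfsg.Agent.H293.Cfg
import Cfsg.Agent.H293.ExcOdd
import Cfsg.Agent.H296.ESixGF
import Cfsg.Agent.H523.FpfChev
import Cfsg.Agent.S4279
import Cfsg.Agent.S2121
import Cfsg.Agent.S2664
import Cfsg.Agent.S1059

/-!
# `G₂(9)`: the outer automorphisms of order two

* `fixed_card` : an automorphism `α` of `G₂(9)` with `α * α = 1` is inner or its fixed subgroup has the order of `G₂(3)`;
* `Cfg.fix_le` : `X ≅ G₂(9)`, `Cfg α A`, `|A / Z(A)| = |G₂(3)|`: `α` is not inner and `C_X(α) ≤ A`.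
-/

set_option autoImplicit false
set_option linter.unusedSectionVars false

namespace Cfsg.Agent.H293

open Cfsg Subgroup Cfsg.Lie
open Cfsg.Agent.CpAut.RgdUntw (fld fld_one)
open Cfsg.Agent.ChevalleyStructure.CoxeterGeom Cfsg.Agent.ChevalleyStructure.CoxeterGeomTypes
open Cfsg.Agent.Nodes.RGDChev

universe u v

/-- the elements of order two of a cyclic group -/
theorem eq_of_cyclic {C : Type*} [Group C] [Finite C] [IsCyclic C] {a b : C} (ha : a * a = 1) (ha1 : a ≠ 1)
    (hb : b * b = 1) (hb1 : b ≠ 1) : a = b := by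
  classical
  have := Fintype.ofFinite C
  by_contra hne
  have h1 := IsCyclic.card_pow_eq_one_le (α := C) (n := 2) (by norm_num)
  have h2 : ({1, a, b} : Finset C) ⊆ Finset.univ.filter (fun x => x ^ 2 = 1) := by
    intro x hx
    rw [Finset.mem_filter]
    refine ⟨Finset.mem_univ _, ?_⟩
    simp only [Finset.mem_insert, Finset.mem_singleton] at hx
    rcases hx with rfl | rfl | rfl
    · exact one_pow 2
    · rw [pow_two, ha]
    · rw [pow_two, hb]
  have h3 : ({1, a, b} : Finset C).card = 3 := Finset.card_eq_three.2 ⟨1, a, b, Ne.symm ha1, Ne.symm hb1, hne, rfl⟩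
  have h4 := Finset.card_le_card h2
  omega

theorem inn_normal (S : Type*) [Group S] : (Inn S).Normal := by
  refine ⟨?_⟩
  rintro _ ⟨x, rfl⟩ β
  refine ⟨β x, ?_⟩
  ext y
  simp [MulAut.conj_apply]

namespace GNine

variable {K : Type} [Field K] [Fintype K]

theorem charP (hK : Fintype.card K = 9) : CharP K 3 := by
  obtain ⟨p, hp⟩ := CharP.exists K
  have : Fact p.Prime := ⟨CharP.char_is_prime K p⟩
  obtain ⟨n, hp', h⟩ := FiniteField.card K p
  rw [hK] at h
  have h1 : p ∣ 3 ^ 2 := by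
    rw [show (3 : ℕ) ^ 2 = 9 by norm_num, h]
    exact dvd_pow_self p n.pos.ne'
  have h2 := (Nat.prime_dvd_prime_iff_eq hp' Nat.prime_three).1 (hp'.dvd_of_dvd_pow h1)
  rwa [h2] at hp

theorem isType : IsType chevG2 2 CoxeterMatrix.G₂ := by
  simp [IsType, typeList]

theorem exists_ne (hK : Fintype.card K = 9) : ∃ a : K, a ≠ 0 ∧ a ≠ 1 := by
  classical
  by_contra hcon
  push Not at hcon
  have h1 : (Finset.univ : Finset K) ⊆ {0, 1} := by
    intro a _
    by_cases ha : a = 0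
    · simp [ha]
    · simp [hcon a ha]
  have h2 := Finset.card_le_card h1
  rw [Finset.card_univ] at h2
  have h3 := Finset.card_le_two (a := (0 : K)) (b := 1)
  omega

theorem center_bot {L : Type v} [Field L] (h : ∃ a : L, a ≠ 0 ∧ a ≠ 1) : center ↥(chevG2.group L) = ⊥ := by
  obtain ⟨a, b⟩ := Cfsg.Agent.S1055.result (F := L) h
  refine KFacts.RgdLieCharP.center_eq_bot ?_
  by_contra hcon
  push Not at hcon
  exact b ⟨⟨hcon⟩⟩

/-- the order of the centralizer of an involution -/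
theorem not_dvd (hK : Fintype.card K = 9) {g : ↥(chevG2.group K)} (hg : orderOf g = 2) :
    ¬ 3 ^ 6 ∣ Nat.card ↥(fixedSubgroup (MulAut.conj g : MulAut ↥(chevG2.group K))) := by
  rw [Cfsg.Agent.CpAut.fixedSubgroup_conj]
  have h1 := (Cfsg.Agent.S4279.result (F := K) (by rw [hK]; decide) g hg).1
  rw [h1, hK]
  norm_num

theorem isFieldAut (τ : K ≃+* K) : chevG2.IsFieldAut (fld chevG2 τ) := by
  refine ⟨τ, fun g r t hr hg => ?_⟩
  rw [Cfsg.Agent.CpAut.RgdUntw.fld_coe, hg]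
  exact Cfsg.Agent.ChevStructure.FieldMap.x_map chevG2 (τ : K →+* K) r t

theorem fld_injective {τ : K ≃+* K} (h : fld chevG2 τ = 1) : τ = 1 := by
  have hr : 7 < chevG2.nroots := by decide
  ext a
  have hmem : Cfsg.Agent.ChevalleyStructure.Elts.xG isType.inList 7 a ∈ chevG2.group K :=
    Cfsg.Agent.ChevalleyStructure.Elts.xG_mem_group isType.inList _ _
  have h1 := Cfsg.Agent.CpAut.RgdUntw.fld_coe (D := chevG2) τ ⟨_, hmem⟩
  rw [h] at h1
  have h2 : (Cfsg.Agent.ChevalleyStructure.Elts.xG isType.inList 7 a : GL chevG2.Idx K) =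
      Cfsg.Agent.ChevalleyStructure.Elts.xG isType.inList 7 (τ a) := by
    apply Units.ext
    exact h1.trans (Cfsg.Agent.ChevStructure.FieldMap.x_map chevG2 (τ : K →+* K) 7 a)
  exact (Cfsg.Agent.ChevalleyStructure.Elts.xG_injective isType.inList hr h2).symm

theorem fix_field (hK : Fintype.card K = 9) {τ : K ≃+* K} (hτ : orderOf (fld chevG2 τ) = 2) :
    Nat.card ↥(fixedSubgroup (fld chevG2 τ)) = 4245696 := by
  obtain ⟨F₀, i1, i2, hc, ⟨e⟩⟩ := Cfsg.Agent.S2664.result (fld chevG2 τ) (isFieldAut τ) 2 Nat.prime_two hτ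
  have h0 : Fintype.card F₀ = 3 := by
    rw [hK] at hc
    nlinarith [hc, sq_nonneg (Fintype.card F₀ : ℤ)]
  have h1 : Nat.card ↥(fixedSubgroup (fld chevG2 τ)) = Nat.card ↥(chevG2.group F₀) := Nat.card_congr e.toEquiv
  rw [h1, Cfsg.Agent.S1059.result rfl, h0]
  norm_num

theorem not_inner_of_dvd (hK : Fintype.card K = 9) {α : MulAut ↥(chevG2.group K)} (hα : orderOf α = 2)
    (h : 3 ^ 6 ∣ Nat.card ↥(fixedSubgroup α)) : ¬ ∃ y, α = MulAut.conj y := by
  rintro ⟨y, rfl⟩
  refine not_dvd hK ?_ h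
  rw [← Cfsg.Agent.CpAut.orderOf_conj (center_bot (exists_ne hK)) y]
  exact hα

theorem decomp (hK : Fintype.card K = 9) {α : MulAut ↥(chevG2.group K)} (hα : α * α = 1)
    (hni : ¬ ∃ y, α = MulAut.conj y) : ∃ (y : ↥(chevG2.group K)) (τ : K ≃+* K), orderOf (fld chevG2 τ) = 2 ∧
      α = MulAut.conj y * fld chevG2 τ := by
  have h3 := charP hK
  have : Fact (Nat.Prime 3) := ⟨Nat.prime_three⟩
  have : Fact (Nat.Prime 2) := ⟨Nat.prime_two⟩
  -- the Frobenius automorphism
  obtain ⟨τ, hτ⟩ : ∃ τ : K ≃+* K, ∀ a, τ a = a ^ 3 := ⟨frobeniusEquiv K 3, fun a => frobenius_def 3 a⟩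
  have hττ : τ * τ = 1 := by
    ext a
    show τ (τ a) = a
    rw [hτ, hτ, ← pow_mul]
    have := FiniteField.pow_card a
    rwa [hK] at this
  have hτ1 : τ ≠ 1 := by
    intro h1
    have h2 : ∀ a : K, a ^ 3 = a := fun a => by rw [← hτ, h1]; rfl
    obtain ⟨g, hg⟩ := IsCyclic.exists_generator (α := Kˣ)
    have h4 : orderOf g = 8 := by
      rw [orderOf_eq_card_of_forall_mem_zpowers hg, Nat.card_units, Nat.card_eq_fintype_card, hK]
    have h5 : g ^ 2 = 1 := by
      have h6 : g ^ 3 = g := Units.ext (by rw [Units.val_pow_eq_pow_val]; exact h2 g)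
      have h7 : g ^ 2 * g = 1 * g := by rw [← pow_succ, h6, one_mul]
      exact mul_right_cancel h7
    have h8 := orderOf_dvd_of_pow_eq_one h5
    rw [h4] at h8
    exact absurd h8 (by norm_num)
  have hf1 : fld chevG2 τ ≠ 1 := fun h => hτ1 (fld_injective h)
  have hf2 : fld chevG2 τ * fld chevG2 τ = 1 := by
    rw [← Cfsg.Agent.CpAut.RgdUntw.fld_mul, hττ, fld_one]
  have ho : orderOf (fld chevG2 τ) = 2 := orderOf_eq_prime (by rw [pow_two]; exact hf2) hf1
  have hfn := not_inner_of_dvd hK ho (by rw [fix_field hK ho]; norm_num)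
  -- the outer automorphism group
  have hN := inn_normal ↥(chevG2.group K)
  have hcyc : IsCyclic (Out ↥(chevG2.group K)) := by
    obtain ⟨β, h⟩ := Cfsg.Agent.H523.Chev.cycOut_G2 (F := K) (by rw [hK]; norm_num)
    refine ⟨⟨(QuotientGroup.mk β : Out ↥(chevG2.group K)), fun x => ?_⟩⟩
    obtain ⟨γ, rfl⟩ := QuotientGroup.mk_surjective x
    obtain ⟨g, k, rfl⟩ := h γ
    refine ⟨k, ?_⟩
    have h1 : (QuotientGroup.mk (MulAut.conj g) : Out ↥(chevG2.group K)) = 1 :=
      (QuotientGroup.eq_one_iff _).mpr ⟨g, rfl⟩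
    change (QuotientGroup.mk β : Out ↥(chevG2.group K)) ^ k = _
    rw [QuotientGroup.mk_mul, h1, one_mul, QuotientGroup.mk_zpow]
  have hfin : Finite (Out ↥(chevG2.group K)) := Finite.of_surjective _ (QuotientGroup.mk_surjective (s := Inn _))
  have key : (QuotientGroup.mk α : Out ↥(chevG2.group K)) = QuotientGroup.mk (fld chevG2 τ) := by
    refine eq_of_cyclic ?_ ?_ ?_ ?_
    · rw [← QuotientGroup.mk_mul, hα]; rfl
    · intro h1
      obtain ⟨y, hy⟩ := (QuotientGroup.eq_one_iff _).1 h1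
      exact hni ⟨y, hy.symm⟩
    · rw [← QuotientGroup.mk_mul, hf2]; rfl
    · intro h1
      obtain ⟨y, hy⟩ := (QuotientGroup.eq_one_iff _).1 h1
      exact hfn ⟨y, hy.symm⟩
  have h4 : α * (fld chevG2 τ)⁻¹ ∈ Inn ↥(chevG2.group K) := by
    have h5 : (QuotientGroup.mk (α * (fld chevG2 τ)⁻¹) : Out ↥(chevG2.group K)) = 1 := by
      rw [QuotientGroup.mk_mul, QuotientGroup.mk_inv, key, mul_inv_cancel]
    exact (QuotientGroup.eq_one_iff _).1 h5
  obtain ⟨y, hy⟩ := h4
  exact ⟨y, τ, ho, by rw [hy]; group⟩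

/-- **The order of the fixed subgroup.** -/
theorem fixed_card (hK : Fintype.card K = 9) {α : MulAut ↥(chevG2.group K)} (hα : α * α = 1)
    (hni : ¬ ∃ y, α = MulAut.conj y) : Nat.card ↥(fixedSubgroup α) = 4245696 := by
  have h3 := charP hK
  have : Fact (Nat.Prime 3) := ⟨Nat.prime_three⟩
  obtain ⟨y, τ, ho, hxy⟩ := decomp hK hα hni
  have hτ1 : τ ≠ 1 := by
    rintro rfl
    rw [fld_one, orderOf_one] at ho
    exact absurd ho (by norm_num)
  have h1 := Cfsg.Agent.H296.Core.charP_closure K 3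
  have hk := Cfsg.Agent.H296.Core.locFin_closure K 3
  have hZ : center ↥(chevG2.group (AlgebraicClosure K)) = ⊥ := by
    refine center_bot ?_
    obtain ⟨a, h0, h1⟩ := exists_ne hK
    exact ⟨algebraMap K (AlgebraicClosure K) a, (map_ne_zero _).2 h0, fun h => h1 ((algebraMap K (AlgebraicClosure K)).injective
      (by rw [h, map_one]))⟩
  have hd : chevG2.IsDiagonalAut (1 : MulAut ↥(chevG2.group K)) :=
    (Cfsg.Agent.H79.DiagAuts.diagFacts isType.inList K).isDiag _ 1 (Cfsg.Agent.H79.OutChev.IsD.one isType.inList)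
  obtain ⟨m, -, -, -, ζ, hζ⟩ := Cfsg.Agent.H296.Core.main isType 3 (algebraMap K (AlgebraicClosure K))
    (Cfsg.Agent.H296.ESixGF.gam_one isType 3 (algebraMap K (AlgebraicClosure K)) hk) hk hZ
    Cfsg.Agent.BpExc.FamInst.inv_G2 (by norm_num)
    (fun c _ => IsAlgClosed.exists_pow_nat_eq _ (by norm_num)) (Or.inl rfl) (n := 2)
    (by rw [Nat.card_eq_fintype_card, hK]; norm_num) hα (y := y) (d := 1) hd (fun _ => hτ1) (fun a => by rw [hxy]; rfl)
  have e : ↥(fixedSubgroup α) ≃ ↥(fixedSubgroup (fld chevG2 τ)) := by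
    refine Equiv.subtypeEquiv ζ.toEquiv fun a => ?_
    show α a = a ↔ fld chevG2 τ (ζ a) = ζ a
    rw [hζ]
    show ζ⁻¹ (((1 : MulAut ↥(chevG2.group K)) * fld chevG2 τ) (ζ a)) = a ↔ _
    rw [one_mul, MulAut.inv_apply, MulEquiv.symm_apply_eq]
  rw [Nat.card_congr e, fix_field hK ho]

end GNine

namespace Cfg

variable {X : Type u} [Group X] [Finite X] {α : MulAut X} {A : Subgroup X}

theorem fix_le (h : Cfg α A) {K : Type} [Field K] [Fintype K] (hK : Fintype.card K = 9) (e : X ≃* ↥(chevG2.group K))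
    (hA : Nat.card (↥A ⧸ center ↥A) = 4245696) : (¬ ∃ y, α = MulAut.conj y) ∧ fixedSubgroup α ≤ A := by
  have : Fact (Nat.Prime 2) := ⟨Nat.prime_two⟩
  have hcard : Nat.card ↥(fixedSubgroup α) = Nat.card ↥(fixedSubgroup (MulAut.congr e α)) :=
    Nat.card_congr (Cfsg.Agent.CpAut.fixEquiv e α).toEquiv
  have hAle : 4245696 ∣ Nat.card A := by
    rw [← hA]
    exact Subgroup.card_quotient_dvd_card _
  have hdvd : 4245696 ∣ Nat.card ↥(fixedSubgroup α) := hAle.trans (Subgroup.card_dvd_of_le h.le)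
  have hne : MulAut.congr e α ≠ 1 := fun h1 => h.ne ((MulAut.congr e).injective (by rw [h1, map_one]))
  have ho : orderOf (MulAut.congr e α) = 2 := orderOf_eq_prime (by rw [pow_two]; exact h.congr_sq e) hne
  have hni : ¬ ∃ y, MulAut.congr e α = MulAut.conj y := by
    refine GNine.not_inner_of_dvd hK ho ?_
    rw [← hcard]
    exact Dvd.dvd.trans (by norm_num) hdvd
  refine ⟨?_, ?_⟩
  · rintro ⟨y, rfl⟩
    apply hni
    refine ⟨e y, ?_⟩
    ext x
    rw [MulAut.congr_apply]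
    simp [MulAut.conj_apply]
  · have h1 := GNine.fixed_card hK (h.congr_sq e) hni
    rw [← hcard] at h1
    have h2 : Nat.card ↥(fixedSubgroup α) ≤ Nat.card A := by
      rw [h1]
      exact Nat.le_of_dvd Nat.card_pos hAle
    rw [Subgroup.eq_of_le_of_card_ge h.le h2]

end Cfg

end Cfsg.Agent.H293
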