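import Cfsg.Agent.H293.Asm
import Cfsg.Agent.H293.Bridge
import Cfsg.Agent.H293.GNine
import Cfsg.Agent.H293.TabG
import Cfsg.Agent.H293.Mul
import Cfsg.Agent.S2100

/-!
# Standard subgroups `L`, `L / Z(L) ≅ G₂(3)`, `C(L)` with cyclic Sylow 2-subgroups: the assembly

* `KnownU`, `SporG` : the two hypotheses (the classification; no sporadic groups);
* `core` : every related reduced configuration has the simple group `G₂(9)` and a mover;
* `main` : `E(G) ≅ G₂(9)` or `E(G) / Z(E(G)) ≅ G₂(3) × G₂(3)`.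
-/

set_option autoImplicit false

namespace Cfsg.Agent.H293.FinG

open Cfsg Subgroup Cfsg.Agent.H293.StdOdd Cfsg.Agent.H293.G2Odd Cfsg.Agent.H293.G2Std
open Cfsg.Agent.StdL2.Setup Cfsg.Agent.H293.Asm

universe u v w

/-- the classification -/
def KnownU : Prop := ∀ (X : Type u) [Group X] [Finite X] [IsSimpleGroup X], IsKnownSimple' X

/-- no sporadic groups -/
def SporG : Prop := ∀ (X : Type u) [Group X] [Finite X] [IsSimpleGroup X] (α : MulAut X) (A : Subgroup X), Cfg α A →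
  ((¬ ∃ y, α = MulAut.conj y) → Odd (Nat.card ↥(centralizer (A : Set X)))) →
  Nat.card (↥A ⧸ center ↥A) = 4245696 → ¬ IsSporadicGroup X

/-- the quotient by the centre of the subgroup inside the simple group -/
theorem quot_sub {H : Type u} [Group H] {N A : Subgroup H} (hle : A ≤ N) :
    Nonempty ((↥(A.subgroupOf N) ⧸ center ↥(A.subgroupOf N)) ≃* (↥A ⧸ center ↥A)) :=
  ⟨Cfsg.Agent.LieClassical.OrthFinite.quotientCenterCongr (subgroupOfEquivOfLe hle)⟩

/-- **the reduced configurations** -/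
theorem core_G (hk : KnownU.{u}) (hs : SporG.{u}) {G : Type u} [Group G] {L : Subgroup G}
    {F : Type v} [Field F] [Fintype F] (hF : Fintype.card F = 3)
    (e : (↥L ⧸ center ↥L) ≃* ↥(Cfsg.Lie.chevG2.group F))
    {H : Type u} [Group H] [Finite H] {N A : Subgroup H} {t : H} (R : Rel L N A t) :
    (∃ (K : Type) (_ : Field K) (_ : Fintype K), Fintype.card K = 9 ∧ Nonempty (↥N ≃* ↥(Cfsg.Lie.chevG2.group K))) ∧
      ∃ g z : H, z ∈ A ∧ z ≠ 1 ∧ g * t * g⁻¹ = t * z := by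
  have C := R.conf
  have hsN : IsSimpleGroup ↥N := C.simple
  have hna : ¬ IsMulCommutative ↥N := C.not_comm
  obtain ⟨f⟩ := quot_sub C.le
  obtain ⟨q⟩ := R.quot
  have e' := (f.trans q).trans e
  have hc := Cfg.card_G3 hF e'
  have hcfg := Bridge.cfg C
  obtain ⟨K, _, _, hK, ⟨g⟩⟩ := hcfg.tab_G hna (hk ↥N) hF e'
    (hs ↥N _ _ hcfg (Bridge.odd_cent C) hc)
  refine ⟨⟨K, inferInstance, inferInstance, hK, ⟨g⟩⟩, ?_⟩
  have hle := (hcfg.fix_le hK g hc).2
  exact Bridge.mover C fun x hx hxt => mem_subgroupOf.1 (hle ((Bridge.mem_fix C (x := ⟨x, hx⟩)).2 hxt))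

theorem center_prod_bot {S T : Type*} [Group S] [Group T] (h1 : center S = ⊥) (h2 : center T = ⊥) :
    center (S × T) = ⊥ := by
  rw [eq_bot_iff]
  rintro ⟨a, b⟩ hab
  rw [mem_center_iff] at hab
  have ha : a ∈ center S := by
    rw [mem_center_iff]
    intro g
    exact congrArg Prod.fst (hab (g, 1))
  have hb : b ∈ center T := by
    rw [mem_center_iff]
    intro g
    exact congrArg Prod.snd (hab (1, g))
  rw [h1, mem_bot] at ha
  rw [h2, mem_bot] at hb
  rw [mem_bot, ha, hb]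
  rfl

theorem main (hk : KnownU.{u}) (hs : SporG.{u}) {G : Type u} [Group G] [Finite G] {L : Subgroup G} (h : Hyp L)
    {F : Type v} [Field F] [Fintype F] (hF : Fintype.card F = 3)
    (e : (↥L ⧸ center ↥L) ≃* ↥(Cfsg.Lie.chevG2.group F)) (hn : ¬ (L ⊔ oddCore G).Normal) :
    (∃ (K : Type) (_ : Field K) (_ : Fintype K), Fintype.card K = 9 ∧
      Nonempty (↥(layer G) ≃* ↥(Cfsg.Lie.chevG2.group K))) ∨
      Nonempty ((↥(layer G) ⧸ center ↥(layer G)) ≃* ↥(Cfsg.Lie.chevG2.group F) × ↥(Cfsg.Lie.chevG2.group F)) := by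
  obtain ⟨hl, hp, hcase⟩ := Asm.out h hn (fun H _ _ N A t R => (core_G hk hs hF e R).2)
  rw [hl]
  rcases hcase with ⟨hsim, hnc, f, h1, h2, -⟩ | ⟨H, _, _, N, A, t, R, hE⟩
  · right
    obtain ⟨i⟩ := nonempty_quot_center hp h1 h2
    have hZ := center_eq_bot hsim hnc
    exact ⟨(i.trans (quotBot (center_prod_bot hZ hZ))).trans (e.prodCongr e)⟩
  · left
    obtain ⟨⟨K, i1, i2, hK, ⟨g⟩⟩, -⟩ := core_G hk hs hF e R
    exact ⟨K, i1, i2, hK, hE.equiv hp g (noOddExt_of_cyclic (k := 0) (S2100.result (F := K) (by omega)) (by norm_num))⟩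

end Cfsg.Agent.H293.FinG
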