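import Cfsg.Agent.Cit.HexG2
import Cfsg.Agent.Omega.SQK.Rank
import Cfsg.Agent.SigZeroU5.Rows
import Cfsg.Agent.H293.Tab

/-!
# `G₂(3)` does not embed in `PSp₄(q)`, `q` even: the 3-rank

(the first section follows a section of `Cfsg.Agent.EvenQT.Main`)
-/

set_option autoImplicit false

namespace Cfsg.Agent.H293.RankG2

open Cfsg Cfsg.Agent.Omega.SQK.Rank Cfsg.Agent.Cit Cfsg.Agent.Cit.HexBase

section hex

variable {E : Type*} [Field E] {σ : E ≃+* E} {L : Type*} [Group L] (c : HexGrp σ L)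

theorem x2_pow (n : ℕ) : c.x2 1 ^ n = c.x2 (n : E) := by
  induction n with
  | zero => rw [pow_zero, Nat.cast_zero, c.x2_zero]
  | succ n ih => rw [pow_succ, ih, Nat.cast_succ, c.x2_add (map_natCast σ n) (map_one σ)]

theorem x3_pow (n : ℕ) : c.x3 1 ^ n = c.x3 (n : E) := by
  induction n with
  | zero => rw [pow_zero, Nat.cast_zero, c.x3_zero]
  | succ n ih => rw [pow_succ, ih, Nat.cast_succ, c.x3_add]

theorem x4_pow (n : ℕ) : c.x4 1 ^ n = c.x4 (n : E) := by
  induction n with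
  | zero => rw [pow_zero, Nat.cast_zero, c.x4_zero]
  | succ n ih => rw [pow_succ, ih, Nat.cast_succ, c.x4_add (map_natCast σ n) (map_one σ)]

theorem comm_of_kk {G : Type*} [Group G] {a b : G} (h : SplitTwo.kk a b = 1) : Commute a b := by
  have h1 : a⁻¹ * b⁻¹ * a * b = 1 := h
  calc a * b = b * a * (a⁻¹ * b⁻¹ * a * b) := by group
    _ = b * a := by rw [h1, mul_one]

include c in
theorem not_prank (p : ℕ) [hp : Fact p.Prime] [CharP E p] : ¬ PRankLE p 2 L := by
  have : NeZero p := ⟨hp.out.ne_zero⟩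
  let a : Fin 3 → L := ![c.x2 1, c.x3 1, c.x4 1]
  have hap : ∀ i, a i ^ p = 1 := by
    intro i
    fin_cases i
    · show c.x2 1 ^ p = 1
      rw [x2_pow, CharP.cast_eq_zero, c.x2_zero]
    · show c.x3 1 ^ p = 1
      rw [x3_pow, CharP.cast_eq_zero, c.x3_zero]
    · show c.x4 1 ^ p = 1
      rw [x4_pow, CharP.cast_eq_zero, c.x4_zero]
  have h23 : Commute (c.x2 1) (c.x3 1) := comm_of_kk (c.par.rel.c23 1 1 (map_one σ))
  have h24 : Commute (c.x2 1) (c.x4 1) := comm_of_kk (c.par.rel.c24 1 1 (map_one σ) (map_one σ))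
  have h34 : Commute (c.x3 1) (c.x4 1) := comm_of_kk (c.par.rel.c34 1 1 (map_one σ))
  have hc : ∀ i j, Commute (a i) (a j) := by
    intro i j
    fin_cases i <;> fin_cases j
    · exact Commute.refl _
    · exact h23
    · exact h24
    · exact h23.symm
    · exact Commute.refl _
    · exact h34
    · exact h24.symm
    · exact h34.symm
    · exact Commute.refl _
  refine not_of_hom (homOf p a hap hc) ?_ (fun v => by funext i; simp) ?_
  · rw [injective_iff_map_eq_one]
    intro v hv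
    have h1 := homOf_three p a hap hc (Multiplicative.toAdd v)
    rw [ofAdd_toAdd, hv] at h1
    have h2 : c.x2 1 ^ (Multiplicative.toAdd v 0).val * c.x3 1 ^ (Multiplicative.toAdd v 1).val *
        c.x4 1 ^ (Multiplicative.toAdd v 2).val * 1 = 1 * 1 * 1 * 1 := by
      rw [mul_one, mul_one, mul_one, mul_one]
      exact h1.symm
    rw [x2_pow, x3_pow, x4_pow] at h2
    obtain ⟨k2, k3, k4, -⟩ := c.uniq25 (c.mem2 (map_natCast σ _)) (c.mem3 _) (c.mem4 (map_natCast σ _))
      (one_mem _) (one_mem _) (one_mem _) (one_mem _) (one_mem _) h2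
    rw [← c.x2_zero] at k2
    rw [← c.x3_zero] at k3
    rw [← c.x4_zero] at k4
    have e2 := c.x2_inj (map_natCast σ _) (map_zero σ) k2
    have e3 := c.x3_inj k3
    have e4 := c.x4_inj (map_natCast σ _) (map_zero σ) k4
    have key : ∀ z : ZMod p, ((z.val : ℕ) : E) = 0 → z = 0 := by
      intro z hz
      rw [CharP.cast_eq_zero_iff E p] at hz
      have := Nat.eq_zero_of_dvd_of_lt hz (ZMod.val_lt z)
      exact (ZMod.val_eq_zero z).1 this
    apply Multiplicative.toAdd.injective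
    funext i
    fin_cases i
    · exact key _ e2
    · exact key _ e3
    · exact key _ e4
  · rw [Nat.card_eq_fintype_card, Fintype.card_fun, ZMod.card, Fintype.card_fin]
    exact Nat.pow_lt_pow_right hp.out.one_lt (by norm_num)

end hex

theorem not_prank_G2 {F : Type*} [Field F] [Fintype F] (hF : Fintype.card F = 3) : ¬ PRankLE 3 2 ↥(Lie.chevG2.group F) := by
  have : CharP F 3 := by
    obtain ⟨p, hp⟩ := CharP.exists F
    obtain ⟨n, hn, hcard⟩ := FiniteField.card F p
    rw [hF] at hcard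
    have h1 : p ∣ 3 := by rw [hcard]; exact dvd_pow_self p n.2.ne'
    rwa [(Nat.prime_dvd_prime_iff_eq hn Nat.prime_three).1 h1] at hp
  have : Fact (Nat.Prime 3) := ⟨Nat.prime_three⟩
  refine not_prank (HexG2.g2 F ?_) 3
  intro h2
  have h1 : ((2 : ℕ) : F) = 0 := by exact_mod_cast h2
  rw [CharP.cast_eq_zero_iff F 3] at h1
  omega

end Cfsg.Agent.H293.RankG2

namespace Cfsg.Agent.H293.Cfg

open Subgroup Cfsg Cfsg.Agent.Omega.SQK.Rank

universe u v

variable {X : Type u} [Group X] [Finite X] {α : MulAut X} {A : Subgroup X}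

theorem cla_lie {X : Type u} [Group X] (h : H292.Rows.Cla X) : IsLieTypeChar 2 X := by
  rcases h with h | h | h | h | h
  · exact Or.inl h
  · exact Or.inr (Or.inr (Or.inl h))
  · exact Or.inr (Or.inl h)
  · exact Or.inr (Or.inr (Or.inr (Or.inr (Or.inl h))))
  · exact Or.inr (Or.inr (Or.inr (Or.inr (Or.inr (Or.inl h)))))

/-- a group of Lie type in characteristic two: the two cases -/
theorem split_two {X : Type u} [Group X] (h : IsLieTypeChar 2 X) :
    H292.Rows.Cla X ∨ (IsExceptionalChevChar 2 X ∨ IsTwistedE6D4Char 2 X ∨ Lie.IsoSuzuki X ∨ Lie.Iso2F4 X) := by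
  rcases h with h | h | h | h | h | h | h | h | h | h | h
  · exact Or.inl (Or.inl h)
  · exact Or.inl (Or.inr (Or.inr (Or.inl h)))
  · exact Or.inl (Or.inr (Or.inl h))
  · exfalso
    obtain ⟨F, _, _, _, m, -, ho, -⟩ := h
    obtain ⟨f, hf, hF⟩ := Cfsg.Agent.H284.SepOrd.field_pow (F := F) Nat.prime_two
    rw [hF] at ho
    exact (Nat.not_even_iff_odd.2 ho) ((even_two).pow_of_ne_zero (by omega))
  · exact Or.inl (Or.inr (Or.inr (Or.inr (Or.inl h))))
  · exact Or.inl (Or.inr (Or.inr (Or.inr (Or.inr h))))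
  · exact Or.inr (Or.inl h)
  · exact Or.inr (Or.inr (Or.inl h))
  · exact Or.inr (Or.inr (Or.inr (Or.inl h.2)))
  · exact Or.inr (Or.inr (Or.inr (Or.inr h.2)))
  · exact absurd h.1 (by norm_num)

/-- a group of Lie type in odd characteristic: the two cases -/
theorem split_odd {X : Type u} [Group X] {p : ℕ} (hp2 : p ≠ 2) (h : IsLieTypeChar p X) :
    H340.IsClassicalChar p X ∨ (IsExceptionalChevChar p X ∨ IsTwistedE6D4Char p X ∨ Lie.IsoRee X) := by
  rcases h with h1 | h1 | h1 | h1 | h1 | h1 | h1 | h1 | h1 | h1 | h1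
  · exact Or.inl (Or.inl h1)
  · exact Or.inl (Or.inr (Or.inl h1))
  · exact Or.inl (Or.inr (Or.inr (Or.inl h1)))
  · exact Or.inl (Or.inr (Or.inr (Or.inr (Or.inl h1))))
  · exact Or.inl (Or.inr (Or.inr (Or.inr (Or.inr (Or.inl h1)))))
  · exact Or.inl (Or.inr (Or.inr (Or.inr (Or.inr (Or.inr h1)))))
  · exact Or.inr (Or.inl h1)
  · exact Or.inr (Or.inr (Or.inl h1))
  · exact absurd h1.1 hp2
  · exact absurd h1.1 hp2
  · exact Or.inr (Or.inr (Or.inr h1.2))

/-- the simple group `A` -/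
theorem equiv_of_simple (h : Cfg α A) (hs : IsSimpleGroup ↥(A.subgroupOf (fixedSubgroup α)))
    (h1 : Nat.card (↥A ⧸ center ↥A) ≠ 1) : Nonempty (↥A ≃* (↥A ⧸ center ↥A)) := by
  have hA : IsSimpleGroup ↥A := (subgroupOfEquivOfLe h.le).symm.isSimpleGroup
  have hc : center ↥A = ⊥ := by
    rcases hA.eq_bot_or_eq_top_of_normal (center ↥A) inferInstance with h2 | h2
    · exact h2
    · exfalso
      apply h1
      rw [h2, ← Subgroup.index_eq_card, Subgroup.index_top]
  exact ⟨(QuotientGroup.quotientBot (G := ↥A)).symm.trans (QuotientGroup.quotientMulEquivOfEq hc.symm)⟩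

theorem not_spFour_G [IsSimpleGroup X] (hna : ¬ IsMulCommutative X) (h : Cfg α A) (hX : H292.Rows.SpFour X)
    (hX' : IsLieTypeChar 2 X) {F : Type v} [Field F] [Fintype F] (hF : Fintype.card F = 3)
    (hc : Nat.card (↥A ⧸ center ↥A) = 4245696) (e : (↥A ⧸ center ↥A) ≃* ↥(Lie.chevG2.group F)) : False := by
  obtain ⟨f⟩ := h.equiv_of_simple (h.simple_two hna hX').1 (by rw [hc]; norm_num)
  obtain ⟨K, _, _, _, -, ⟨g⟩⟩ := hX
  have h1 := RankG2.not_prank_G2 hF
  have h2 : ¬ PRankLE 3 2 (PSp 2 K) := by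
    refine not_of_injective ((g.toMonoidHom.comp A.subtype).comp (e.symm.trans f.symm).toMonoidHom) ?_ h1
    exact (g.injective.comp A.subtype_injective).comp (e.symm.trans f.symm).injective
  apply h2
  obtain ⟨m, hm, hK⟩ := Cfsg.Agent.H284.SepOrd.field_pow (F := K) Nat.prime_two
  exact Cfsg.Agent.SigZeroU5.rank_psp (by rw [hK]; exact (even_two).pow_of_ne_zero (by omega)) (by norm_num)
    Nat.prime_three (by norm_num)

end Cfsg.Agent.H293.Cfg
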