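import Cfsg.Agent.H293.Tab
import Cfsg.Agent.H293.RankG2
import Cfsg.Agent.H293.ExcSp
import Cfsg.Agent.OddHalf.Known
import Cfsg.Agent.LieClassical.FieldTransfer
import Cfsg.Agent.S0814
import Cfsg.Agent.S0270

/-!
# The table for `A ≅ Sp₆(2)`

* `Cfg.tab_Sp` : `X` is known and not sporadic: one of `L₆(2)`, `L₇(2)`, `U₆(2)`, `U₇(2)`, `Sp₆(4)`, `Ω₈⁺(2)`, `Ω₈⁻(2)`;
* `Cfg.fix_le_Sp` : `C_X(α) = A`.
-/

set_option autoImplicit false

namespace Cfsg.Agent.H293

open Subgroup Cfsg Cfsg.Agent.OrdDiv Cfsg.Agent.H902 Cfsg.Agent.H902.Names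

universe u v

/-- `Sp₆(2)` -/
abbrev P0 : Type := PSp 3 (ZMod 2)

theorem card_P0 : Nat.card P0 = 1451520 := by
  have h1 := (psp_real (F := ZMod 2) (m := 3) (p := 2) (f := 1) Nat.prime_two le_rfl (by rw [ZMod.card]; norm_num)
    (by norm_num) (by norm_num)).eq
  simp only [Art.dd, Art.NN, Art.num, Finset.prod_range_succ, Finset.prod_range_zero] at h1
  norm_num at h1
  exact h1

theorem card_aut_P0 : Nat.card (MulAut P0) = 1451520 := by
  have : Fact (Nat.Prime 2) := ⟨Nat.prime_two⟩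
  rw [S0814.result (F := ZMod 2) 2 1 le_rfl (by rw [ZMod.card]; norm_num) 3 (by norm_num) (fun h => by norm_num at h)]
  change _ * Nat.card P0 = _
  rw [card_P0]
  norm_num

theorem card_mulAut_congr {S T : Type*} [Group S] [Group T] (e : S ≃* T) : Nat.card (MulAut S) = Nat.card (MulAut T) :=
  Nat.card_congr (MulAut.congr e).toEquiv

/-- change of the field -/
noncomputable def toP0 {F : Type v} [Field F] [Fintype F] (hF : Fintype.card F = 2) : PSp 3 F ≃* P0 :=
  Cfsg.Agent.LieClassical.FieldTransfer.pspCongr 3 (FiniteField.ringEquivOfCardEq (by rw [hF, ZMod.card]))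

theorem simple_P0 : IsSimpleGroup P0 :=
  S0270.result 3 (by norm_num) (fun h => absurd h (by norm_num))

/-- the names of the possible groups -/
def lst : List Grp := [Grp.psl 6 2, .psl 7 2, .psu 6 2, .psu 7 2, .psp 3 4, .oplus 4 2, .ominus 4 2]

namespace Cfg

variable {X : Type u} [Group X] [Finite X] {α : MulAut X} {A : Subgroup X}

theorem center_bot_Sp (h : Cfg α A) (e : ↥A ≃* P0) : center ↥A = ⊥ := by
  have hs := simple_P0
  have hA : IsSimpleGroup ↥A := e.isSimpleGroup
  rcases hA.eq_bot_or_eq_top_of_normal (center ↥A) inferInstance with h2 | h2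
  · exact h2
  · exact absurd h2 (SignalizersComponents.Components.quasisimple_center_ne_top h.qs)

theorem card_Sp (h : Cfg α A) (e : ↥A ≃* P0) : Nat.card (↥A ⧸ center ↥A) = 1451520 := by
  rw [h.center_bot_Sp e, Nat.card_congr (QuotientGroup.quotientBot).toEquiv, Nat.card_congr e.toEquiv, card_P0]

/-- **The table for `Sp₆(2)`.** -/
theorem tab_Sp [IsSimpleGroup X] (hna : ¬ IsMulCommutative X) (hX : IsKnownSimple' X) (h : Cfg α A)
    (e : ↥A ≃* P0) (hsp : ¬ IsSporadicGroup X) : IsLieTypeChar 2 X ∧ ∃ g ∈ lst, OrdDiv.Real g X := by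
  have hc := h.card_Sp e
  have ho : IsOrd (Nat.card (↥A ⧸ center ↥A)) := Or.inr hc
  rcases OddHalf.Known.classify hna hX with h1 | ⟨p, hp, hp2, h1⟩ | h1 | h1
  · exact (h.not_alt h1 ho).elim
  · rcases split_odd hp2 h1 with h2 | h2
    · exact (h.not_class hp hp2 h2 ho).elim
    · refine (h.exc_Sp hp hp2 h2 hc ?_).elim
      rw [card_mulAut_congr ((QuotientGroup.quotientMulEquivOfEq (h.center_bot_Sp e)).trans
        ((QuotientGroup.quotientBot).trans e)), card_aut_P0]
  · rcases h1 with h1 | h1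
    · rcases split_two h1 with h2 | h2
      · rcases h.class_two hna h2 h1 ho with h3 | ⟨-, h3⟩
        · exfalso
          refine H292.Rows.not_eight h3 (A.subgroupOf (fixedSubgroup α)) ?_
          refine H292.Oct.Eight.map (e.symm.trans (subgroupOfEquivOfLe h.le).symm).toMonoidHom
            (e.symm.trans (subgroupOfEquivOfLe h.le).symm).injective ?_
          exact H292.Oct.oct_psp (F := ZMod 2) (k := 3) le_rfl
        · exact ⟨h1, h3⟩
      · exact (h.not_exc_two hna h2 ho).elim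
    · exact (h.not_tits h1 ho).elim
  · exact (hsp h1).elim

/-- **The fixed subgroup.** -/
theorem fix_le_Sp [IsSimpleGroup X] (hna : ¬ IsMulCommutative X) (hX : IsLieTypeChar 2 X) (h : Cfg α A)
    (e : ↥A ≃* P0) : fixedSubgroup α ≤ A := by
  have hcen := (h.simple_two hna hX).2
  have hn : (A.subgroupOf (fixedSubgroup α)).Normal := by
    refine ⟨fun n hn g => ?_⟩
    rw [mem_subgroupOf] at hn ⊢
    exact h.nrm g g.2 n hn
  have h1 : Nat.card ↥(fixedSubgroup α) ∣ Nat.card (MulAut ↥(A.subgroupOf (fixedSubgroup α))) := by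
    refine Subgroup.card_dvd_of_injective (MulAut.conjNormal (H := A.subgroupOf (fixedSubgroup α))) ?_
    rw [injective_iff_map_eq_one]
    intro x hx
    rw [← mem_bot, ← hcen, mem_centralizer_iff]
    intro b hb
    have h2 := MulAut.conjNormal_apply (H := A.subgroupOf (fixedSubgroup α)) x ⟨b, hb⟩
    rw [hx] at h2
    have h3 : b = x * b * x⁻¹ := h2
    rwa [eq_mul_inv_iff_mul_eq] at h3
  rw [card_mulAut_congr ((subgroupOfEquivOfLe h.le).trans e), card_aut_P0] at h1
  have h2 : Nat.card A = 1451520 := by rw [Nat.card_congr e.toEquiv, card_P0]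
  have h3 : Nat.card ↥(fixedSubgroup α) ≤ Nat.card A := by
    rw [h2]
    exact Nat.le_of_dvd (by norm_num) h1
  rw [Subgroup.eq_of_le_of_card_ge h.le h3]

end Cfg

end Cfsg.Agent.H293
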