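import Cfsg.Agent.H293.Asm
import Cfsg.Agent.H293.Bridge
import Cfsg.Agent.H293.TabSp
import Cfsg.Agent.H293.Mul
import Cfsg.Agent.H293.FinG
import Cfsg.Agent.UGT.U2.Rec.Congr
import Cfsg.Agent.LieClassical.HermPerfect
import Cfsg.Agent.S0279
import Cfsg.Agent.S2086
import Cfsg.Agent.S2089
import Cfsg.Agent.S2091
import Cfsg.Agent.S2092
import Cfsg.Agent.S2093
import Cfsg.Agent.S2098
import Cfsg.Agent.S2099

/-!
# Standard subgroups `L ≅ Sp₆(2)`, `C(L)` with cyclic Sylow 2-subgroups: the assembly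

* `SporSp` : no sporadic groups;
* `core_Sp` : every related reduced configuration has a simple group on the list and a mover;
* `main` : the statement.
-/

set_option autoImplicit false

namespace Cfsg.Agent.H293.FinSp

open Cfsg Subgroup Cfsg.Agent.H293.StdOdd Cfsg.Agent.H293.G2Odd Cfsg.Agent.H293.G2Std
open Cfsg.Agent.StdL2.Setup Cfsg.Agent.H293.Asm Cfsg.Agent.H293.FinG Cfsg.Agent.OrdDiv
open Cfsg.Agent.LieClassical.FieldTransfer

universe u v w

/-- no sporadic groups -/
def SporSp : Prop := ∀ (X : Type u) [Group X] [Finite X] [IsSimpleGroup X] (α : MulAut X) (A : Subgroup X), Cfg α A →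
  ((¬ ∃ y, α = MulAut.conj y) → Odd (Nat.card ↥(centralizer (A : Set X)))) →
  Nonempty (↥A ≃* P0) → ¬ IsSporadicGroup X

/-- **the reduced configurations** -/
theorem core_Sp (hk : KnownU.{u}) (hs : SporSp.{u}) {G : Type u} [Group G] {L : Subgroup G}
    (e : ↥L ≃* P0) (hZ : center ↥L = ⊥)
    {H : Type u} [Group H] [Finite H] {N A : Subgroup H} {t : H} (R : Rel L N A t) :
    (∃ g ∈ lst, OrdDiv.Real g ↥N) ∧ ∃ g z : H, z ∈ A ∧ z ≠ 1 ∧ g * t * g⁻¹ = t * z := by
  have C := R.conf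
  have hsN : IsSimpleGroup ↥N := C.simple
  have hna : ¬ IsMulCommutative ↥N := C.not_comm
  obtain ⟨i⟩ := R.iso hZ
  have e' : ↥(A.subgroupOf N) ≃* P0 := ((subgroupOfEquivOfLe C.le).trans i).trans e
  have hcfg := Bridge.cfg C
  obtain ⟨h2, hg⟩ := hcfg.tab_Sp hna (hk ↥N) e' (hs ↥N _ _ hcfg (Bridge.odd_cent C) ⟨e'⟩)
  refine ⟨hg, ?_⟩
  have hle := hcfg.fix_le_Sp hna h2 e'
  exact Bridge.mover C fun x hx hxt => mem_subgroupOf.1 (hle ((Bridge.mem_fix C (x := ⟨x, hx⟩)).2 hxt))

section congr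

variable {F : Type v} {F' : Type w} [Field F] [Fintype F] [Field F'] [Fintype F']

theorem plus_congr (hF : Fintype.card F = Fintype.card F') (m : ℕ) :
    Nonempty (POmega F (quadFormPlus m F) ≃* POmega F' (quadFormPlus m F')) :=
  UGT.U2.Rec.Congr.nonempty_POmega (FiniteField.ringEquivOfCardEq hF) fun v => by
    simp [quadFormPlus, map_sum, map_mul]

theorem minus_congr (hF : Fintype.card F = Fintype.card F') (m : ℕ) (a b : F)
    (hab : ∀ z₁ z₂ : F, z₁ ^ 2 + a * z₁ * z₂ + b * z₂ ^ 2 = 0 → z₁ = 0 ∧ z₂ = 0) :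
    ∃ a' b' : F', (∀ z₁ z₂ : F', z₁ ^ 2 + a' * z₁ * z₂ + b' * z₂ ^ 2 = 0 → z₁ = 0 ∧ z₂ = 0) ∧
      Nonempty (POmega F (quadFormMinus m F a b) ≃* POmega F' (quadFormMinus m F' a' b')) := by
  let σ : F ≃+* F' := FiniteField.ringEquivOfCardEq hF
  refine ⟨σ a, σ b, ?_, ?_⟩
  · intro z₁ z₂ h
    have h1 : σ (σ.symm z₁ ^ 2 + a * σ.symm z₁ * σ.symm z₂ + b * σ.symm z₂ ^ 2) = σ 0 := by
      simp only [map_add, map_mul, map_pow, RingEquiv.apply_symm_apply, map_zero]
      exact h
    obtain ⟨h2, h3⟩ := hab _ _ (σ.injective h1)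
    constructor
    · have := congrArg σ h2
      rwa [RingEquiv.apply_symm_apply, map_zero] at this
    · have := congrArg σ h3
      rwa [RingEquiv.apply_symm_apply, map_zero] at this
  · refine UGT.U2.Rec.Congr.nonempty_POmega σ fun v => ?_
    simp [quadFormMinus, map_sum, map_mul, map_add, map_pow]

end congr

theorem lift {G : Type u} [Group G] {L : Subgroup G} {N : Type u} [Group N] (hE : Ext L N) {R : Type w} [Group R]
    (e : N ≃* R) : ∃ f : ↥(normalClosure (L : Set G)) →* R, Function.Surjective f ∧ f.ker ≤ center _ ∧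
      Odd (Nat.card f.ker) := by
  obtain ⟨f, h1, h2, h3⟩ := hE
  have hk : (e.toMonoidHom.comp f).ker = f.ker := by
    ext x
    rw [MonoidHom.mem_ker, MonoidHom.mem_ker]
    constructor
    · intro h4
      exact e.injective (by rw [map_one]; exact h4)
    · intro h4
      show e (f x) = 1
      rw [h4, map_one]
  exact ⟨e.toMonoidHom.comp f, e.surjective.comp h1, by rw [hk]; exact h2, by rw [hk]; exact h3⟩

/-- the conclusion for the simple case -/
def Concl (F : Type v) [Field F] (M : Type u) [Group M] : Prop :=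
  Nonempty (M ≃* POmega F (quadFormPlus 4 F)) ∨
    (∃ a b : F, (∀ z₁ z₂ : F, z₁ ^ 2 + a * z₁ * z₂ + b * z₂ ^ 2 = 0 → z₁ = 0 ∧ z₂ = 0) ∧
      Nonempty (M ≃* POmega F (quadFormMinus 3 F a b))) ∨
    (∃ (K : Type) (_ : Field K) (_ : Fintype K), Fintype.card K = 4 ∧
      (Nonempty (M ≃* PSU 6 K 2) ∨ Nonempty (M ≃* ↥(SU 6 K 2)) ∨ Nonempty (M ≃* PSU 7 K 2) ∨ Nonempty (M ≃* PSp 3 K))) ∨
    Nonempty (M ≃* Matrix.ProjectiveSpecialLinearGroup (Fin 6) F) ∨
    Nonempty (M ≃* Matrix.ProjectiveSpecialLinearGroup (Fin 7) F)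

theorem concl_of_ext {F : Type v} [Field F] [Fintype F] (hF : Fintype.card F = 2) {G : Type u} [Group G] [Finite G]
    {L : Subgroup G} (hp : _root_.commutator ↥(normalClosure (L : Set G)) = ⊤) {N : Type u} [Group N] (hE : Ext L N)
    {g : Grp} (hg : g ∈ lst) (hr : OrdDiv.Real g N) : Concl F ↥(normalClosure (L : Set G)) := by
  unfold lst at hg
  simp only [List.mem_cons, List.mem_nil_iff, or_false] at hg
  rcases hg with rfl | rfl | rfl | rfl | rfl | rfl | rfl
  · obtain ⟨F', _, _, hF', ⟨e⟩⟩ := hr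
    right; right; right; left
    exact hE.equiv hp (e.trans (pslCongr (FiniteField.ringEquivOfCardEq (hF'.trans hF.symm))))
      (noOddExt_of_cyclic (k := 0) (S2086.result (F := F) hF 6 (by norm_num) (by norm_num) (by simp)) (by norm_num))
  · obtain ⟨F', _, _, hF', ⟨e⟩⟩ := hr
    right; right; right; right
    exact hE.equiv hp (e.trans (pslCongr (FiniteField.ringEquivOfCardEq (hF'.trans hF.symm))))
      (noOddExt_of_cyclic (k := 0) (S2086.result (F := F) hF 7 (by norm_num) (by norm_num) (by simp)) (by norm_num))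
  · obtain ⟨F', _, _, hF', ⟨e⟩⟩ := hr
    right; right; left
    refine ⟨F', inferInstance, inferInstance, by rw [hF']; norm_num, ?_⟩
    obtain ⟨f, h1, h2, h3⟩ := lift hE e
    have hfin : Finite ↥(SU 6 F' 2) := inferInstance
    have hS : _root_.commutator ↥(SU 6 F' 2) = ⊤ :=
      LieClassical.HermPerfect.commutator_SU_eq_top hF' (by norm_num) (by norm_num)
    rcases unique_of_three (k := 2) (S2091.result (F := F') (by rw [hF']; norm_num))
      (by rw [Nat.card_congr (Multiplicative.toAdd (α := ZMod 3 × ZMod 2 × ZMod 2)), Nat.card_prod, Nat.card_prod,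
            Nat.card_zmod, Nat.card_zmod]; norm_num) hp f h1 h2 h3 hS (QuotientGroup.mk' (center ↥(SU 6 F' 2))) (QuotientGroup.mk'_surjective _)
      (by rw [QuotientGroup.ker_mk']) (by
        rw [QuotientGroup.ker_mk']
        exact S0279.result hF' 6 (by norm_num)) with h4 | h4
    · exact Or.inl h4
    · exact Or.inr (Or.inl h4)
  · obtain ⟨F', _, _, hF', ⟨e⟩⟩ := hr
    right; right; left
    refine ⟨F', inferInstance, inferInstance, by rw [hF']; norm_num, Or.inr (Or.inr (Or.inl ?_))⟩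
    exact hE.equiv hp e (noOddExt_of_cyclic (k := 0)
      (S2089.result (F := F') 7 2 hF' (by norm_num) (by norm_num) (by simp)) (by norm_num))
  · obtain ⟨F', _, _, hF', ⟨e⟩⟩ := hr
    right; right; left
    refine ⟨F', inferInstance, inferInstance, hF', Or.inr (Or.inr (Or.inr ?_))⟩
    exact hE.equiv hp e (noOddExt_of_cyclic (k := 0)
      (S2092.result (F := F') hF' 3 (by norm_num) (by norm_num) (by norm_num)) (by norm_num))
  · obtain ⟨F', _, _, hF', ⟨e⟩⟩ := hr
    left
    obtain ⟨i⟩ := plus_congr (hF'.trans hF.symm) 4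
    exact hE.equiv hp (e.trans i) (noOddExt_of_pow (k := 2) (S2098.result (F := F) hF) (by
      rw [Nat.card_congr (Multiplicative.toAdd (α := ZMod 2 × ZMod 2)), Nat.card_prod, Nat.card_zmod]; norm_num))
  · obtain ⟨F', _, _, a, b, hF', hab, ⟨e⟩⟩ := hr
    right; left
    obtain ⟨a', b', hab', ⟨i⟩⟩ := minus_congr (hF'.trans hF.symm) 3 a b hab
    exact ⟨a', b', hab', hE.equiv hp (e.trans i) (noOddExt_of_cyclic (k := 0)
      (S2099.result (F := F) hF 4 le_rfl a' b' hab') (by norm_num))⟩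

theorem main (hk : KnownU.{u}) (hs : SporSp.{u}) {G : Type u} [Group G] [Finite G] {L : Subgroup G} (h : Hyp L)
    {F : Type v} [Field F] [Fintype F] (hF : Fintype.card F = 2) (e : ↥L ≃* PSp 3 F) (hn : ¬ (L ⊔ oddCore G).Normal) :
    Concl F ↥(normalClosure (L : Set G)) ∨ Nonempty (↥(normalClosure (L : Set G)) ≃* ↥L × ↥L) := by
  have e0 : ↥L ≃* P0 := e.trans (toP0 hF)
  have hZ : center ↥L = ⊥ := by
    have hs := simple_P0
    have hA : IsSimpleGroup ↥L := e0.isSimpleGroup
    rcases hA.eq_bot_or_eq_top_of_normal (center ↥L) inferInstance with h2 | h2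
    · exact h2
    · exact absurd h2 (SignalizersComponents.Components.quasisimple_center_ne_top h.std.1)
  obtain ⟨hl, hp, hcase⟩ := Asm.out h hn (fun H _ _ N A t R => (core_Sp hk hs e0 hZ R).2)
  rcases hcase with ⟨-, -, hE⟩ | ⟨H, _, _, N, A, t, R, hE⟩
  · right
    have q : (↥L ⧸ center ↥L) ≃* ↥L := (QuotientGroup.quotientMulEquivOfEq hZ).trans QuotientGroup.quotientBot
    have hN : NoOddExt.{u} ↥L := (noOddExt_of_cyclic (k := 1) (S2093.result hF) (by norm_num)).congr e
    have hperf : _root_.commutator ↥L = ⊤ := h.std.1.1.commutator_eq_top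
    exact hE.equiv hp (q.prodCongr q) (hN.prod hN hperf hperf)
  · left
    obtain ⟨⟨g, hg, hr⟩, -⟩ := core_Sp hk hs e0 hZ R
    exact concl_of_ext hF hp hE hg hr

end Cfsg.Agent.H293.FinSp
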