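import Cfsg.Agent.H293.StdOdd

/-!
# Standard subgroups whose centralizer has cyclic Sylow 2-subgroups: the action on the odd core

`Hyp.le_centralizer` : if `g t g⁻¹ ∈ t u O`, `u ∈ L \ O`, `t` an involution of `C_G(L)`, `O` normal of odd order, then `L`
centralizes `O`.
-/

set_option autoImplicit false
set_option linter.unusedSectionVars false

namespace Cfsg.Agent.H293.StdOdd

open Cfsg Subgroup Cfsg.Agent.SignalizersComponents Cfsg.Agent.SignalizersComponents.Components
open Cfsg.Agent.SignalizersComponents.StandardTools Cfsg.Agent.StdG24.StdQuot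
open scoped commutatorElement

universe u

/-- The computation in an abelian normal subgroup `M` without involutions: `t` inverts `[M, L]`, `t u` inverts `[M, L₁]`, `u ∈ L`;
then `[l, u]` acts trivially for `l ∈ L₁`. -/
theorem key_comm {X : Type*} [Group X] {M : Subgroup X} (hM : M.Normal) (hab : ∀ a ∈ M, ∀ b ∈ M, a * b = b * a)
    (hodd : ∀ a ∈ M, a * a = 1 → a = 1) {t u : X} {L L₁ : Subgroup X} (ht : t * t = 1) (hu : u * u = 1)
    (htL : ∀ l ∈ L, t * l = l * t) (huL : u ∈ L) (hsL : ∀ l ∈ L₁, t * u * l = l * (t * u))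
    (h1 : ∀ m ∈ M, t * m = m * t → ∀ l ∈ L, l * m = m * l)
    (h2 : ∀ m ∈ M, t * u * m = m * (t * u) → ∀ l ∈ L₁, l * m = m * l) :
    ∀ l ∈ L₁, ∀ m ∈ M, (l * u) * m * (l * u)⁻¹ = (u * l) * m * (u * l)⁻¹ := by
  -- the action
  obtain ⟨c, hc⟩ : ∃ c : X → X → X, ∀ x m, c x m = x * m * x⁻¹ := ⟨_, fun _ _ => rfl⟩
  have cM : ∀ x, ∀ m ∈ M, c x m ∈ M := fun x m hm => by rw [hc]; exact hM.conj_mem m hm x
  have cmul : ∀ x m n, c x (m * n) = c x m * c x n := fun x m n => by simp only [hc]; group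
  have cinv : ∀ x m, c x m⁻¹ = (c x m)⁻¹ := fun x m => by simp only [hc]; group
  have cc : ∀ x y m, c x (c y m) = c (x * y) m := fun x y m => by simp only [hc]; group
  have c1 : ∀ m, c 1 m = m := fun m => by simp only [hc]; group
  -- (1)
  have A1 : ∀ l ∈ L, ∀ m ∈ M, c t (c l m * m⁻¹) = (c l m * m⁻¹)⁻¹ := by
    intro l hl m hm
    have e1 : t * (m * c t m) = (m * c t m) * t := by
      have h : c t (m * c t m) = m * c t m := by
        rw [cmul, cc, ht, c1]
        exact hab _ (cM t m hm) _ hm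
      have h' : t * (m * c t m) * t⁻¹ = m * c t m := by rw [← hc]; exact h
      calc t * (m * c t m) = t * (m * c t m) * t⁻¹ * t := by group
        _ = (m * c t m) * t := by rw [h']
    have e2 := h1 _ (M.mul_mem hm (cM t m hm)) e1 l hl
    have e3 : c l (m * c t m) = m * c t m := by
      rw [hc l, e2]; group
    rw [cmul, cc, ← htL l hl, ← cc] at e3
    -- e3 : c l m * c t (c l m) = m * c t m
    rw [cmul, cinv, mul_inv_rev, inv_inv]
    have e4 := hab _ (cM l m hm) _ (cM t _ (cM l m hm))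
    have e5 := hab _ hm _ (cM t m hm)
    have e6 : c t (c l m) = (c l m)⁻¹ * (m * c t m) := by rw [← e3]; group
    rw [e6]
    have e7 : (c l m)⁻¹ * (m * c t m) * (c t m)⁻¹ = (c l m)⁻¹ * m := by group
    rw [e7]
    exact hab _ (M.inv_mem (cM l m hm)) _ hm
  -- (2)
  have hs2 : (t * u) * (t * u) = 1 := by
    rw [show t * u * (t * u) = t * (u * t) * u by group, ← htL u huL, show t * (t * u) * u = (t * t) * (u * u) by group, ht, hu,
      one_mul]
  have A2 : ∀ l ∈ L₁, ∀ m ∈ M, c (t * u) (c l m * m⁻¹) = (c l m * m⁻¹)⁻¹ := by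
    intro l hl m hm
    have e1 : t * u * (m * c (t * u) m) = (m * c (t * u) m) * (t * u) := by
      have h : c (t * u) (m * c (t * u) m) = m * c (t * u) m := by
        rw [cmul, cc, hs2, c1]
        exact hab _ (cM _ m hm) _ hm
      have h' : (t * u) * (m * c (t * u) m) * (t * u)⁻¹ = m * c (t * u) m := by rw [← hc]; exact h
      calc (t * u) * (m * c (t * u) m) = (t * u) * (m * c (t * u) m) * (t * u)⁻¹ * (t * u) := by group
        _ = (m * c (t * u) m) * (t * u) := by rw [h']
    have e2 := h2 _ (M.mul_mem hm (cM (t * u) m hm)) e1 l hl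
    have e3 : c l (m * c (t * u) m) = m * c (t * u) m := by
      rw [hc l, e2]; group
    rw [cmul, cc, ← hsL l hl, ← cc] at e3
    rw [cmul, cinv, mul_inv_rev, inv_inv]
    have e6 : c (t * u) (c l m) = (c l m)⁻¹ * (m * c (t * u) m) := by rw [← e3]; group
    rw [e6]
    have e7 : (c l m)⁻¹ * (m * c (t * u) m) * (c (t * u) m)⁻¹ = (c l m)⁻¹ * m := by group
    rw [e7]
    exact hab _ (M.inv_mem (cM l m hm)) _ hm
  -- (3)
  have A3 : ∀ m ∈ M, c (t * u) (c u m * m⁻¹) = c u m * m⁻¹ := by
    intro m hm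
    have e1 : c u (c u m * m⁻¹) = (c u m * m⁻¹)⁻¹ := by
      rw [cmul, cc, hu, c1, cinv, mul_inv_rev, inv_inv]
    rw [← cc, e1, cinv, A1 u huL m hm, inv_inv]
  have A3' : ∀ l ∈ L₁, ∀ m ∈ M, c l (c u m * m⁻¹) = c u m * m⁻¹ := by
    intro l hl m hm
    have hmem : c u m * m⁻¹ ∈ M := M.mul_mem (cM u m hm) (M.inv_mem hm)
    have e1 := A3 m hm
    have e1' : (t * u) * (c u m * m⁻¹) * (t * u)⁻¹ = c u m * m⁻¹ := by rw [← hc]; exact e1
    have e2 : t * u * (c u m * m⁻¹) = (c u m * m⁻¹) * (t * u) := by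
      calc t * u * (c u m * m⁻¹) = (t * u) * (c u m * m⁻¹) * (t * u)⁻¹ * (t * u) := by group
        _ = _ := by rw [e1']
    have e3 := h2 _ hmem e2 l hl
    rw [hc l, e3]; group
  -- (4)
  have A4 : ∀ l ∈ L₁, ∀ m ∈ M, c u (c l m * m⁻¹) = c l m * m⁻¹ := by
    intro l hl m hm
    have hb : c l m * m⁻¹ ∈ M := M.mul_mem (cM l m hm) (M.inv_mem hm)
    have e1 := A3 _ hb
    have e2 : c (t * u) (c u (c l m * m⁻¹) * (c l m * m⁻¹)⁻¹) = (c u (c l m * m⁻¹) * (c l m * m⁻¹)⁻¹)⁻¹ := by
      rw [cmul, cinv, A2 l hl m hm, cc, show t * u * u = u * (t * u) by rw [mul_assoc, hu, ← mul_assoc, ← htL u huL, mul_assoc, hu],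
        ← cc, A2 l hl m hm, cinv, inv_inv, mul_inv_rev, inv_inv]
      exact hab _ (M.inv_mem (cM u _ hb)) _ hb
    rw [e1] at e2
    have h3 : c u (c l m * m⁻¹) * (c l m * m⁻¹)⁻¹ ∈ M := M.mul_mem (cM u _ hb) (M.inv_mem hb)
    have h4 := hodd _ h3 (by rw [mul_eq_one_iff_eq_inv]; exact e2)
    rwa [mul_inv_eq_one] at h4
  intro l hl m hm
  rw [← hc, ← hc]
  have e1 := A3' l hl m hm
  have e2 := A4 l hl m hm
  rw [cmul, cinv, cc] at e1 e2
  have e3 : c (l * u) m = c u m * m⁻¹ * c l m := by rw [← e1]; group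
  have e4 : c (u * l) m = c l m * m⁻¹ * c u m := by rw [← e2]; group
  rw [e3, e4]
  have e5 := hab _ (cM u m hm) _ (M.mul_mem (M.inv_mem hm) (cM l m hm))
  have e6 := hab _ (M.inv_mem hm) _ (cM l m hm)
  rw [mul_assoc, e5, e6]

/-- fixed points of an involution in a section of odd order lift -/
theorem exists_fix_lift {X : Type*} [Group X] [Finite X] {N : Subgroup X} (hN : N.Normal) (hodd : Odd (Nat.card N)) {t m : X}
    (ht : t * t = 1) (hm : m⁻¹ * (t * m * t⁻¹) ∈ N) : ∃ n ∈ N, t * (m * n) = (m * n) * t := by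
  set c := m⁻¹ * (t * m * t⁻¹) with hc
  have hti : t⁻¹ = t := inv_eq_of_mul_eq_one_right ht
  have h1 : t * c * t⁻¹ = c⁻¹ := by
    rw [hc, mul_inv_rev, inv_inv, hti]
    calc t * (m⁻¹ * (t * m * t)) * t = (t * m⁻¹ * t) * m * (t * t) := by group
      _ = (t * m⁻¹ * t) * m := by rw [ht, mul_one]
      _ = (t * m * t)⁻¹ * m := by rw [mul_inv_rev, mul_inv_rev, hti, mul_assoc t]
  obtain ⟨k, hk⟩ := hodd
  have h2 : c ^ Nat.card N = 1 := by
    have := pow_card_eq_one' (x := (⟨c, hm⟩ : N))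
    exact congrArg Subtype.val this
  refine ⟨c ^ (k + 1), pow_mem hm _, ?_⟩
  have h3 : t * c ^ (k + 1) * t⁻¹ = (c ^ (k + 1))⁻¹ := by
    rw [← conj_pow, h1, inv_pow]
  have h4 : c * (c ^ (k + 1))⁻¹ = c ^ (k + 1) := by
    rw [mul_inv_eq_iff_eq_mul, ← pow_add, show k + 1 + (k + 1) = 2 * k + 1 + 1 by omega, pow_succ, ← hk, h2, one_mul]
  calc t * (m * c ^ (k + 1)) = (t * m * t⁻¹) * (t * c ^ (k + 1) * t⁻¹) * t := by group
    _ = m * c * (t * c ^ (k + 1) * t⁻¹) * t := by rw [hc]; group
    _ = m * (c * (c ^ (k + 1))⁻¹) * t := by rw [h3]; group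
    _ = m * c ^ (k + 1) * t := by rw [h4]

namespace Hyp

variable {G : Type u} [Group G] [Finite G] {L : Subgroup G}

/-- One step: an abelian section. -/
theorem le_step (h : Hyp L) {t g u : G} (ht : orderOf t = 2) (htL : t ∈ centralizer (L : Set G)) (huL : u ∈ L)
    (hu : u * u = 1) (hu1 : u ≠ 1) (hg : g * t * g⁻¹ = t * u) {M N : Subgroup G} (hM : M.Normal) (hN : N.Normal) (hNM : N ≤ M)
    (hab : ⁅M, M⁆ ≤ N) (hodd : Odd (Nat.card M)) : ⁅L, M⁆ ≤ N := by
  have ht2 := sq_eq_one ht
  set π := QuotientGroup.mk' N with hπ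
  have hker : ∀ x : G, π x = 1 ↔ x ∈ N := fun x => by rw [← MonoidHom.mem_ker, hπ, QuotientGroup.ker_mk']
  have hNodd : Odd (Nat.card N) := by
    obtain ⟨k, hk⟩ := card_dvd_of_le hNM
    rw [hk] at hodd
    exact (Nat.odd_mul.1 hodd).1
  -- fixed points
  have fixt : ∀ (s : G) (P : Subgroup G), s * s = 1 → (∀ m ∈ M, s * m = m * s → ∀ l ∈ P, l * m = m * l) →
      ∀ m ∈ M.map π, π s * m = m * π s → ∀ l ∈ P.map π, l * m = m * l := by
    rintro s P hs hP _ ⟨m, hm, rfl⟩ hsm _ ⟨l, hl, rfl⟩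
    have hsm' : m⁻¹ * (s * m * s⁻¹) ∈ N := by
      rw [← hker, map_mul, map_mul, map_mul, map_inv, map_inv, hsm]; group
    obtain ⟨n, hn, hmn⟩ := exists_fix_lift hN hNodd hs hsm'
    have h1 := hP (m * n) (M.mul_mem hm (hNM hn)) hmn l hl
    have h2 : π n = 1 := (hker n).2 hn
    have h3 := congrArg π h1
    rwa [map_mul, map_mul, map_mul, map_mul, h2, mul_one] at h3
  -- facts at `t`
  have f1 : ∀ m ∈ M, t * m = m * t → ∀ l ∈ L, l * m = m * l := by
    intro m hm htm l hl
    exact mem_centralizer_iff.1 (h.cent_of_fix ht htL hM hodd hm htm.symm) l hl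
  -- facts at `t u = t ^ g`
  set L₁ := L.map (MulAut.conj g).toMonoidHom with hL₁
  have f2 : ∀ m ∈ M, t * u * m = m * (t * u) → ∀ l ∈ L₁, l * m = m * l := by
    rintro m hm htm _ ⟨l, hl, rfl⟩
    have h1 : t * (g⁻¹ * m * g) = (g⁻¹ * m * g) * t := by
      have e : t = g⁻¹ * (t * u) * g := by rw [← hg]; group
      calc t * (g⁻¹ * m * g) = (g⁻¹ * (t * u) * g) * (g⁻¹ * m * g) := by rw [← e]
        _ = g⁻¹ * (t * u * m) * g := by group
        _ = g⁻¹ * (m * (t * u)) * g := by rw [htm]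
        _ = (g⁻¹ * m * g) * (g⁻¹ * (t * u) * g) := by group
        _ = (g⁻¹ * m * g) * t := by rw [← e]
    have hm' : g⁻¹ * m * g ∈ M := by
      have := hM.conj_mem m hm g⁻¹
      rwa [inv_inv] at this
    have h2 := f1 _ hm' h1 l hl
    show g * l * g⁻¹ * m = m * (g * l * g⁻¹)
    calc g * l * g⁻¹ * m = g * (l * (g⁻¹ * m * g)) * g⁻¹ := by group
      _ = g * ((g⁻¹ * m * g) * l) * g⁻¹ := by rw [h2]
      _ = m * (g * l * g⁻¹) := by group
  have htu : t * u = u * t := (mem_centralizer_iff.1 htL u huL).symm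
  have hs2 : (t * u) * (t * u) = 1 := by
    rw [show t * u * (t * u) = t * (u * t) * u by group, ← htu, show t * (t * u) * u = (t * t) * (u * u) by group, ht2, hu,
      one_mul]
  have key := key_comm (X := G ⧸ N) (M := M.map π) (t := π t) (u := π u) (L := L.map π) (L₁ := L₁.map π)
    (hM.map π (QuotientGroup.mk'_surjective N))
    (by
      rintro _ ⟨a, ha, rfl⟩ _ ⟨b, hb, rfl⟩
      have h1 : ⁅a, b⁆ ∈ N := hab (commutator_mem_commutator ha hb)
      rw [← hker, map_commutatorElement, commutatorElement_eq_one_iff_mul_comm] at h1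
      exact h1)
    (by
      rintro _ ⟨a, ha, rfl⟩ h1
      have h2 : π a ^ Nat.card M = 1 := by
        rw [← map_pow]
        have := pow_card_eq_one' (x := (⟨a, ha⟩ : M))
        have h3 : a ^ Nat.card M = 1 := congrArg Subtype.val this
        rw [h3, map_one]
      obtain ⟨k, hk⟩ := hodd
      rw [hk, pow_succ, pow_mul, pow_two, h1, one_pow, one_mul] at h2
      exact h2)
    (by rw [← map_mul, ht2, map_one]) (by rw [← map_mul, hu, map_one])
    (by
      rintro _ ⟨l, hl, rfl⟩
      rw [← map_mul, ← map_mul, (mem_centralizer_iff.1 htL l hl)])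
    ⟨u, huL, rfl⟩
    (by
      rintro _ ⟨_, ⟨l, hl, rfl⟩, rfl⟩
      rw [← map_mul, ← map_mul, ← map_mul]
      congr 1
      show t * u * (g * l * g⁻¹) = g * l * g⁻¹ * (t * u)
      rw [← hg]
      have h1 := mem_centralizer_iff.1 htL l hl
      calc g * t * g⁻¹ * (g * l * g⁻¹) = g * (t * l) * g⁻¹ := by group
        _ = g * (l * t) * g⁻¹ := by rw [h1]
        _ = g * l * g⁻¹ * (g * t * g⁻¹) := by group)
    (fixt t L ht2 f1)
    (fun m hm hsm => by
      rw [← map_mul] at hsm
      exact fixt (t * u) L₁ hs2 f2 m hm hsm)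
  -- the kernel
  set K := centralizer ((M.map π : Subgroup (G ⧸ N)) : Set (G ⧸ N)) with hK
  have hKn : (K.comap π).Normal := by
    have : (M.map π).Normal := hM.map π (QuotientGroup.mk'_surjective N)
    have : K.Normal := inferInstance
    exact this.comap π
  have hKmem : ∀ x : G, x ∈ K.comap π ↔ ∀ m ∈ M, ⁅x, m⁆ ∈ N := by
    intro x
    rw [mem_comap, hK, mem_centralizer_iff]
    constructor
    · intro hx m hm
      rw [← hker, map_commutatorElement, commutatorElement_eq_one_iff_mul_comm]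
      exact (hx _ ⟨m, hm, rfl⟩).symm
    · rintro hx _ ⟨m, hm, rfl⟩
      have h1 := hx m hm
      rw [← hker, map_commutatorElement, commutatorElement_eq_one_iff_mul_comm] at h1
      exact h1.symm
  -- `v = g⁻¹ u g`
  set v := g⁻¹ * u * g with hv
  have hvt : v * t = t * v := by
    have e : t = g⁻¹ * (t * u) * g := by rw [← hg]; group
    calc v * t = (g⁻¹ * u * g) * (g⁻¹ * (t * u) * g) := by rw [← e]
      _ = g⁻¹ * (u * t * u) * g := by group
      _ = g⁻¹ * (t * u * u) * g := by rw [htu]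
      _ = (g⁻¹ * (t * u) * g) * (g⁻¹ * u * g) := by group
      _ = t * v := by rw [← e]
  have hvN : v ∈ normalizer (L : Set G) := h.cent_le ht htL (mem_centralizer_singleton_iff.2 hvt)
  have hcomm : ∀ l ∈ L, ⁅l, v⁆ ∈ K.comap π := by
    intro l hl
    have h1 : ∀ m ∈ M, (π (g * l * g⁻¹) * π u) * π m * (π (g * l * g⁻¹) * π u)⁻¹ =
        (π u * π (g * l * g⁻¹)) * π m * (π u * π (g * l * g⁻¹))⁻¹ := fun m hm =>
      key _ ⟨g * l * g⁻¹, ⟨l, hl, rfl⟩, rfl⟩ _ ⟨m, hm, rfl⟩
    -- `(u l₁)⁻¹ (l₁ u)` is in the kernel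
    have h2 : (u * (g * l * g⁻¹))⁻¹ * ((g * l * g⁻¹) * u) ∈ K.comap π := by
      rw [mem_comap, hK, mem_centralizer_iff]
      rintro _ ⟨m, hm, rfl⟩
      have h3 := h1 m hm
      rw [map_mul, map_inv, map_mul, map_mul]
      set a := π (g * l * g⁻¹)
      set b := π u
      set w := π m
      calc w * ((b * a)⁻¹ * (a * b)) = (b * a)⁻¹ * ((b * a) * w * (b * a)⁻¹) * (a * b) := by group
        _ = (b * a)⁻¹ * ((a * b) * w * (a * b)⁻¹) * (a * b) := by rw [h3]
        _ = (b * a)⁻¹ * (a * b) * w := by group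
    -- conjugate
    have h3 := hKn.conj_mem _ h2 ((g⁻¹ * u * g) * l)
    have h4 := hKn.conj_mem _ h2 g⁻¹
    have e : g⁻¹ * ((u * (g * l * g⁻¹))⁻¹ * ((g * l * g⁻¹) * u)) * g⁻¹⁻¹ = (v * l)⁻¹ * (l * v) := by
      rw [hv]; group
    rw [e] at h4
    have h5 := hKn.conj_mem _ h4 (v * l)
    have e2 : v * l * ((v * l)⁻¹ * (l * v)) * (v * l)⁻¹ = ⁅l, v⁆ := by
      rw [commutatorElement_def]; group
    rwa [e2] at h5
  -- conclusion
  have hLK : L ≤ K.comap π := by
    have h3 : ((K.comap π).subgroupOf L).Normal := inferInstance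
    rcases quasisimple_normal h.std.1 _ h3 with h4 | h4
    · exact subgroupOf_eq_top.1 h4
    · exfalso
      -- `v` centralizes `L`
      have h5 : zpowers v ≤ normalizer (L : Set G) := by rw [zpowers_le]; exact hvN
      have h6 : ⁅L, zpowers v⁆ ≤ K.comap π := by
        have h7 : zpowers (QuotientGroup.mk' (K.comap π) v) ≤
            centralizer ((L.map (QuotientGroup.mk' (K.comap π)) : Subgroup (G ⧸ K.comap π)) : Set (G ⧸ K.comap π)) := by
          rw [zpowers_le, mem_centralizer_iff]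
          rintro _ ⟨l, hl, rfl⟩
          have h8 := hcomm l hl
          rw [← QuotientGroup.ker_mk' (K.comap π), MonoidHom.mem_ker, map_commutatorElement,
            commutatorElement_eq_one_iff_mul_comm] at h8
          exact h8
        rw [commutator_le]
        intro l hl w hw
        obtain ⟨k, rfl⟩ := mem_zpowers_iff.1 hw
        rw [← QuotientGroup.ker_mk' (K.comap π), MonoidHom.mem_ker, map_commutatorElement,
          commutatorElement_eq_one_iff_mul_comm, map_zpow]
        exact mem_centralizer_iff.1 (h7 (zpow_mem (mem_zpowers _) k)) _ ⟨l, hl, rfl⟩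
      have h8 : ⁅zpowers v, L⁆ ≤ K.comap π ⊓ L := by
        refine le_inf ?_ ?_
        · rw [commutator_comm]; exact h6
        · exact le_normalizer_iff_commutator_le_right.mp h5
      have h9 : K.comap π ⊓ L ≤ centralizer (L : Set G) := by
        intro x hx
        rw [mem_centralizer_iff]
        intro y hy
        have hxc : (⟨x, hx.2⟩ : L) ∈ center L := h4 (mem_subgroupOf.mpr hx.1)
        exact congrArg Subtype.val (mem_center_iff.mp hxc ⟨y, hy⟩)
      have h10 : ⁅zpowers v, L⁆ = ⊥ := by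
        refine commutator_eq_bot_of_commutator_commutator_eq_bot h.std.1.1 ?_
        rw [commutator_eq_bot_iff_le_centralizer]
        exact h8.trans h9
      rw [commutator_eq_bot_iff_le_centralizer, zpowers_le] at h10
      have hv2 : v * v = 1 := by
        rw [hv, show g⁻¹ * u * g * (g⁻¹ * u * g) = g⁻¹ * (u * u) * g by group, hu]; group
      have ht1 : t ≠ 1 := by rintro rfl; rw [orderOf_one] at ht; exact absurd ht (by norm_num)
      have hv1 : v ≠ 1 := by
        intro hv1
        apply hu1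
        have : u = g * v * g⁻¹ := by rw [hv]; group
        rw [this, hv1]; group
      have := h.eq_of_comm h10 htL hv1 ht1 hv2 ht2 hvt
      -- `u = t u`
      have h11 : u = t * u := by
        have h12 : u = g * v * g⁻¹ := by rw [hv]; group
        calc u = g * v * g⁻¹ := h12
          _ = g * t * g⁻¹ := by rw [this]
          _ = t * u := hg
      exact ht1 (mul_eq_right.1 h11.symm)
  rw [commutator_le]
  intro l hl m hm
  exact (hKmem l).1 (hLK hl) m hm

/-- The descent: `[L, O] ≤ M` for all normal subgroups `M` in the derived series of `O`. -/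
theorem le_centralizer_exact (h : Hyp L) {t g u : G} (ht : orderOf t = 2) (htL : t ∈ centralizer (L : Set G)) (huL : u ∈ L)
    (hu : u * u = 1) (hu1 : u ≠ 1) (hg : g * t * g⁻¹ = t * u) {O : Subgroup G} (hO : O.Normal) (hodd : Odd (Nat.card O)) :
    ⁅L, O⁆ = ⊥ := by
  -- strong induction on the order of `M`
  have key : ∀ (n : ℕ) (M : Subgroup G), Nat.card M = n → M.Normal → M ≤ O → ⁅O, L⁆ ≤ M → ⁅O, L⁆ = ⊥ := by
    intro n
    induction n using Nat.strong_induction_on with
    | _ n ih =>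
      intro M hMn hM hMO hle
      by_cases hMb : M = ⊥
      · rw [hMb] at hle; exact le_bot_iff.1 hle
      have hMo : Odd (Nat.card M) := by
        obtain ⟨k, hk⟩ := card_dvd_of_le hMO
        rw [hk] at hodd
        exact (Nat.odd_mul.1 hodd).1
      have hsol : Group.IsSolvable M := solvable_of_odd hMo
      have hNM : ⁅M, M⁆ < M := by
        refine lt_of_le_of_ne (commutator_le_self M) ?_
        intro heq
        have : Nontrivial M := (nontrivial_iff_ne_bot _).2 hMb
        have hp : Group.IsPerfect M := ⟨by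
          have h1 : (_root_.commutator M).map M.subtype = (⊤ : Subgroup M).map M.subtype := by
            rw [_root_.commutator_def, map_commutator, ← MonoidHom.range_eq_map, range_subtype]; exact heq
          exact (map_injective M.subtype_injective) h1⟩
        exact Group.IsPerfect.not_isSolvable M hsol
      have hN : (⁅M, M⁆ : Subgroup G).Normal := inferInstance
      have h1 : ⁅L, M⁆ ≤ ⁅M, M⁆ := h.le_step ht htL huL hu hu1 hg hM hN hNM.le le_rfl hMo
      have h2 : ⁅O, L⁆ ≤ ⁅M, M⁆ := by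
        -- modulo `⁅M, M⁆`
        set π := QuotientGroup.mk' (⁅M, M⁆ : Subgroup G) with hπ
        have h3 : ⁅⁅O.map π, L.map π⁆, L.map π⁆ = ⊥ := by
          rw [← map_commutator, ← map_commutator, Subgroup.map_eq_bot_iff, hπ, QuotientGroup.ker_mk']
          refine (commutator_mono hle le_rfl).trans ?_
          rw [commutator_comm]
          exact h1
        have hp : Group.IsPerfect (L.map π) := by
          have := h.std.1.1
          exact Group.IsPerfect.ofSurjective (f := π.subgroupMap L) (MonoidHom.subgroupMap_surjective _ _)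
        have h4 := commutator_eq_bot_of_commutator_commutator_eq_bot hp h3
        rwa [← map_commutator, Subgroup.map_eq_bot_iff, hπ, QuotientGroup.ker_mk'] at h4
      exact ih _ (by
        rw [← hMn]
        have h3 := Subgroup.card_le_of_le hNM.le
        refine lt_of_le_of_ne h3 fun h4 => hNM.ne ?_
        exact Subgroup.eq_of_le_of_card_ge hNM.le h4.ge) _ rfl hN (hNM.le.trans hMO) h2
  rw [commutator_comm]
  exact key _ O rfl hO le_rfl (commutator_le_left O L)

/-- **`L` centralizes the odd normal subgroup `O`**, from a conjugate `t ^ g ≡ t z` with `z ∈ L` modulo `O`. -/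
theorem le_centralizer (h : Hyp L) {O : Subgroup G} [hO : O.Normal] (hodd : Odd (Nat.card O)) {t : G} (ht : orderOf t = 2)
    (htL : t ∈ centralizer (L : Set G)) {g z : G ⧸ O} (hz : z ∈ L.map (QuotientGroup.mk' O)) (hz1 : z ≠ 1)
    (hg : g * QuotientGroup.mk' O t * g⁻¹ = QuotientGroup.mk' O t * z) : L ≤ centralizer (O : Set G) := by
  have ht2 := sq_eq_one ht
  obtain ⟨a, ha, rfl⟩ := hz
  obtain ⟨g, rfl⟩ := QuotientGroup.mk'_surjective O g
  set π := QuotientGroup.mk' O with hπ
  have hker : ∀ x : G, π x = 1 ↔ x ∈ O := fun x => by rw [← MonoidHom.mem_ker, hπ, QuotientGroup.ker_mk']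
  have hta : t * a = a * t := (mem_centralizer_iff.1 htL a ha).symm
  have haa : a * a ∈ O := by
    rw [← hker]
    have h1 : π (t * a) * π (t * a) = 1 := by
      rw [map_mul, ← hg]
      calc π g * π t * (π g)⁻¹ * (π g * π t * (π g)⁻¹) = π g * π (t * t) * (π g)⁻¹ := by rw [map_mul]; group
        _ = 1 := by rw [ht2, map_one]; group
    rw [← map_mul, show t * a * (t * a) = t * (a * t) * a by group, ← hta, show t * (t * a) * a = (t * t) * (a * a) by group,
      ht2, one_mul] at h1
    exact h1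
  obtain ⟨u, huL, hu2, hau⟩ := exists_involution_lift hodd ha haa
  have hπu : π u = π a := by
    have h1 : π (a⁻¹ * u) = 1 := (hker _).2 hau
    rw [map_mul, map_inv, inv_mul_eq_one] at h1
    exact h1.symm
  have hu1 : u ≠ 1 := by
    rintro rfl
    rw [map_one] at hπu
    exact hz1 hπu.symm
  have htu : t * u = u * t := (mem_centralizer_iff.1 htL u huL).symm
  have htu2 : (t * u) * (t * u) = 1 := by
    rw [show t * u * (t * u) = t * (u * t) * u by group, ← htu, show t * (t * u) * u = (t * t) * (u * u) by group, ht2, hu2,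
      one_mul]
  have h1 : (g * t * g⁻¹) * (t * u) ∈ O := by
    rw [← hker, map_mul, map_mul, map_mul, map_inv, hg, map_mul, ← hπu, ← map_mul, ← map_mul, htu2, map_one]
  obtain ⟨s, hs, hst⟩ := exists_conj_of_congr hodd (x := g * t * g⁻¹) (y := t * u)
    (by rw [show g * t * g⁻¹ * (g * t * g⁻¹) = g * (t * t) * g⁻¹ by group, ht2]; group) htu2 h1
  have h2 : (s * g) * t * (s * g)⁻¹ = t * u := by
    rw [← hst]; group
  have h3 := h.le_centralizer_exact ht htL huL hu2 hu1 h2 hO hodd
  rwa [commutator_eq_bot_iff_le_centralizer] at h3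

end Hyp

end Cfsg.Agent.H293.StdOdd
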