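import Cfsg.Agent.H293.StdOddB
import Cfsg.Prelude.Def_CaseTheorems
import Cfsg.Agent.StdSz.Reduce

/-!
# Standard subgroups whose centralizer has cyclic Sylow 2-subgroups: the normal closure

* `normalClosure_isPerfect`, `exists_ext` : `⟨L^G⟩` is a perfect central extension of `E(G / O(G))` with a kernel of odd order, as
  soon as `L` centralizes `O(G)`;
* `prod_mover`, `prod_closure` : the wreathed case;
* `NoOddExt` : no proper perfect central extensions with odd kernel.
-/

set_option autoImplicit false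
set_option linter.unusedSectionVars false

namespace Cfsg.Agent.H293.StdOdd

open Cfsg Subgroup Cfsg.Agent.SignalizersComponents Cfsg.Agent.SignalizersComponents.Components
open Cfsg.Agent.SignalizersComponents.StandardTools Cfsg.Agent.StdG24.StdQuot
open scoped commutatorElement

universe u v

/-! ### Perfect central extensions -/

/-- `Q` has no proper perfect central extension with a kernel of odd order. -/
def NoOddExt (Q : Type v) [Group Q] : Prop :=
  ∀ (K : Type u) [Group K] [Finite K], _root_.commutator K = ⊤ → ∀ f : K →* Q, Function.Surjective f → f.ker ≤ center K →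
    Odd (Nat.card f.ker) → Function.Injective f

theorem NoOddExt.congr {Q Q' : Type*} [Group Q] [Group Q'] (h : NoOddExt.{u} Q) (e : Q' ≃* Q) : NoOddExt.{u} Q' := by
  intro K _ _ hK f hf hc ho
  have hk : (e.toMonoidHom.comp f).ker = f.ker := by
    ext x
    rw [MonoidHom.mem_ker, MonoidHom.mem_ker]
    constructor
    · intro h1
      exact e.injective (by rw [map_one]; exact h1)
    · intro h1
      show e (f x) = 1
      rw [h1, map_one]
  have h1 := h K hK (e.toMonoidHom.comp f) (e.surjective.comp hf) (by rw [hk]; exact hc) (by rw [hk]; exact ho)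
  intro a b hab
  apply h1
  show e (f a) = e (f b)
  rw [hab]

/-- The commutator subgroup of a subgroup mapping onto a perfect subgroup. -/
theorem perfect_lift {K Q : Type*} [Group K] [Group Q] {f : K →* Q} (hc : f.ker ≤ center K) {P : Subgroup K}
    (hP : ⁅P.map f, P.map f⁆ = P.map f) : ⁅⁅P, P⁆, ⁅P, P⁆⁆ = ⁅P, P⁆ ∧ (⁅P, P⁆ : Subgroup K).map f = P.map f := by
  have h1 : (⁅P, P⁆ : Subgroup K).map f = P.map f := by rw [map_commutator, hP]
  refine ⟨le_antisymm (commutator_le_self _) ?_, h1⟩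
  have hPle : ∀ x ∈ P, ∃ d ∈ ⁅P, P⁆, ∃ z ∈ center K, x = d * z := by
    intro x hx
    have h2 : f x ∈ (⁅P, P⁆ : Subgroup K).map f := by rw [h1]; exact ⟨x, hx, rfl⟩
    obtain ⟨d, hd, hdx⟩ := h2
    refine ⟨d, hd, d⁻¹ * x, hc ?_, by group⟩
    rw [MonoidHom.mem_ker, map_mul, map_inv, hdx, inv_mul_cancel]
  rw [commutator_le]
  intro x hx y hy
  obtain ⟨d, hd, z, hz, rfl⟩ := hPle x hx
  obtain ⟨d', hd', z', hz', rfl⟩ := hPle y hy
  have h3 : ⁅d * z, d' * z'⁆ = ⁅d, d'⁆ := by
    have e1 := mem_center_iff.1 hz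
    have e2 := mem_center_iff.1 hz'
    rw [commutatorElement_def, commutatorElement_def]
    calc d * z * (d' * z') * (d * z)⁻¹ * (d' * z')⁻¹ = d * (z * (d' * z')) * (z⁻¹ * d⁻¹) * (z'⁻¹ * d'⁻¹) := by group
      _ = d * ((d' * z') * z) * (z⁻¹ * d⁻¹) * (z'⁻¹ * d'⁻¹) := by rw [e1]
      _ = d * d' * (z' * d⁻¹) * (z'⁻¹ * d'⁻¹) := by group
      _ = d * d' * (d⁻¹ * z') * (z'⁻¹ * d'⁻¹) := by rw [e2]
      _ = d * d' * d⁻¹ * d'⁻¹ := by group
  rw [h3]
  exact commutator_mem_commutator hd hd'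

/-- Products. -/
theorem NoOddExt.prod {Q Q' : Type*} [Group Q] [Group Q'] (h : NoOddExt.{u} Q) (h' : NoOddExt.{u} Q')
    (hQ : _root_.commutator Q = ⊤) (hQ' : _root_.commutator Q' = ⊤) : NoOddExt.{u} (Q × Q') := by
  intro K _ _ hK f hf hc ho
  -- the two factors
  set R₁ : Subgroup (Q × Q') := (⊤ : Subgroup Q).prod (⊥ : Subgroup Q') with hR₁
  set R₂ : Subgroup (Q × Q') := (⊥ : Subgroup Q).prod (⊤ : Subgroup Q') with hR₂
  have c1 : ⁅R₁, R₁⁆ = R₁ := by
    apply le_antisymm (commutator_le_self _)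
    have h1 : R₁ = (⊤ : Subgroup Q).map (MonoidHom.inl Q Q') := by
      ext ⟨a, b⟩
      simp [hR₁, mem_prod, eq_comm]
    rw [h1, ← map_commutator]
    exact map_mono (by rw [← _root_.commutator_def, hQ])
  have c2 : ⁅R₂, R₂⁆ = R₂ := by
    apply le_antisymm (commutator_le_self _)
    have h1 : R₂ = (⊤ : Subgroup Q').map (MonoidHom.inr Q Q') := by
      ext ⟨a, b⟩
      simp [hR₂, mem_prod, eq_comm]
    rw [h1, ← map_commutator]
    exact map_mono (by rw [← _root_.commutator_def, hQ'])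
  set P₁ := R₁.comap f with hP₁
  set P₂ := R₂.comap f with hP₂
  have m1 : P₁.map f = R₁ := map_comap_eq_self_of_surjective hf _
  have m2 : P₂.map f = R₂ := map_comap_eq_self_of_surjective hf _
  obtain ⟨p1, q1⟩ := perfect_lift (f := f) hc (P := P₁) (by rw [m1, c1])
  obtain ⟨p2, q2⟩ := perfect_lift (f := f) hc (P := P₂) (by rw [m2, c2])
  set D₁ := ⁅P₁, P₁⁆ with hD₁
  set D₂ := ⁅P₂, P₂⁆ with hD₂
  rw [m1] at q1
  rw [m2] at q2
  have perf : ∀ {D : Subgroup K}, ⁅D, D⁆ = D → _root_.commutator D = ⊤ := by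
    intro D hD
    apply map_injective D.subtype_injective
    rw [_root_.commutator_def, map_commutator, ← MonoidHom.range_eq_map, range_subtype]
    exact hD
  -- the kernels are trivial
  have inj1 : ∀ x ∈ D₁, f x = 1 → x = 1 := by
    intro x hx hfx
    have h1 := h D₁ (perf p1) (((MonoidHom.fst Q Q').comp f).comp D₁.subtype) (by
      intro a
      have h2 : (a, (1 : Q')) ∈ (D₁.map f) := by rw [q1, hR₁, mem_prod]; exact ⟨mem_top _, mem_bot.2 rfl⟩
      obtain ⟨y, hy, hya⟩ := h2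
      exact ⟨⟨y, hy⟩, congrArg Prod.fst hya⟩) ?_ ?_
    · have : (⟨x, hx⟩ : D₁) = 1 := h1 (by
        show (f x).1 = (f 1).1
        rw [hfx, map_one])
      exact congrArg Subtype.val this
    all_goals
      have hke : ∀ y : D₁, y ∈ (((MonoidHom.fst Q Q').comp f).comp D₁.subtype).ker → (y : K) ∈ f.ker := by
        intro y hy
        rw [MonoidHom.mem_ker] at hy ⊢
        have h2 : f (y : K) ∈ R₁ := by rw [← q1]; exact ⟨y, y.2, rfl⟩
        rw [hR₁, mem_prod, mem_bot] at h2
        exact Prod.ext hy h2.2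
    · intro y hy
      rw [mem_center_iff]
      intro z
      exact Subtype.ext (mem_center_iff.1 (hc (hke y hy)) z)
    · have h2 : Nat.card (((MonoidHom.fst Q Q').comp f).comp D₁.subtype).ker ∣ Nat.card f.ker := by
        refine Subgroup.card_dvd_of_injective (((D₁.subtype).comp (Subgroup.subtype _)).codRestrict f.ker fun y => hke y y.2) ?_
        intro a b hab
        exact Subtype.ext (Subtype.ext (congrArg (fun z : f.ker => (z : K)) hab))
      obtain ⟨k, hk⟩ := h2
      rw [hk] at ho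
      exact (Nat.odd_mul.1 ho).1
  have inj2 : ∀ x ∈ D₂, f x = 1 → x = 1 := by
    intro x hx hfx
    have h1 := h' D₂ (perf p2) (((MonoidHom.snd Q Q').comp f).comp D₂.subtype) (by
      intro a
      have h2 : ((1 : Q), a) ∈ (D₂.map f) := by rw [q2, hR₂, mem_prod]; exact ⟨mem_bot.2 rfl, mem_top _⟩
      obtain ⟨y, hy, hya⟩ := h2
      exact ⟨⟨y, hy⟩, congrArg Prod.snd hya⟩) ?_ ?_
    · have : (⟨x, hx⟩ : D₂) = 1 := h1 (by
        show (f x).2 = (f 1).2
        rw [hfx, map_one])
      exact congrArg Subtype.val this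
    all_goals
      have hke : ∀ y : D₂, y ∈ (((MonoidHom.snd Q Q').comp f).comp D₂.subtype).ker → (y : K) ∈ f.ker := by
        intro y hy
        rw [MonoidHom.mem_ker] at hy ⊢
        have h2 : f (y : K) ∈ R₂ := by rw [← q2]; exact ⟨y, y.2, rfl⟩
        rw [hR₂, mem_prod, mem_bot] at h2
        exact Prod.ext h2.1 hy
    · intro y hy
      rw [mem_center_iff]
      intro z
      exact Subtype.ext (mem_center_iff.1 (hc (hke y hy)) z)
    · have h2 : Nat.card (((MonoidHom.snd Q Q').comp f).comp D₂.subtype).ker ∣ Nat.card f.ker := by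
        refine Subgroup.card_dvd_of_injective (((D₂.subtype).comp (Subgroup.subtype _)).codRestrict f.ker fun y => hke y y.2) ?_
        intro a b hab
        exact Subtype.ext (Subtype.ext (congrArg (fun z : f.ker => (z : K)) hab))
      obtain ⟨k, hk⟩ := h2
      rw [hk] at ho
      exact (Nat.odd_mul.1 ho).1
  -- they commute
  have hcomm : ⁅D₁, D₂⁆ = ⊥ := by
    refine commutator_eq_bot_of_commutator_commutator_eq_bot ⟨perf p2⟩ ?_
    rw [commutator_eq_bot_iff_le_centralizer]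
    have h1 : ⁅D₁, D₂⁆ ≤ f.ker := by
      rw [commutator_le]
      intro x hx y hy
      rw [MonoidHom.mem_ker, map_commutatorElement, commutatorElement_eq_one_iff_mul_comm]
      have h2 : f x ∈ R₁ := by rw [← q1]; exact ⟨x, hx, rfl⟩
      have h3 : f y ∈ R₂ := by rw [← q2]; exact ⟨y, hy, rfl⟩
      rw [hR₁, mem_prod, mem_bot] at h2
      rw [hR₂, mem_prod, mem_bot] at h3
      ext
      · simp [h3.1]
      · simp [h2.2]
    intro x hx
    rw [mem_centralizer_iff]
    intro y _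
    exact mem_center_iff.1 (hc (h1 hx)) y
  rw [commutator_eq_bot_iff_le_centralizer] at hcomm
  -- `D₁ D₂`
  let D : Subgroup K :=
    { carrier := {x | ∃ a ∈ D₁, ∃ b ∈ D₂, x = a * b}
      one_mem' := ⟨1, one_mem _, 1, one_mem _, by group⟩
      mul_mem' := by
        rintro _ _ ⟨a, ha, b, hb, rfl⟩ ⟨a', ha', b', hb', rfl⟩
        refine ⟨a * a', mul_mem ha ha', b * b', mul_mem hb hb', ?_⟩
        have e := mem_centralizer_iff.1 (hcomm ha') b hb
        calc a * b * (a' * b') = a * (b * a') * b' := by group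
          _ = a * (a' * b) * b' := by rw [e]
          _ = a * a' * (b * b') := by group
      inv_mem' := by
        rintro _ ⟨a, ha, b, hb, rfl⟩
        refine ⟨a⁻¹, inv_mem ha, b⁻¹, inv_mem hb, ?_⟩
        rw [mul_inv_rev]
        exact mem_centralizer_iff.1 (hcomm (inv_mem ha)) b⁻¹ (inv_mem hb) }
  have hDtop : D = ⊤ := by
    have hdec : ∀ x : K, ∃ d ∈ D, ∃ z ∈ center K, x = d * z := by
      intro x
      have h1 : ((f x).1, (1 : Q')) ∈ (D₁.map f) := by rw [q1, hR₁, mem_prod]; exact ⟨mem_top _, mem_bot.2 rfl⟩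
      have h2 : ((1 : Q), (f x).2) ∈ (D₂.map f) := by rw [q2, hR₂, mem_prod]; exact ⟨mem_bot.2 rfl, mem_top _⟩
      obtain ⟨a, ha, hfa⟩ := h1
      obtain ⟨b, hb, hfb⟩ := h2
      refine ⟨a * b, ⟨a, ha, b, hb, rfl⟩, (a * b)⁻¹ * x, hc ?_, by group⟩
      rw [MonoidHom.mem_ker, map_mul, map_inv, map_mul, hfa, hfb, inv_mul_eq_one]
      ext <;> simp
    rw [eq_top_iff, ← hK, _root_.commutator_def, commutator_le]
    intro x _ y _
    obtain ⟨d, hd, z, hz, rfl⟩ := hdec x
    obtain ⟨d', hd', z', hz', rfl⟩ := hdec y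
    have h3 : ⁅d * z, d' * z'⁆ = ⁅d, d'⁆ := by
      have e1 := mem_center_iff.1 hz
      have e2 := mem_center_iff.1 hz'
      rw [commutatorElement_def, commutatorElement_def]
      calc d * z * (d' * z') * (d * z)⁻¹ * (d' * z')⁻¹ = d * (z * (d' * z')) * (z⁻¹ * d⁻¹) * (z'⁻¹ * d'⁻¹) := by group
        _ = d * ((d' * z') * z) * (z⁻¹ * d⁻¹) * (z'⁻¹ * d'⁻¹) := by rw [e1]
        _ = d * d' * (z' * d⁻¹) * (z'⁻¹ * d'⁻¹) := by group
        _ = d * d' * (d⁻¹ * z') * (z'⁻¹ * d'⁻¹) := by rw [e2]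
        _ = d * d' * d⁻¹ * d'⁻¹ := by group
    rw [h3, commutatorElement_def]
    exact mul_mem (mul_mem (mul_mem hd hd') (inv_mem hd)) (inv_mem hd')
  rw [injective_iff_map_eq_one]
  intro x hx
  have hxD : x ∈ D := by rw [hDtop]; exact mem_top x
  obtain ⟨a, ha, b, hb, rfl⟩ := hxD
  have h1 : f a ∈ R₁ := by rw [← q1]; exact ⟨a, ha, rfl⟩
  have h2 : f b ∈ R₂ := by rw [← q2]; exact ⟨b, hb, rfl⟩
  rw [hR₁, mem_prod, mem_bot] at h1
  rw [hR₂, mem_prod, mem_bot] at h2
  rw [map_mul] at hx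
  have e1 : (f a).1 = 1 := by
    have := congrArg Prod.fst hx
    rw [Prod.fst_mul, h2.1, mul_one] at this
    exact this
  have e2 : (f b).2 = 1 := by
    have := congrArg Prod.snd hx
    rw [Prod.snd_mul, h1.2, one_mul] at this
    exact this
  rw [inj1 a ha (Prod.ext e1 h1.2), inj2 b hb (Prod.ext h2.1 e2), one_mul]

/-! ### The wreathed case -/

section Wreath

variable {G : Type u} [Group G] [Finite G] {A X : Subgroup G} {t : G}

/-- Case (ii) of the trichotomy. -/
structure Wr (A X : Subgroup G) (t : G) : Prop where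
  simple : IsSimpleGroup ↥X
  nc : ¬ IsMulCommutative ↥X
  iso : Nonempty (↥X ≃* ↥A)
  comm : ∀ a ∈ X, ∀ b ∈ X.map (MulAut.conj t).toMonoidHom, a * b = b * a
  inf : X ⊓ X.map (MulAut.conj t).toMonoidHom = ⊥
  sup : X ⊔ X.map (MulAut.conj t).toMonoidHom = layer G
  le : A ≤ layer G
  tt : t * t = 1
  htA : t ∈ centralizer (A : Set G)

namespace Wr

theorem dec (h : Wr A X t) {y : G} (hy : y ∈ layer G) : ∃ a ∈ X, ∃ b ∈ X, y = a * (t * b * t⁻¹) := by
  rw [← h.sup] at hy
  have key : X ⊔ X.map (MulAut.conj t).toMonoidHom ≤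
      (X.subtype.noncommCoprod (X.map (MulAut.conj t).toMonoidHom).subtype (fun a b => h.comm a a.2 b b.2)).range := by
    rw [sup_le_iff]
    refine ⟨fun x hx => ⟨(⟨x, hx⟩, 1), ?_⟩, fun y hy => ⟨(1, ⟨y, hy⟩), ?_⟩⟩
    · show x * 1 = x
      group
    · show 1 * y = y
      group
  obtain ⟨⟨a, b⟩, hab⟩ := key hy
  obtain ⟨c, hc, hcb⟩ := b.2
  refine ⟨a, a.2, c, hc, ?_⟩
  rw [← hab]
  have e : t * c * t⁻¹ = (b : G) := hcb
  rw [e]
  rfl

/-- the diagonal -/
theorem eq_diag (h : Wr A X t) {y : G} (hy : y ∈ A) : ∃ x ∈ X, y = x * (t * x * t⁻¹) := by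
  obtain ⟨a, ha, b, hb, rfl⟩ := h.dec (h.le hy)
  have hti : t⁻¹ = t := inv_eq_of_mul_eq_one_right h.tt
  have e1 : (a * (t * b * t⁻¹)) * t = t * (a * (t * b * t⁻¹)) := mem_centralizer_iff.1 h.htA _ hy
  have e2 : a * (t * b * t⁻¹) = (t * a * t⁻¹) * b := by
    calc a * (t * b * t⁻¹) = (a * (t * b * t⁻¹)) * t * t⁻¹ := by group
      _ = t * (a * (t * b * t⁻¹)) * t⁻¹ := by rw [e1]
      _ = (t * a * t⁻¹) * ((t * t) * b * (t * t)⁻¹) := by group
      _ = (t * a * t⁻¹) * b := by rw [h.tt]; group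
  have e3 : b * (t * a * t⁻¹) = (t * a * t⁻¹) * b := h.comm b hb _ ⟨a, ha, rfl⟩
  rw [← e3] at e2
  have e4 : b⁻¹ * a = (t * a * t⁻¹) * (t * b * t⁻¹)⁻¹ := by
    calc b⁻¹ * a = b⁻¹ * (a * (t * b * t⁻¹)) * (t * b * t⁻¹)⁻¹ := by group
      _ = b⁻¹ * (b * (t * a * t⁻¹)) * (t * b * t⁻¹)⁻¹ := by rw [e2]
      _ = (t * a * t⁻¹) * (t * b * t⁻¹)⁻¹ := by group
  have e5 : b⁻¹ * a ∈ X ⊓ X.map (MulAut.conj t).toMonoidHom := by
    refine ⟨X.mul_mem (X.inv_mem hb) ha, ?_⟩
    rw [e4]
    exact Subgroup.mul_mem _ ⟨a, ha, rfl⟩ (Subgroup.inv_mem _ ⟨b, hb, rfl⟩)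
  rw [h.inf, mem_bot, inv_mul_eq_one] at e5
  exact ⟨a, ha, by rw [e5]⟩

/-- the diagonal homomorphism -/
def delta (h : Wr A X t) : ↥X →* G where
  toFun x := x * (t * x * t⁻¹)
  map_one' := by simp
  map_mul' x y := by
    have e := h.comm y y.2 (t * x * t⁻¹) ⟨x, x.2, rfl⟩
    show ((x * y : ↥X) : G) * (t * ((x * y : ↥X) : G) * t⁻¹) = x * (t * x * t⁻¹) * (y * (t * y * t⁻¹))
    rw [coe_mul]
    calc (x : G) * y * (t * (x * y) * t⁻¹) = x * (y * (t * x * t⁻¹)) * (t * y * t⁻¹) := by group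
      _ = x * ((t * x * t⁻¹) * y) * (t * y * t⁻¹) := by rw [e]
      _ = x * (t * x * t⁻¹) * (y * (t * y * t⁻¹)) := by group

theorem delta_injective (h : Wr A X t) : Function.Injective h.delta := by
  rw [injective_iff_map_eq_one]
  intro x hx
  have e1 : (x : G) * (t * x * t⁻¹) = 1 := hx
  have e2 : (x : G) ∈ X ⊓ X.map (MulAut.conj t).toMonoidHom := by
    refine ⟨x.2, ?_⟩
    rw [mul_eq_one_iff_eq_inv.1 e1]
    exact Subgroup.inv_mem _ ⟨x, x.2, rfl⟩
  rw [h.inf, mem_bot] at e2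
  exact Subtype.ext e2

theorem range_eq (h : Wr A X t) : h.delta.range = A := by
  symm
  apply Subgroup.eq_of_le_of_card_ge
  · intro y hy
    obtain ⟨x, hx, rfl⟩ := h.eq_diag hy
    exact ⟨⟨x, hx⟩, rfl⟩
  · obtain ⟨e⟩ := h.iso
    rw [← Nat.card_congr e.toEquiv, ← Nat.card_congr (MonoidHom.ofInjective h.delta_injective).toEquiv]

theorem diag_mem (h : Wr A X t) {x : G} (hx : x ∈ X) : x * (t * x * t⁻¹) ∈ A := by
  rw [← h.range_eq]
  exact ⟨⟨x, hx⟩, rfl⟩

theorem isPerfect (h : Wr A X t) : ⁅X, X⁆ = X := by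
  have hp : Group.IsPerfect X := (IntrinsicDiag.quasisimple_of_simple h.simple h.nc).1
  exact Subgroup.commutator_eq_self (H := X)

/-- **the mover** -/
theorem mover (h : Wr A X t) : ∃ g u : G, u ∈ A ∧ u ≠ 1 ∧ g * t * g⁻¹ = t * u := by
  have : Fact (Nat.Prime 2) := ⟨Nat.prime_two⟩
  have heven : Even (Nat.card X) := by
    by_contra ho
    rw [Nat.not_even_iff_odd] at ho
    exact quasisimple_not_isSolvable (IntrinsicDiag.quasisimple_of_simple h.simple h.nc) (solvable_of_odd ho)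
  obtain ⟨x, hx⟩ := exists_prime_orderOf_dvd_card' (G := X) 2 heven.two_dvd
  have hx2 : (x : G) * x = 1 := by
    have h1 : x * x = 1 := by rw [← pow_two, ← hx]; exact pow_orderOf_eq_one x
    exact congrArg Subtype.val h1
  have hx1 : x ≠ 1 := by rintro rfl; rw [orderOf_one] at hx; exact absurd hx (by norm_num)
  have hxi : (x : G)⁻¹ = x := inv_eq_of_mul_eq_one_right hx2
  refine ⟨x, x * (t * x * t⁻¹), h.diag_mem x.2, fun h1 => hx1 (h.delta_injective (by rw [map_one]; exact h1)), ?_⟩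
  have e1 := mem_centralizer_iff.1 h.htA _ (h.diag_mem x.2)
  rw [← e1, hxi]
  have hti : t⁻¹ = t := inv_eq_of_mul_eq_one_right h.tt
  calc (x : G) * t * x = x * (t * x * t⁻¹) * (t * t) * t⁻¹ := by group
    _ = x * (t * x * t⁻¹) * t := by rw [h.tt, mul_one, hti]

/-- the normal closure of the diagonal -/
theorem closure_eq (h : Wr A X t) : normalClosure (A : Set G) = layer G := by
  have hE : (layer G).Normal := layer_normal G
  apply le_antisymm
  · exact normalClosure_le_normal h.le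
  · have hX : X ≤ normalClosure (A : Set G) := by
      rw [← h.isPerfect, commutator_le]
      intro x hx y hy
      have h1 : y * (t * y * t⁻¹) ∈ normalClosure (A : Set G) := subset_normalClosure (h.diag_mem hy)
      have h2 : x * (y * (t * y * t⁻¹)) * x⁻¹ ∈ normalClosure (A : Set G) :=
        (normalClosure_normal (s := (A : Set G))).conj_mem _ h1 x
      have h3 := mul_mem h2 (inv_mem h1)
      have e1 := h.comm x⁻¹ (inv_mem hx) (t * y * t⁻¹) ⟨y, hy, rfl⟩
      have e2 : x * (y * (t * y * t⁻¹)) * x⁻¹ * (y * (t * y * t⁻¹))⁻¹ = ⁅x, y⁆ := by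
        rw [commutatorElement_def]
        calc x * (y * (t * y * t⁻¹)) * x⁻¹ * (y * (t * y * t⁻¹))⁻¹
            = x * y * ((t * y * t⁻¹) * x⁻¹) * (t * y * t⁻¹)⁻¹ * y⁻¹ := by group
          _ = x * y * (x⁻¹ * (t * y * t⁻¹)) * (t * y * t⁻¹)⁻¹ * y⁻¹ := by rw [e1]
          _ = x * y * x⁻¹ * y⁻¹ := by group
      rw [e2] at h3
      exact h3
    rw [← h.sup, sup_le_iff]
    refine ⟨hX, ?_⟩
    rintro _ ⟨x, hx, rfl⟩
    exact (normalClosure_normal (s := (A : Set G))).conj_mem _ (hX hx) t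

end Wr

end Wreath

/-! ### The trichotomy modulo the odd core -/

section Main

variable {G : Type u} [Group G] [Finite G] {L : Subgroup G}

instance oddCore_normal' (G : Type*) [Group G] : (oddCore G).Normal := Lib.Cores.pPrimeCore_normal 2

theorem odd_oddCore (G : Type*) [Group G] [Finite G] : Odd (Nat.card (oddCore G)) :=
  Nat.coprime_two_right.1 (Lib.Cores.pPrimeCore_coprime 2)

/-- **The cases.** -/
theorem main_cases (h : Hyp L) (hn : ¬ (L ⊔ oddCore G).Normal) :
    ∃ t ∈ centralizer (L : Set G), orderOf t = 2 ∧ orderOf (QuotientGroup.mk' (oddCore G) t) = 2 ∧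
      QuotientGroup.mk' (oddCore G) t ∈ centralizer ((L.map (QuotientGroup.mk' (oddCore G)) : Subgroup _) : Set _) ∧
      ((∃ X, Wr (L.map (QuotientGroup.mk' (oddCore G))) X (QuotientGroup.mk' (oddCore G) t)) ∨
        Cfsg.Agent.StdSz.Reduce.Simple (L.map (QuotientGroup.mk' (oddCore G)))) := by
  obtain ⟨t, htL, ht⟩ := h.exists_inv
  have hodd := odd_oddCore G
  have hO : oddCore (G ⧸ oddCore G) = ⊥ := Lib.Cores.pPrimeCore_quotient_pPrimeCore 2
  have hstd := h.std_map hodd
  have htC : QuotientGroup.mk' (oddCore G) t ∈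
      centralizer ((L.map (QuotientGroup.mk' (oddCore G)) : Subgroup _) : Set _) := Hyp.map_mem htL
  have ht1 : QuotientGroup.mk' (oddCore G) t ≠ 1 := Hyp.map_ne_one ht hodd
  have ht2 : QuotientGroup.mk' (oddCore G) t * QuotientGroup.mk' (oddCore G) t = 1 := by
    rw [← map_mul, Hyp.sq_eq_one ht, map_one]
  have : Fact (Nat.Prime 2) := ⟨Nat.prime_two⟩
  have ht' : orderOf (QuotientGroup.mk' (oddCore G) t) = 2 := orderOf_eq_prime (by rw [pow_two]; exact ht2) ht1
  have hnA : ¬ (L.map (QuotientGroup.mk' (oddCore G))).Normal := fun h' => hn (Hyp.normal_of_map h')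
  refine ⟨t, htL, ht, ht', htC, ?_⟩
  have h2 : Cfsg.pCore 2 (G ⧸ oddCore G) = ⊥ := by
    by_contra h
    exact hnA (StandardTrichotomy.normal_of_pCore_ne_bot hstd ht' htC h)
  have hC := StandardTrichotomy.centralizer_layer_eq_bot hO h2
  rcases Cfsg.Agent.S1347.result _ hstd hO _ ht' htC with h1 | h1 | h1
  · exact absurd h1 hnA
  · left
    obtain ⟨X, a1, a2, a3, a4, a5, a6, -⟩ := h1
    exact ⟨X, a1, a2, a3, a4, a5, a6, Cfsg.Agent.S1347.le_layer hstd hO _ ht' htC hC, ht2, htC⟩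
  · exact Or.inr ⟨hstd, hnA, hO, h2, hC, h1.1, h1.2.1, h1.2.2⟩

/-- the normal closure in the simple case -/
theorem simple_closure {A : Subgroup G} (S : Cfsg.Agent.StdSz.Reduce.Simple A) : normalClosure (A : Set G) = layer G := by
  have hE : (layer G).Normal := layer_normal G
  apply le_antisymm
  · exact normalClosure_le_normal S.le_layer
  · refine S.isSimple_normal normalClosure_normal fun hb => ?_
    apply StandardTrichotomy.ne_bot S.std
    rw [eq_bot_iff, ← hb]
    exact le_normalClosure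

/-- the normal closure of a perfect subgroup is perfect -/
theorem normalClosure_isPerfect (hL : ⁅L, L⁆ = L) : _root_.commutator ↥(normalClosure (L : Set G)) = ⊤ := by
  have h1 : ⁅normalClosure (L : Set G), normalClosure (L : Set G)⁆ = normalClosure (L : Set G) := by
    apply le_antisymm (commutator_le_self _)
    have : (⁅normalClosure (L : Set G), normalClosure (L : Set G)⁆ : Subgroup G).Normal := inferInstance
    refine normalClosure_le_normal ?_
    have h2 : L ≤ ⁅normalClosure (L : Set G), normalClosure (L : Set G)⁆ := by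
      conv_lhs => rw [← hL]
      exact commutator_mono le_normalClosure le_normalClosure
    exact h2
  apply map_injective (normalClosure (L : Set G)).subtype_injective
  rw [_root_.commutator_def, map_commutator, ← MonoidHom.range_eq_map, range_subtype]
  exact h1

/-- the image of the normal closure -/
theorem map_normalClosure' {O : Subgroup G} [O.Normal] : (normalClosure (L : Set G)).map (QuotientGroup.mk' O) =
    normalClosure ((L.map (QuotientGroup.mk' O) : Subgroup (G ⧸ O)) : Set (G ⧸ O)) := by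
  rw [Subgroup.map_normalClosure _ _ (QuotientGroup.mk'_surjective O)]
  rfl

/-- **The normal closure is a perfect central extension of the layer.** -/
theorem ext_of_mover (h : Hyp L) {t : G} (ht : orderOf t = 2) (htL : t ∈ centralizer (L : Set G))
    (hm : ∃ g z : G ⧸ oddCore G, z ∈ L.map (QuotientGroup.mk' (oddCore G)) ∧ z ≠ 1 ∧
      g * QuotientGroup.mk' (oddCore G) t * g⁻¹ = QuotientGroup.mk' (oddCore G) t * z)
    (hcl : normalClosure ((L.map (QuotientGroup.mk' (oddCore G)) : Subgroup _) : Set _) = layer (G ⧸ oddCore G)) :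
    normalClosure (L : Set G) ≤ centralizer (oddCore G : Set G) ∧
    ∃ f : ↥(normalClosure (L : Set G)) →* ↥(layer (G ⧸ oddCore G)), Function.Surjective f ∧ f.ker ≤ center _ ∧
      Odd (Nat.card f.ker) ∧ _root_.commutator ↥(normalClosure (L : Set G)) = ⊤ ∧
      ∀ x, ((f x : ↥(layer (G ⧸ oddCore G))) : G ⧸ oddCore G) = QuotientGroup.mk' (oddCore G) x := by
  obtain ⟨g, z, hz, hz1, hg⟩ := hm
  have h1 := h.le_centralizer (odd_oddCore G) ht htL hz hz1 hg
  have h2 : normalClosure (L : Set G) ≤ centralizer (oddCore G : Set G) := normalClosure_le_normal h1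
  have hmap : (normalClosure (L : Set G)).map (QuotientGroup.mk' (oddCore G)) = layer (G ⧸ oddCore G) := by
    rw [map_normalClosure', hcl]
  let f : ↥(normalClosure (L : Set G)) →* ↥(layer (G ⧸ oddCore G)) :=
    ((QuotientGroup.mk' (oddCore G)).comp (normalClosure (L : Set G)).subtype).codRestrict _ fun x => by
      rw [← hmap]; exact ⟨x, x.2, rfl⟩
  have hfk : ∀ x : ↥(normalClosure (L : Set G)), x ∈ f.ker ↔ (x : G) ∈ oddCore G := by
    intro x
    rw [MonoidHom.mem_ker, ← QuotientGroup.eq_one_iff, ← QuotientGroup.mk'_apply]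
    constructor
    · intro h3
      exact congrArg Subtype.val h3
    · intro h3
      exact Subtype.ext h3
  have hp : ⁅L, L⁆ = L := by
    have := h.std.1.1
    exact Subgroup.commutator_eq_self (H := L)
  refine ⟨h2, f, ?_, ?_, ?_, normalClosure_isPerfect hp, fun x => rfl⟩
  · rintro ⟨y, hy⟩
    rw [← hmap] at hy
    obtain ⟨x, hx, rfl⟩ := hy
    exact ⟨⟨x, hx⟩, rfl⟩
  · intro x hx
    rw [hfk] at hx
    rw [mem_center_iff]
    intro y
    exact Subtype.ext (mem_centralizer_iff.1 (h2 y.2) x hx).symm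
  · have h3 : Nat.card f.ker ∣ Nat.card (oddCore G) := by
      refine Subgroup.card_dvd_of_injective
        (((normalClosure (L : Set G)).subtype.comp (Subgroup.subtype _)).codRestrict (oddCore G) fun y => (hfk y).1 y.2) ?_
      intro a b hab
      exact Subtype.ext (Subtype.ext (congrArg (fun z : oddCore G => (z : G)) hab))
    have h4 := odd_oddCore G
    obtain ⟨k, hk⟩ := h3
    rw [hk] at h4
    exact (Nat.odd_mul.1 h4).1

/-- The isomorphism type of the normal closure. -/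
theorem equiv_of_noOddExt (h : Hyp L) {t : G} (ht : orderOf t = 2) (htL : t ∈ centralizer (L : Set G))
    (hm : ∃ g z : G ⧸ oddCore G, z ∈ L.map (QuotientGroup.mk' (oddCore G)) ∧ z ≠ 1 ∧
      g * QuotientGroup.mk' (oddCore G) t * g⁻¹ = QuotientGroup.mk' (oddCore G) t * z)
    (hcl : normalClosure ((L.map (QuotientGroup.mk' (oddCore G)) : Subgroup _) : Set _) = layer (G ⧸ oddCore G))
    (hE : NoOddExt.{u} ↥(layer (G ⧸ oddCore G))) :
    Nonempty (↥(normalClosure (L : Set G)) ≃* ↥(layer (G ⧸ oddCore G))) := by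
  obtain ⟨-, f, h1, h2, h3, h4, -⟩ := ext_of_mover h ht htL hm hcl
  exact ⟨MulEquiv.ofBijective f ⟨hE _ h4 f h1 h2 h3, h1⟩⟩

end Main

end Cfsg.Agent.H293.StdOdd
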