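import Cfsg.Agent.H293.TwTri
import Cfsg.Agent.H293.TwChamber

/-!
# Involutory automorphisms of groups with a root group datum: lower bound for the `p`-part of the fixed points

* `norm_form` : the normal form `conj k * φ`;
* `big` : `q ^ N ≤ |V|` for a `p`-subgroup `V` of the fixed subgroup, if the root system has the properties `CertJ`, `CertS`,
  `CertT`.
-/

set_option autoImplicit false
set_option linter.unusedSectionVars false

namespace Cfsg.Agent.H293.TwFix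

open CoxeterSystem Cfsg.Agent.ChevalleyStructure.CoxeterGeom Cfsg.Agent.Tits.Roots Cfsg.Agent.Tits.Core
  Cfsg.Agent.Tits.Exchange
  Cfsg.Agent.Tits.RootComb Cfsg.Agent.Nodes.Comb Cfsg.Agent.Nodes.Reps Cfsg.Agent.Nodes.BNOf
  Cfsg.Agent.Nodes.BNOf.RGD Cfsg.Agent.Nodes.Unique Cfsg.Agent.Nodes.Coroot Cfsg.Agent.KFacts.RgdSL
  Cfsg.Agent.KFacts.RgdDiag Cfsg.Agent.KFacts.RgdAut Cfsg.Agent.Nodes.OppDec Cfsg.Agent.Nodes.Bruhat

variable {I W Y : Type*} [Fintype I] [DecidableEq I] [Group W] [Group Y] {M : CoxeterMatrix I}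
  {cs : CoxeterSystem M W} {A : I → I → ℤ} {h : IsCartan M A} {p : ℕ} {T : Subgroup Y} {n : I → Y}
  {X : (I → ℤ) → Subgroup Y}

/-! ### the longest element of a commuting set -/

theorem comm_WJ {J : Set I} (hJ : ∀ i ∈ J, ∀ j ∈ J, cs.simple i * cs.simple j = cs.simple j * cs.simple i) {w : W}
    (hw : w ∈ WJ cs J) {j : I} (hj : j ∈ J) : w * cs.simple j = cs.simple j * w := by
  unfold WJ at hw
  induction hw using Subgroup.closure_induction with
  | mem y hy =>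
    obtain ⟨i, hi, rfl⟩ := hy
    exact hJ i hi j hj
  | one => rw [one_mul, mul_one]
  | mul a b _ _ ha hb => rw [mul_assoc, hb, ← mul_assoc, ha, mul_assoc]
  | inv a _ ha => exact (Commute.inv_left (show Commute a (cs.simple j) from ha)).eq

theorem rep_wJ [Finite W] {J : Set I}
    (hJ : ∀ i ∈ J, ∀ j ∈ J, cs.simple i * cs.simple j = cs.simple j * cs.simple i) {j : I} (hj : j ∈ J) :
    rep cs h (wJ cs J) (sr j) = -sr j := by
  have hL := isLongest_wJ cs J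
  have hr : IsRoot cs h (rep cs h (wJ cs J) (sr j)) := ⟨_, _, rfl⟩
  obtain ⟨z, hz⟩ : ∃ z, z = rep cs h (wJ cs J) (sr j) := ⟨_, rfl⟩
  rw [← hz] at hr ⊢
  have h1 : rep cs h (cs.simple j) z = -z := by
    rw [hz, ← rep_mul_apply, ← comm_WJ hJ hL.1 hj, rep_mul_apply, rep_simple_sr, map_neg]
  have h2 : (2 : ℤ) • z = pairing A j z • sr j := by
    rw [rep_simple_eq] at h1
    rw [two_smul]
    have : z + z = z - (-z) := by abel
    rw [this, ← h1]; abel
  have h3 : z ≤ 0 := by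
    rw [hz]
    apply nonpos_of_lt cs h
    have h4 := (hL.2 (cs.simple j) (Subgroup.subset_closure ⟨j, hj, rfl⟩)).1
    rw [cs.length_simple] at h4
    omega
  have h5 : -z = sr j := by
    refine hr.neg.eq_sr (neg_nonneg.2 h3) j fun k hk => ?_
    have h6 := congrFun h2 k
    rw [Pi.smul_apply, Pi.smul_apply, sr_ne hk, smul_zero, smul_eq_mul] at h6
    rw [Pi.neg_apply]
    omega
  rw [← h5, neg_neg]

/-! ### the normal form -/

/-- the fixed points of conjugate automorphisms -/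
theorem card_fix_conj {G : Type*} [Group G] {α β : MulAut G} {g : G}
    (he : MulAut.conj g * α * (MulAut.conj g)⁻¹ = β) :
    Nat.card ↥(fixedSubgroup α) = Nat.card ↥(fixedSubgroup β) := by
  have h1 : ∀ x, β (g * x * g⁻¹) = g * α x * g⁻¹ := by
    intro x
    rw [← he]
    simp only [MulAut.mul_apply, MulAut.conj_apply, MulAut.conj_inv_apply]
    congr 3
    group
  refine Nat.card_congr ⟨fun x => ⟨g * x * g⁻¹, ?_⟩, fun x => ⟨g⁻¹ * x * g, ?_⟩, fun x => ?_, fun x => ?_⟩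
  · show β (g * x * g⁻¹) = g * x * g⁻¹
    rw [h1, x.2]
  · have h2 := h1 (g⁻¹ * x * g)
    have h3 : g * (g⁻¹ * (x : G) * g) * g⁻¹ = x := by group
    have h4 : β (x : G) = x := x.2
    rw [h3, h4] at h2
    show α (g⁻¹ * x * g) = g⁻¹ * x * g
    generalize α (g⁻¹ * x * g) = y at h2
    rw [h2]; group
  · apply Subtype.ext
    show g⁻¹ * (g * (x : G) * g⁻¹) * g = x
    group
  · apply Subtype.ext
    show g * (g⁻¹ * (x : G) * g) * g⁻¹ = x
    group

/-- The normal form `conj k * φ` of `α`. -/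
structure NForm (R : RGD cs h p T n X) (α : MulAut Y) (J : Set I) (g k : Y) (φ : MulAut Y) (σ : Equiv.Perm I) :
    Prop where
  diag : Diag T X φ σ
  fixU : KFacts.RgdAut.Fix φ (RGD.Sup X (RGD.Pos cs h))
  fixUN : KFacts.RgdAut.Fix φ (UN cs h X)
  rp : Rp cs R.nsys (wJ cs J) k
  eq : MulAut.conj g * α * (MulAut.conj g)⁻¹ = MulAut.conj k * φ
  comm : ∀ i ∈ J, ∀ j ∈ J, cs.simple i * cs.simple j = cs.simple j * cs.simple i
  fix : ∀ i ∈ J, σ i = i

/-- **The normal form of an automorphism of order two.** -/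
theorem norm_form [Finite W] [Finite Y] [Fact p.Prime] (hp2 : Odd p) (R : RGD cs h p T n X) (hG : GG cs h T X = ⊤)
    (hcore : (RGD.B cs h T X).normalCore = ⊥) {α : MulAut Y} (hα : α * α = 1) :
    ∃ (J : Set I) (g k : Y) (φ : MulAut Y) (σ : Equiv.Perm I), NForm R α J g k φ σ := by
  obtain ⟨J, g, a, φ, σ, D, hU, hUN, ha, he, hJ, hσ⟩ := exists_chamber R hG hcore hα
  have h2 : (MulAut.conj a * φ) * (MulAut.conj a * φ) = 1 := by
    rw [← he]
    have : MulAut.conj g * α * (MulAut.conj g)⁻¹ * (MulAut.conj g * α * (MulAut.conj g)⁻¹) =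
        MulAut.conj g * (α * α) * (MulAut.conj g)⁻¹ := by group
    rw [this, hα]; group
  obtain ⟨g', k, hk, -, he'⟩ := twist_conj R hp2 hG ha D hU hUN h2
  refine ⟨J, g' * g, k, φ, σ, D, hU, hUN, hk, ?_, hJ, hσ⟩
  rw [← he', ← he, map_mul]
  group

variable {R : RGD cs h p T n X}

theorem NForm.sq {α : MulAut Y} {J : Set I} {g k : Y} {φ : MulAut Y} {σ : Equiv.Perm I} (N : NForm R α J g k φ σ)
    (hα : α * α = 1) : (MulAut.conj k * φ) * (MulAut.conj k * φ) = 1 := by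
  rw [← N.eq]
  have : MulAut.conj g * α * (MulAut.conj g)⁻¹ * (MulAut.conj g * α * (MulAut.conj g)⁻¹) =
      MulAut.conj g * (α * α) * (MulAut.conj g)⁻¹ := by group
  rw [this, hα]; group

theorem hat_of_mem {σ : Equiv.Perm I} (hσ : ∀ i j, M (σ i) (σ j) = M i j) {J : Set I} (hJ : ∀ i ∈ J, σ i = i) {w : W}
    (hw : w ∈ WJ cs J) : hat cs σ hσ w = w := by
  unfold WJ at hw
  induction hw using Subgroup.closure_induction with
  | mem y hy =>
    obtain ⟨i, hi, rfl⟩ := hy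
    rw [hat_simple, hJ i hi]
  | one => rw [map_one]
  | mul a b _ _ ha hb => rw [map_mul, ha, hb]
  | inv a _ ha => rw [map_inv, ha]

/-- `σ² = 1` -/
theorem NForm.perm_sq [Finite W] {α : MulAut Y} {J : Set I} {g k : Y} {φ : MulAut Y} {σ : Equiv.Perm I}
    (N : NForm R α J g k φ σ) (hα : α * α = 1) (i : I) : σ (σ i) = i := by
  have h2 := N.sq hα
  have hσ := N.diag.matrix R
  have hC : Cfsg.Agent.Tits.OppRes.Cox cs := inferInstance
  have hww : wJ cs J * hat cs σ hσ (wJ cs J) = 1 := by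
    rw [hat_of_mem hσ N.fix (isLongest_wJ cs J).1]
    exact hC.wJ_mul_self J
  have key : ∀ (w : W) (j : I) (x : Y), x ∈ X (rep cs h w (sr j)) →
      (MulAut.conj k * φ) x ∈ X (rep cs h (wJ cs J * hat cs σ hσ w) (sr (σ j))) := by
    intro w j x hx
    rw [rep_mul_apply]
    exact R.conj_mem N.rp ⟨_, _, rfl⟩ ((N.diag.root R hσ w j x).2 hx)
  obtain ⟨⟨x, hx⟩, hx1⟩ := Subgroup.ne_bot_iff_exists_ne_one.1 (X_ne_bot R (isRoot_sr cs h i))
  have h3 := key 1 i x (by rw [map_one, Module.End.one_apply]; exact hx)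
  have h4 := key _ _ _ h3
  have h5 : (MulAut.conj k * φ) ((MulAut.conj k * φ) x) = x := DFunLike.congr_fun h2 x
  rw [h5, map_one, mul_one, hww, map_one, Module.End.one_apply] at h4
  by_contra hcon
  have h6 := X_inf_X R (isRoot_sr cs h i) (isRoot_sr cs h (σ (σ i))) (fun h7 => hcon (by
    by_contra h8
    have h9 := congrFun h7 i
    rw [sr_self, sr_ne (fun h10 => h8 h10.symm)] at h9
    exact one_ne_zero h9))
  have h7 : x ∈ X (sr i) ⊓ X (sr (σ (σ i))) := ⟨hx, h4⟩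
  rw [h6, Subgroup.mem_bot] at h7
  exact hx1 (Subtype.ext h7)

/-! ### the bound -/

/-- property of a root for `J ∋ j` -/
def PJr (A : I → I → ℤ) (j : I) (r : I → ℤ) : Prop :=
  pairing A j r ≠ 0 ∧ ∃ k, k ≠ j ∧ A j k ≠ 0 ∧ 0 < r k

/-- `N` disjoint `A₂`-triples -/
def CertT (cs : CoxeterSystem M W) (h : IsCartan M A) (N : ℕ) : Prop :=
  ∃ L : List ((I → ℤ) × (I → ℤ)), L.length = N ∧ (∀ t ∈ L, A2 cs h t.1 t.2 ∧ 0 ≤ t.1 ∧ 0 ≤ t.2) ∧
    (L.flatMap fun t => [t.1, t.2, t.1 + t.2]).Nodup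

theorem exists_finset_pos [Finite W] {P : (I → ℤ) → Prop} : ∃ S : Finset (I → ℤ), ∀ r, r ∈ S ↔ r ∈ Pos cs h ∧ P r := by
  have h1 : {r | r ∈ Pos cs h ∧ P r}.Finite := (finite_pos (cs := cs) (h := h)).subset fun r hr => hr.1
  exact ⟨h1.toFinset, fun r => by rw [Set.Finite.mem_toFinset]; rfl⟩

/-- a positive coordinate -/
theorem pos_of_coord {r : I → ℤ} (hr : IsRoot cs h r) {k : I} (hk : 0 < r k) : r ∈ Pos cs h := by
  refine ⟨hr, ?_⟩
  rcases hr.pos_or_neg with h1 | h1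
  · exact h1
  · exact absurd (h1 k) (by simpa using hk)

/-- **The moved roots.** -/
theorem moved_bound [Finite W] [Finite Y] [hp : Fact p.Prime] (hp2 : Odd p) {α : MulAut Y} (hα : α * α = 1)
    {J : Set I} {g k : Y} {φ : MulAut Y} {σ : Equiv.Perm I} (N : NForm R α J g k φ σ)
    (hA : ∀ i j, A (σ i) (σ j) = A i j) [DecidableEq (I → ℤ)] (L : Finset (I → ℤ))
    (hL : ∀ r ∈ L, r ∈ Pos cs h ∧ rep cs h (wJ cs J) (r ∘ σ.symm) ∈ Pos cs h ∧
      rep cs h (wJ cs J) (r ∘ σ.symm) ≠ r) :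
    ∏ r ∈ L, Nat.card ↥(X r) ≤
      Nat.card ↥(Sup X (Pos cs h) ⊓ fixedSubgroup (MulAut.conj k * φ)) ^ 2 := by
  have h2 := N.sq hα
  have H := rmap_of R N.diag hA N.rp h2
  obtain ⟨ρ, hρ⟩ : ∃ ρ : (I → ℤ) → (I → ℤ), ρ = fun r => rep cs h (wJ cs J) (r ∘ σ.symm) := ⟨_, rfl⟩
  rw [← hρ] at H
  have hL' : ∀ r ∈ L, r ∈ Pos cs h ∧ ρ r ∈ Pos cs h ∧ ρ r ≠ r := fun r hr => by rw [hρ]; exact hL r hr
  obtain ⟨S, hS⟩ := exists_finset_pos (cs := cs) (h := h) (P := fun r => ρ r ∈ Pos cs h)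
  have h3 := card_fix R hp2 hp.out (β := MulAut.conj k * φ) (fun x => DFunLike.congr_fun h2 x) H S
    (fun r hr => ((hS r).1 hr).1) (fun x hx y hy z hz => by
      have hx' := (hS x).1 hx
      have hy' := (hS y).1 hy
      rw [Finset.mem_coe, hS]
      exact ⟨closed_pos x hx'.1 y hy'.1 z hz, closed_pos _ hx'.2 _ hy'.2 _ (H.btwn x y z hx'.1.1 hy'.1.1 hz)⟩)
    (fun r hr => by
      rw [hS] at hr ⊢
      exact ⟨hr.2, by rw [H.inv r hr.1.1]; exact hr.1⟩)
  have hLS : L ⊆ S := fun r hr => (hS r).2 ⟨(hL' r hr).1, (hL' r hr).2.1⟩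
  have h4 : ∏ r ∈ L, Nat.card ↥(X r) ≤
      ∏ r ∈ S, (if ρ r = r then Nat.card ↥(X r ⊓ fixedSubgroup (MulAut.conj k * φ)) ^ 2 else Nat.card ↥(X r)) := by
    calc ∏ r ∈ L, Nat.card ↥(X r) = ∏ r ∈ L, (if ρ r = r then
          Nat.card ↥(X r ⊓ fixedSubgroup (MulAut.conj k * φ)) ^ 2 else Nat.card ↥(X r)) :=
          Finset.prod_congr rfl fun r hr => by rw [if_neg (hL' r hr).2.2]
      _ ≤ _ := by
        refine Finset.prod_le_prod_of_subset_of_one_le' hLS fun r _ _ => ?_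
        split_ifs
        · exact Nat.one_le_pow _ _ Nat.card_pos
        · exact Nat.card_pos
  refine (h4.trans h3).trans (Nat.pow_le_pow_left ?_ 2)
  refine Subgroup.card_le_of_le (inf_le_inf_right _ (Sup_mono fun r hr => ((hS r).1 hr).1))

/-- `J ≠ ∅` -/
theorem bound_J [Finite W] [Finite Y] [hp : Fact p.Prime] (hp2 : Odd p) {α : MulAut Y} (hα : α * α = 1)
    {J : Set I} {g k : Y} {φ : MulAut Y} (N : NForm R α J g k φ 1) {j : I} (hj : j ∈ J)
    [DecidableEq (I → ℤ)] (L : Finset (I → ℤ)) (hL : ∀ r ∈ L, r ∈ Pos cs h ∧ PJr A j r) :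
    ∏ r ∈ L, Nat.card ↥(X r) ≤
      Nat.card ↥(Sup X (Pos cs h) ⊓ fixedSubgroup (MulAut.conj k * φ)) ^ 2 := by
  have := Fintype.ofFinite W
  refine moved_bound hp2 hα N (fun _ _ => rfl) L fun r hr => ?_
  obtain ⟨hr1, h3, l, hlj, hjl, hl⟩ := hL r hr
  have h4 : r ∘ (1 : Equiv.Perm I).symm = r := rfl
  rw [h4]
  have hlJ : l ∉ J := by
    intro hlJ
    have h5 : M j l = 2 := by
      by_contra hcon
      have := comm_ne (h := h) (cs := cs) hlj.symm hcon
      apply this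
      rw [N.comm j hj l hlJ]; group
    rcases h.rel j l hlj.symm with h6 | h6 | h6 | h6
    · exact hjl h6.2.1
    all_goals
      have := h6.1
      omega
  have hL1 := isLongest_wJ cs J
  refine ⟨hr1, pos_of_coord (hr1.1.act _) (k := l) (by rw [rep_apply_of_mem cs h hL1.1 r hlJ]; exact hl), fun he => ?_⟩
  apply h3
  have h6 := form_rep cs h (wJ cs J) r (sr j)
  rw [he, rep_wJ N.comm hj, form_neg_right] at h6
  have h7 := two_form cs h j r
  have h8 := form_pos cs h (sr_ne_zero j)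
  have h9 : form cs h r (sr j) = 0 := by linarith
  rw [h9, mul_zero] at h7
  exact (mul_eq_zero.1 h7.symm).resolve_right h8.ne'

/-- `σ ≠ 1` -/
theorem bound_S [Finite W] [Finite Y] [hp : Fact p.Prime] (hp2 : Odd p) {α : MulAut Y} (hα : α * α = 1)
    {J : Set I} {g k : Y} {φ : MulAut Y} {σ : Equiv.Perm I} (N : NForm R α J g k φ σ)
    (hA : ∀ i j, A (σ i) (σ j) = A i j) (hσ2 : ∀ i, σ (σ i) = i)
    [DecidableEq (I → ℤ)] (L : Finset (I → ℤ)) (hL : ∀ r ∈ L, r ∈ Pos cs h ∧ ∃ l, r (σ l) ≠ r l) :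
    ∏ r ∈ L, Nat.card ↥(X r) ≤
      Nat.card ↥(Sup X (Pos cs h) ⊓ fixedSubgroup (MulAut.conj k * φ)) ^ 2 := by
  refine moved_bound hp2 hα N hA L fun r hr => ?_
  obtain ⟨hr1, l, hl⟩ := hL r hr
  have hsym : ∀ i, σ.symm i = σ i := fun i => by rw [Equiv.symm_apply_eq, hσ2]
  have hσ := N.diag.matrix R
  have hlJ : l ∉ J := fun hl' => hl (by rw [N.fix l hl'])
  have hlJ' : σ l ∉ J := by
    intro hl'
    have h1 := N.fix _ hl'
    rw [hσ2] at h1
    exact hl (by rw [← h1])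
  have hL1 := isLongest_wJ cs J
  have hroot : IsRoot cs h (rep cs h (wJ cs J) (r ∘ σ.symm)) := (isRoot_comp hσ hA hr1.1).act _
  have e1 : rep cs h (wJ cs J) (r ∘ σ.symm) l = r (σ l) := by
    rw [rep_apply_of_mem cs h hL1.1 _ hlJ, Function.comp_apply, hsym]
  have e2 : rep cs h (wJ cs J) (r ∘ σ.symm) (σ l) = r l := by
    rw [rep_apply_of_mem cs h hL1.1 _ hlJ', Function.comp_apply, hsym, hσ2]
  refine ⟨hr1, ?_, fun he => hl (by rw [← e1, he])⟩
  have h3 := hr1.2 l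
  have h4 := hr1.2 (σ l)
  rw [Pi.zero_apply] at h3 h4
  rcases lt_or_eq_of_le h3 with h5 | h5
  · exact pos_of_coord hroot (k := σ l) (by rw [e2]; exact h5)
  · rcases lt_or_eq_of_le h4 with h6 | h6
    · exact pos_of_coord hroot (k := l) (by rw [e1]; exact h6)
    · exact absurd (h6.symm.trans h5) hl

/-- `J = ∅`, `σ = 1` -/
theorem bound_T [Finite W] [Finite Y] [hp : Fact p.Prime] (hp2 : Odd p) {α : MulAut Y} (hα : α * α = 1)
    {g k : Y} {φ : MulAut Y} (N : NForm R α ∅ g k φ 1) [DecidableEq (I → ℤ)]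
    (L : List ((I → ℤ) × (I → ℤ))) (hL : ∀ t ∈ L, A2 cs h t.1 t.2 ∧ 0 ≤ t.1 ∧ 0 ≤ t.2)
    (hnd : (L.flatMap fun t => [t.1, t.2, t.1 + t.2]).Nodup) :
    (L.map fun t => Nat.card ↥(X t.1)).prod ≤
      Nat.card ↥(Sup X (Pos cs h) ⊓ fixedSubgroup (MulAut.conj k * φ)) := by
  have h2 := N.sq hα
  have hββ : ∀ x, (MulAut.conj k * φ) ((MulAut.conj k * φ) x) = x := fun x => DFunLike.congr_fun h2 x
  have H := rmap_of R N.diag (fun _ _ => rfl) N.rp h2
  have hw : wJ cs (∅ : Set I) = 1 := WJ_empty (isLongest_wJ cs ∅).1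
  have hρ : (fun r : I → ℤ => rep cs h (wJ cs (∅ : Set I)) (r ∘ (1 : Equiv.Perm I).symm)) = fun r => r := by
    funext r
    rw [hw, map_one, Module.End.one_apply]
    rfl
  rw [hρ] at H
  have hX : ∀ r, IsRoot cs h r → ∀ x ∈ X r, (MulAut.conj k * φ) x ∈ X r := fun r hr x hx => (H.mem r hr x).2 hx
  obtain ⟨S, hS⟩ := exists_finset_pos (cs := cs) (h := h) (P := fun _ => True)
  have h3 := card_fix R hp2 hp.out (β := MulAut.conj k * φ) hββ H S
    (fun r hr => ((hS r).1 hr).1) (fun x hx y hy z hz => by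
      have hx' := (hS x).1 hx
      have hy' := (hS y).1 hy
      rw [Finset.mem_coe, hS]
      exact ⟨closed_pos x hx'.1 y hy'.1 z hz, trivial⟩)
    (fun r hr => hr)
  simp only [if_true] at h3
  rw [Finset.prod_pow] at h3
  have h4 : ∏ r ∈ S, Nat.card ↥(X r ⊓ fixedSubgroup (MulAut.conj k * φ)) ≤
      Nat.card ↥(Sup X (S : Set (I → ℤ)) ⊓ fixedSubgroup (MulAut.conj k * φ)) :=
    (Nat.pow_le_pow_iff_left two_ne_zero).1 h3
  have h5 : Nat.card ↥(Sup X (S : Set (I → ℤ)) ⊓ fixedSubgroup (MulAut.conj k * φ)) ≤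
      Nat.card ↥(Sup X (Pos cs h) ⊓ fixedSubgroup (MulAut.conj k * φ)) :=
    Subgroup.card_le_of_le (inf_le_inf_right _ (Sup_mono fun r hr => ((hS r).1 hr).1))
  refine le_trans ?_ (h4.trans h5)
  have h6 : (L.flatMap fun t => [t.1, t.2, t.1 + t.2]).toFinset ⊆ S := by
    intro r hr
    rw [List.mem_toFinset, List.mem_flatMap] at hr
    obtain ⟨t, ht, hr⟩ := hr
    obtain ⟨hA, h01, h02⟩ := hL t ht
    rw [hS]
    simp only [List.mem_cons, List.not_mem_nil, or_false] at hr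
    rcases hr with rfl | rfl | rfl
    · exact ⟨⟨hA.rx, h01⟩, trivial⟩
    · exact ⟨⟨hA.ry, h02⟩, trivial⟩
    · exact ⟨⟨hA.rxy, add_nonneg h01 h02⟩, trivial⟩
  have h7 := Finset.prod_le_prod_of_subset_of_one_le'
    (f := fun r => Nat.card ↥(X r ⊓ fixedSubgroup (MulAut.conj k * φ))) h6 fun r _ _ => Nat.card_pos
  refine le_trans ?_ h7
  rw [List.prod_toFinset _ hnd]
  clear h7 h6 hnd
  induction L with
  | nil => simp
  | cons t L ih =>
    rw [List.map_cons, List.prod_cons, List.flatMap_cons, List.map_append, List.prod_append]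
    refine Nat.mul_le_mul ?_ (ih fun t' ht' => hL t' (List.mem_cons_of_mem _ ht'))
    obtain ⟨hA, -, -⟩ := hL t List.mem_cons_self
    have h8 := tri_card R hA hββ (hX _ hA.rx) (hX _ hA.ry) (hX _ hA.rxy)
    simp only [List.map_cons, List.map_nil, List.prod_cons, List.prod_nil, mul_one]
    rw [← mul_assoc]
    exact h8

/-- **The bound**, `q ≤ |X r|` for all roots `r`. -/
theorem big [Finite W] [Finite Y] [hp : Fact p.Prime] (hp2 : Odd p) (R : RGD cs h p T n X) (hG : GG cs h T X = ⊤)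
    (hcore : (RGD.B cs h T X).normalCore = ⊥) {N q : ℕ} (hq : ∀ r, IsRoot cs h r → q ≤ Nat.card ↥(X r))
    (hcJ : ∀ j, ∃ L : List (I → ℤ), L.length = 2 * N ∧ L.Nodup ∧ ∀ r ∈ L, r ∈ Pos cs h ∧ PJr A j r)
    (hcS : ∀ σ : Equiv.Perm I, σ ≠ 1 → ∀ φ : MulAut Y, Diag T X φ σ → (∀ i, σ (σ i) = i) →
      (∀ i j, A (σ i) (σ j) = A i j) ∧
      ∃ L : List (I → ℤ), L.length = 2 * N ∧ L.Nodup ∧ ∀ r ∈ L, r ∈ Pos cs h ∧ ∃ l, r (σ l) ≠ r l)
    (hcT : ∃ L : List ((I → ℤ) × (I → ℤ)), L.length = N ∧ (∀ t ∈ L, A2 cs h t.1 t.2 ∧ 0 ≤ t.1 ∧ 0 ≤ t.2) ∧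
      (L.flatMap fun t => [t.1, t.2, t.1 + t.2]).Nodup) {α : MulAut Y} (hα : α * α = 1) :
    ∃ V : Subgroup Y, V ≤ fixedSubgroup α ∧ IsPGroup p V ∧ q ^ N ≤ Nat.card V := by
  classical
  obtain ⟨J, g, k, φ, σ, NF⟩ := norm_form hp2 R hG hcore hα
  have key : q ^ N ≤ Nat.card ↥(Sup X (Pos cs h) ⊓ fixedSubgroup (MulAut.conj k * φ)) := by
    have hprod : ∀ L : List (I → ℤ), L.length = 2 * N → L.Nodup → (∀ r ∈ L, r ∈ Pos cs h) →
        ∏ r ∈ L.toFinset, Nat.card ↥(X r) ≤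
          Nat.card ↥(Sup X (Pos cs h) ⊓ fixedSubgroup (MulAut.conj k * φ)) ^ 2 →
        q ^ N ≤ Nat.card ↥(Sup X (Pos cs h) ⊓ fixedSubgroup (MulAut.conj k * φ)) := by
      intro L hl hnd hpos hle
      rw [← Nat.pow_le_pow_iff_left two_ne_zero, ← pow_mul, mul_comm N 2, ← hl, ← List.toFinset_card_of_nodup hnd]
      refine le_trans ?_ hle
      refine Finset.pow_card_le_prod _ _ _ fun r hr => hq r (hpos r (List.mem_toFinset.1 hr)).1
    by_cases hσ : σ = 1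
    · subst hσ
      rcases J.eq_empty_or_nonempty with rfl | ⟨j, hj⟩
      · obtain ⟨L, hl, hL, hnd⟩ := hcT
        refine le_trans ?_ (bound_T hp2 hα NF L hL hnd)
        rw [← hl]
        clear hnd hl
        induction L with
        | nil => simp
        | cons t L ih =>
          rw [List.length_cons, pow_succ, mul_comm, List.map_cons, List.prod_cons]
          exact Nat.mul_le_mul (hq _ (hL t List.mem_cons_self).1.rx) (ih fun t' ht' => hL t' (List.mem_cons_of_mem _ ht'))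
      · obtain ⟨L, hl, hnd, hL⟩ := hcJ j
        exact hprod L hl hnd (fun r hr => (hL r hr).1) (bound_J hp2 hα NF hj L.toFinset fun r hr =>
          hL r (List.mem_toFinset.1 hr))
    · have hσ2 : ∀ i, σ (σ i) = i := NF.perm_sq hα
      obtain ⟨hA, L, hl, hnd, hL⟩ := hcS σ hσ φ NF.diag hσ2
      exact hprod L hl hnd (fun r hr => (hL r hr).1) (bound_S hp2 hα NF hA hσ2 L.toFinset fun r hr =>
          hL r (List.mem_toFinset.1 hr))
  refine ⟨(Sup X (Pos cs h) ⊓ fixedSubgroup (MulAut.conj k * φ)).map (MulAut.conj g⁻¹).toMonoidHom, ?_, ?_, ?_⟩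
  · rintro _ ⟨x, ⟨-, hx⟩, rfl⟩
    have hx' : (MulAut.conj k * φ) x = x := hx
    rw [← NF.eq] at hx'
    show α (g⁻¹ * x * g⁻¹⁻¹) = g⁻¹ * x * g⁻¹⁻¹
    have h1 : (MulAut.conj g * α * (MulAut.conj g)⁻¹) x = g * α (g⁻¹ * x * g⁻¹⁻¹) * g⁻¹ := by
      simp only [MulAut.mul_apply, MulAut.conj_apply, MulAut.conj_inv_apply, inv_inv]
    rw [h1] at hx'
    generalize α (g⁻¹ * x * g⁻¹⁻¹) = y at hx'
    rw [← hx']; group
  · exact (R.isPGroup_Upos.to_le inf_le_left).map _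
  · rw [Subgroup.card_map_of_injective (MulAut.conj g⁻¹).injective]
    exact key

end Cfsg.Agent.H293.TwFix
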