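import Cfsg.Agent.H293.TwFrame
import Cfsg.Agent.Nodes.Unique
import Cfsg.Prelude.Def_EvenType

/-!
# A lower bound for the fixed points of an involutory automorphism on a unipotent group

`X` a root group datum, `β` an automorphism with `β² = 1` which permutes the root groups by `ρ`, `S` a closed `ρ`-stable set of
positive roots.

* `exists_extreme` : a non empty closed set of positive roots contains a root which is not between two others;
* `card_fix` : `∏_{r ∈ S} F(r) ≤ |C_{Sup X S}(β)|²`, `F(r) = |X r|` if `ρ r ≠ r`, `F(r) = |C_{X r}(β)|²` if `ρ r = r`.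
-/

set_option autoImplicit false
set_option linter.unusedSectionVars false

namespace Cfsg.Agent.H293.TwFix

open CoxeterSystem Cfsg.Agent.ChevalleyStructure.CoxeterGeom Cfsg.Agent.Tits.Roots Cfsg.Agent.Tits.Core
  Cfsg.Agent.Tits.RootComb Cfsg.Agent.Nodes.Comb Cfsg.Agent.Nodes.Reps Cfsg.Agent.Nodes.BNOf
  Cfsg.Agent.Nodes.BNOf.RGD Cfsg.Agent.Nodes.Unique
open scoped commutatorElement

variable {I W Y : Type*} [Fintype I] [DecidableEq I] [Group W] [Group Y] {M : CoxeterMatrix I}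
  {cs : CoxeterSystem M W} {A : I → I → ℤ} {h : IsCartan M A} {p : ℕ} {T : Subgroup Y} {n : I → Y}
  {X : (I → ℤ) → Subgroup Y}

/-! ### extreme roots -/

/-- the coordinates divided by the height -/
def pv (x : I → ℤ) (k : I) : ℚ := (x k : ℚ) / (ht x : ℚ)

/-- the square norm of the coordinates divided by the height -/
def pq (x : I → ℤ) : ℚ := ∑ k, pv x k ^ 2

theorem pq_btwn {x y z : I → ℤ} (hx : x ∈ Pos cs h) (hy : y ∈ Pos cs h) (hxy : x ≠ y) (hz : Btwn cs h x y z)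
    (h1 : pq x ≤ pq z) (h2 : pq y ≤ pq z) : False := by
  obtain ⟨hzr, m, a, b, hm, ha, hb, he⟩ := hz
  have hX : 0 < (ht x : ℚ) := by exact_mod_cast ht_pos hx.1 hx.2
  have hY : 0 < (ht y : ℚ) := by exact_mod_cast ht_pos hy.1 hy.2
  have hz0 : 0 ≤ z := nonneg_of_btwn hx.2 hy.2 ⟨hzr, m, a, b, hm, ha, hb, he⟩
  have hZ : 0 < (ht z : ℚ) := by exact_mod_cast ht_pos hzr hz0
  have hm' : 0 < (m : ℚ) := by exact_mod_cast hm
  have ha' : 0 < (a : ℚ) := by exact_mod_cast ha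
  have hb' : 0 < (b : ℚ) := by exact_mod_cast hb
  have hh : (m : ℚ) * ht z = a * ht x + b * ht y := by
    have h3 : m * ht z = a * ht x + b * ht y := by rw [← ht_smul, he, ht_add, ht_smul, ht_smul]
    exact_mod_cast h3
  have hk : ∀ k, (m : ℚ) * z k = a * x k + b * y k := by
    intro k
    have h3 := congrFun he k
    rw [Pi.smul_apply, smul_eq_mul, Pi.add_apply, Pi.smul_apply, Pi.smul_apply, smul_eq_mul, smul_eq_mul] at h3
    exact_mod_cast h3
  obtain ⟨lam, hlam⟩ : ∃ lam : ℚ, lam = a * ht x / (m * ht z) := ⟨_, rfl⟩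
  obtain ⟨mu, hmu⟩ : ∃ mu : ℚ, mu = b * ht y / (m * ht z) := ⟨_, rfl⟩
  have hl0 : 0 < lam := by rw [hlam]; positivity
  have hm0 : 0 < mu := by rw [hmu]; positivity
  have hlm : lam + mu = 1 := by
    rw [hlam, hmu, ← add_div, ← hh]
    exact div_self (by positivity)
  have hv : ∀ k, pv z k = lam * pv x k + mu * pv y k := by
    intro k
    unfold pv
    rw [hlam, hmu]
    field_simp
    linear_combination hk k
  have hq : pq z = lam * pq x + mu * pq y - lam * mu * ∑ k, (pv x k - pv y k) ^ 2 := by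
    unfold pq
    rw [Finset.mul_sum, Finset.mul_sum, Finset.mul_sum, ← Finset.sum_add_distrib, ← Finset.sum_sub_distrib]
    refine Finset.sum_congr rfl fun k _ => ?_
    rw [hv k]
    have : mu = 1 - lam := by linarith
    rw [this]; ring
  have e3 : lam * mu * ∑ k, (pv x k - pv y k) ^ 2 ≤ 0 := by
    have e1 : lam * pq x ≤ lam * pq z := mul_le_mul_of_nonneg_left h1 hl0.le
    have e2 : mu * pq y ≤ mu * pq z := mul_le_mul_of_nonneg_left h2 hm0.le
    have : lam * pq z + mu * pq z = pq z := by rw [← add_mul, hlm, one_mul]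
    linarith
  have e4 : ∑ k, (pv x k - pv y k) ^ 2 = 0 := by
    apply le_antisymm
    · by_contra hcon
      push Not at hcon
      have := mul_pos (mul_pos hl0 hm0) hcon
      linarith
    · exact Finset.sum_nonneg fun k _ => sq_nonneg _
  apply hxy
  refine eq_of_ray hx.1 hy.1 (a := ht y) (b := ht x) (ht_pos hy.1 hy.2) (ht_pos hx.1 hx.2) ?_
  funext k
  have e5 := (Finset.sum_eq_zero_iff_of_nonneg (fun k _ => sq_nonneg (pv x k - pv y k))).1 e4 k (Finset.mem_univ k)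
  have e6 : pv x k = pv y k := sub_eq_zero.1 (pow_eq_zero_iff two_ne_zero |>.1 e5)
  unfold pv at e6
  rw [div_eq_div_iff hX.ne' hY.ne'] at e6
  rw [Pi.smul_apply, Pi.smul_apply, smul_eq_mul, smul_eq_mul]
  have e7 : (ht y : ℚ) * x k = ht x * y k := by linarith
  exact_mod_cast e7

/-- **Extreme roots.** -/
theorem exists_extreme [Finite W] {S : Set (I → ℤ)} (hS : S ⊆ Pos cs h) (hne : S.Nonempty) :
    ∃ r ∈ S, ∀ x ∈ S, ∀ y ∈ S, x ≠ y → ¬ Btwn cs h x y r := by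
  have hfin : S.Finite := finite_pos.subset hS
  obtain ⟨r, hr, hmax⟩ := Set.exists_max_image S (fun x => pq x) hfin hne
  refine ⟨r, hr, fun x hx y hy hxy hb => ?_⟩
  exact pq_btwn (hS hx) (hS hy) hxy hb (hmax x hx) (hmax y hy)

/-! ### two counting lemmas -/

section Count

variable {G : Type*} [Group G] [Finite G]

theorem fix_mul_le {β : MulAut G} {V A B : Subgroup G} (hA : A ≤ V) (hB : B ≤ V) (hAB : A ⊓ B = ⊥) :
    Nat.card ↥(A ⊓ fixedSubgroup β) * Nat.card ↥(B ⊓ fixedSubgroup β) ≤ Nat.card ↥(V ⊓ fixedSubgroup β) := by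
  rw [← Nat.card_prod]
  refine Nat.card_le_card_of_injective (fun x => (⟨(x.1 : G) * x.2,
    ⟨mul_mem (hA x.1.2.1) (hB x.2.2.1), mul_mem x.1.2.2 x.2.2.2⟩⟩ : ↥(V ⊓ fixedSubgroup β))) ?_
  rintro ⟨a, b⟩ ⟨a', b'⟩ he
  have h1 : (a : G) * b = a' * b' := congrArg Subtype.val he
  have h2 : (a' : G)⁻¹ * a = b' * (b : G)⁻¹ := by
    rw [inv_mul_eq_iff_eq_mul, ← mul_assoc, ← h1]; group
  have h3 : (a' : G)⁻¹ * a ∈ A ⊓ B := Subgroup.mem_inf.2 ⟨mul_mem (inv_mem a'.2.1) a.2.1, by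
    rw [h2]; exact mul_mem b'.2.1 (inv_mem b.2.1)⟩
  rw [hAB, Subgroup.mem_bot] at h3
  have h4 : a = a' := Subtype.ext (inv_mul_eq_one.1 h3).symm
  rw [h3] at h2
  have h5 : b = b' := Subtype.ext (mul_inv_eq_one.1 h2.symm).symm
  rw [h4, h5]

theorem exists_fix_coset {β : MulAut G} (hβ : ∀ x, β (β x) = x) {V : Subgroup G} (hV : ∀ x ∈ V, β x ∈ V)
    (hodd : Odd (Nat.card V)) {y : G} (hy : y⁻¹ * β y ∈ V) : ∃ v ∈ V, β (y * v) = y * v := by
  obtain ⟨u, hu⟩ : ∃ u, u = y⁻¹ * β y := ⟨_, rfl⟩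
  rw [← hu] at hy
  have hy' : β y = y * u := by rw [hu]; group
  have huu : u * β u = 1 := by
    have h1 := hβ y
    rw [hy', map_mul, hy', mul_assoc, mul_eq_left] at h1
    exact h1
  let θ : V → V := fun v => ⟨u * β v, mul_mem hy (hV _ v.2)⟩
  have hθ : Function.Involutive θ := by
    intro v
    apply Subtype.ext
    show u * β (u * β v) = v
    rw [map_mul, hβ, ← mul_assoc, huu, one_mul]
  have : Fintype V := Fintype.ofFinite V
  have hp : Fact (Nat.Prime 2) := ⟨Nat.prime_two⟩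
  obtain ⟨v, hv⟩ := Equiv.Perm.exists_fixed_point_of_prime (p := 2) (n := 1) (by
    rw [← Nat.card_eq_fintype_card]
    exact hodd.not_two_dvd_nat) (σ := hθ.toPerm θ) (by
    rw [pow_one]
    ext1 x
    rw [pow_two, Equiv.Perm.mul_apply]
    exact hθ x)
  have hv' : u * β v = v := congrArg Subtype.val hv
  exact ⟨v, v.2, by rw [map_mul, hy', mul_assoc, hv']⟩

theorem fix_mul_le' {β : MulAut G} (hβ : ∀ x, β (β x) = x) {V A V' K : Subgroup G} (hA : A ≤ V)
    (hAβ : ∀ a ∈ A, β a ∈ V) (hV' : V' ≤ V) (hVβ : ∀ x ∈ V', β x ∈ V') (hodd : Odd (Nat.card V'))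
    (hcomm : ∀ a ∈ A, ∀ b ∈ A, ⁅a, β b⁆ ∈ V') (hK : V' ≤ K) (hKβ : ∀ a ∈ A, β a ∈ K) (hAK : A ⊓ K = ⊥) :
    Nat.card A * Nat.card ↥(V' ⊓ fixedSubgroup β) ≤ Nat.card ↥(V ⊓ fixedSubgroup β) := by
  have hex : ∀ a : A, ∃ v ∈ V', β ((a : G) * β a * v) = (a : G) * β a * v := by
    intro a
    refine exists_fix_coset hβ hVβ hodd ?_
    rw [map_mul, hβ]
    have h1 := inv_mem (hcomm (a : G)⁻¹ (inv_mem a.2) (a : G)⁻¹ (inv_mem a.2))
    have h2 : ((a : G) * β a)⁻¹ * (β a * a) = ⁅(a : G)⁻¹, β (a : G)⁻¹⁆⁻¹ := by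
      rw [commutatorElement_def, map_inv]; group
    rw [h2]; exact h1
  choose v hv hvf using hex
  rw [← Nat.card_prod]
  refine Nat.card_le_card_of_injective (fun x => (⟨(x.1 : G) * β x.1 * v x.1 * x.2,
    ⟨mul_mem (mul_mem (mul_mem (hA x.1.2) (hAβ _ x.1.2)) (hV' (hv _))) (hV' x.2.2.1),
      mul_mem (show _ ∈ fixedSubgroup β from hvf x.1) x.2.2.2⟩⟩ : ↥(V ⊓ fixedSubgroup β))) ?_
  rintro ⟨a, c⟩ ⟨a', c'⟩ he
  have h1 : (a : G) * β a * v a * c = a' * β a' * v a' * c' := congrArg Subtype.val he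
  have h2 : (a' : G)⁻¹ * a = (β a' * v a' * c') * (β (a : G) * v a * c)⁻¹ := by
    rw [inv_mul_eq_iff_eq_mul, ← mul_assoc, eq_mul_inv_iff_mul_eq]
    simp only [← mul_assoc]
    exact h1
  have h3 : (a' : G)⁻¹ * a ∈ A ⊓ K := Subgroup.mem_inf.2 ⟨mul_mem (inv_mem a'.2) a.2, by
    rw [h2]
    exact mul_mem (mul_mem (mul_mem (hKβ _ a'.2) (hK (hv _))) (hK c'.2.1))
      (inv_mem (mul_mem (mul_mem (hKβ _ a.2) (hK (hv _))) (hK c.2.1)))⟩
  rw [hAK, Subgroup.mem_bot] at h3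
  have h4 : a = a' := Subtype.ext (inv_mul_eq_one.1 h3).symm
  subst h4
  have h5 : c = c' := Subtype.ext (mul_left_cancel h1)
  rw [h5]

end Count

/-! ### the bound -/

/-- `β` permutes the root groups by `ρ`. -/
structure RMap (cs : CoxeterSystem M W) (h : IsCartan M A) (X : (I → ℤ) → Subgroup Y) (β : MulAut Y)
    (ρ : (I → ℤ) → (I → ℤ)) : Prop where
  root : ∀ r, IsRoot cs h r → IsRoot cs h (ρ r)
  mem : ∀ r, IsRoot cs h r → ∀ x, β x ∈ X (ρ r) ↔ x ∈ X r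
  inv : ∀ r, IsRoot cs h r → ρ (ρ r) = r
  btwn : ∀ x y z, IsRoot cs h x → IsRoot cs h y → Btwn cs h x y z → Btwn cs h (ρ x) (ρ y) (ρ z)

variable (R : RGD cs h p T n X)

include R

theorem map_Sup {β : MulAut Y} {ρ : (I → ℤ) → (I → ℤ)} (H : RMap cs h X β ρ) {S : Set (I → ℤ)}
    (hS : S ⊆ Pos cs h) (hρ : ∀ r ∈ S, ρ r ∈ S) {x : Y} (hx : x ∈ Sup X S) : β x ∈ Sup X S := by
  have h1 : Sup X S ≤ (Sup X S).comap β.toMonoidHom := by
    refine Sup_le fun z hz a ha => ?_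
    exact le_Sup (hρ z hz) ((H.mem z (hS hz).1 a).2 ha)
  exact h1 hx

theorem odd_Sup [Finite W] [Finite Y] (hp2 : Odd p) (hp : p.Prime) {S : Set (I → ℤ)} (hS : S ⊆ Pos cs h) :
    Odd (Nat.card ↥(Sup X S)) := by
  have : Fact p.Prime := ⟨hp⟩
  obtain ⟨m, hm⟩ := (IsPGroup.iff_card.1 (R.isPGroup_Upos.to_le (Sup_mono (X := X) hS)))
  rw [hm]
  exact hp2.pow

/-- a root outside of a closed set -/
theorem inf_of_not_mem [Finite W] {S : Set (I → ℤ)} (hS : S ⊆ Pos cs h) (hc : Closed cs h S) {r : I → ℤ}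
    (hr : r ∈ Pos cs h) (hrS : r ∉ S) : X r ⊓ Sup X S = ⊥ := by
  have h1 : Sup X {r} = X r := le_antisymm (Sup_le fun z hz => by rw [Set.mem_singleton_iff.1 hz]) (le_Sup rfl)
  have h2 := inf_eq R (S := {r}) (S' := S) (Set.singleton_subset_iff.2 hr) hS (by
    rintro x rfl y rfl z hz
    exact btwn_self hr.1 hz) hc
  rw [h1, Set.singleton_inter_eq_empty.2 hrS] at h2
  rw [h2, eq_bot_iff]
  exact Sup_le fun z hz => absurd hz (Set.notMem_empty z)

/-- **The lower bound.** -/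
theorem card_fix [Finite W] [Finite Y] (hp2 : Odd p) (hp : p.Prime) {β : MulAut Y} (hβ : ∀ x, β (β x) = x)
    {ρ : (I → ℤ) → (I → ℤ)} (H : RMap cs h X β ρ) [DecidableEq (I → ℤ)] (S : Finset (I → ℤ))
    (hS : (S : Set (I → ℤ)) ⊆ Pos cs h) (hc : Closed cs h (S : Set (I → ℤ))) (hρ : ∀ r ∈ S, ρ r ∈ S) :
    ∏ r ∈ S, (if ρ r = r then Nat.card ↥(X r ⊓ fixedSubgroup β) ^ 2 else Nat.card ↥(X r)) ≤
      Nat.card ↥(Sup X (S : Set (I → ℤ)) ⊓ fixedSubgroup β) ^ 2 := by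
  induction hn : S.card using Nat.strong_induction_on generalizing S with
  | _ k ih =>
  rcases S.eq_empty_or_nonempty with rfl | hne
  · rw [Finset.prod_empty]
    exact Nat.one_le_pow _ _ Nat.card_pos
  obtain ⟨r, hr, hext⟩ := exists_extreme (cs := cs) (h := h) hS (by exact_mod_cast hne)
  have hrS : r ∈ S := hr
  have hrr := (hS hr).1
  -- removing an extreme root
  have hcl : ∀ {S' : Set (I → ℤ)} {t : I → ℤ}, S' ⊆ Pos cs h → Closed cs h S' → t ∈ S' →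
      (∀ x ∈ S', ∀ y ∈ S', x ≠ y → ¬ Btwn cs h x y t) → Closed cs h (S' \ {t}) := by
    intro S' t hS' hc' ht h1 x hx y hy z hz
    refine ⟨hc' x hx.1 y hy.1 z hz, ?_⟩
    rintro rfl
    by_cases hxy : x = y
    · subst hxy
      exact hx.2 (btwn_self (hS' hx.1).1 hz).symm
    · exact h1 x hx.1 y hy.1 hxy hz
  by_cases hfix : ρ r = r
  · -- the fixed case
    have hc1 : Closed cs h ((S.erase r : Finset (I → ℤ)) : Set (I → ℤ)) := by
      rw [Finset.coe_erase]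
      exact hcl hS hc hr hext
    have hS1 : ((S.erase r : Finset (I → ℤ)) : Set (I → ℤ)) ⊆ Pos cs h := fun x hx => hS (by
      rw [Finset.coe_erase] at hx; exact hx.1)
    have hρ1 : ∀ x ∈ S.erase r, ρ x ∈ S.erase r := by
      intro x hx
      rw [Finset.mem_erase] at hx ⊢
      refine ⟨fun h1 => hx.1 ?_, hρ x hx.2⟩
      rw [← H.inv x (hS hx.2).1, h1, hfix]
    have h1 := ih _ (by rw [← hn]; exact Finset.card_erase_lt_of_mem hrS) (S.erase r) hS1 hc1 hρ1 rfl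
    rw [← Finset.mul_prod_erase S _ hrS, if_pos hfix]
    have h2 : X r ⊓ Sup X ((S.erase r : Finset (I → ℤ)) : Set (I → ℤ)) = ⊥ :=
      inf_of_not_mem R hS1 hc1 (hS hr) (by rw [Finset.coe_erase]; exact fun h3 => h3.2 rfl)
    have h3 := fix_mul_le (β := β) (V := Sup X (S : Set (I → ℤ))) (A := X r)
      (B := Sup X ((S.erase r : Finset (I → ℤ)) : Set (I → ℤ))) (le_Sup hr)
      (Sup_mono (by rw [Finset.coe_erase]; exact Set.sdiff_subset)) h2
    calc _ ≤ Nat.card ↥(X r ⊓ fixedSubgroup β) ^ 2 *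
          Nat.card ↥(Sup X ((S.erase r : Finset (I → ℤ)) : Set (I → ℤ)) ⊓ fixedSubgroup β) ^ 2 :=
          Nat.mul_le_mul_left _ h1
      _ = (Nat.card ↥(X r ⊓ fixedSubgroup β) *
          Nat.card ↥(Sup X ((S.erase r : Finset (I → ℤ)) : Set (I → ℤ)) ⊓ fixedSubgroup β)) ^ 2 := (mul_pow _ _ _).symm
      _ ≤ _ := Nat.pow_le_pow_left h3 2
  · -- the moved case
    obtain ⟨r', hr'⟩ : ∃ r', r' = ρ r := ⟨_, rfl⟩
    have hr'S : r' ∈ S := by rw [hr']; exact hρ r hrS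
    have hr'r : ρ r' = r := by rw [hr', H.inv r hrr]
    have hne' : r' ≠ r := by rw [hr']; exact hfix
    have hext' : ∀ x ∈ (S : Set (I → ℤ)), ∀ y ∈ (S : Set (I → ℤ)), x ≠ y → ¬ Btwn cs h x y r' := by
      intro x hx y hy hxy hb
      have h1 := H.btwn x y r' (hS hx).1 (hS hy).1 hb
      rw [hr'r] at h1
      refine hext _ (hρ x hx) _ (hρ y hy) (fun h2 => hxy ?_) h1
      rw [← H.inv x (hS hx).1, h2, H.inv y (hS hy).1]
    have hc1 : Closed cs h ((S.erase r : Finset (I → ℤ)) : Set (I → ℤ)) := by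
      rw [Finset.coe_erase]
      exact hcl hS hc hr hext
    have hS1 : ((S.erase r : Finset (I → ℤ)) : Set (I → ℤ)) ⊆ Pos cs h := fun x hx => hS (by
      rw [Finset.coe_erase] at hx; exact hx.1)
    obtain ⟨S2, hS2⟩ : ∃ S2, S2 = (S.erase r).erase r' := ⟨_, rfl⟩
    have hmem2 : ∀ x, x ∈ S2 ↔ x ≠ r' ∧ x ≠ r ∧ x ∈ S := by
      intro x
      rw [hS2, Finset.mem_erase, Finset.mem_erase]
    have hc2 : Closed cs h (S2 : Set (I → ℤ)) := by
      rw [hS2, Finset.coe_erase]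
      refine hcl hS1 hc1 ?_ fun x hx y hy hxy hb => ?_
      · rw [Finset.coe_erase]; exact ⟨hr'S, hne'⟩
      · rw [Finset.coe_erase] at hx hy
        exact hext' x hx.1 y hy.1 hxy hb
    have hsub2 : (S2 : Set (I → ℤ)) ⊆ S := fun x hx => ((hmem2 x).1 hx).2.2
    have hsub21 : (S2 : Set (I → ℤ)) ⊆ (S.erase r : Finset (I → ℤ)) := fun x hx => by
      have h1 := (hmem2 x).1 hx
      exact Finset.mem_erase.2 ⟨h1.2.1, h1.2.2⟩
    have hPos2 : (S2 : Set (I → ℤ)) ⊆ Pos cs h := hsub2.trans hS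
    have hρ2 : ∀ x ∈ S2, ρ x ∈ S2 := by
      intro x hx
      rw [hmem2] at hx ⊢
      have hxx := H.inv x (hS hx.2.2).1
      refine ⟨fun h1 => hx.2.1 ?_, fun h1 => hx.1 ?_, hρ x hx.2.2⟩
      · rw [← hxx, h1, hr'r]
      · rw [← hxx, h1, hr']
    have h1 := ih _ (by
      rw [← hn, hS2]
      exact lt_of_le_of_lt (Finset.card_le_card (Finset.erase_subset _ _)) (Finset.card_erase_lt_of_mem hrS))
      S2 hPos2 hc2 hρ2 rfl
    have hr'1 : r' ∈ S.erase r := Finset.mem_erase.2 ⟨hne', hr'S⟩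
    rw [← Finset.mul_prod_erase S _ hrS, ← Finset.mul_prod_erase (S.erase r) _ hr'1, ← hS2, if_neg hfix,
      if_neg (by rw [hr'r]; exact hne'.symm)]
    have hmapX : ∀ a ∈ X r, β a ∈ X r' := fun a ha => by rw [hr']; exact (H.mem r hrr a).2 ha
    have hcard : Nat.card ↥(X r) = Nat.card ↥(X r') := by
      refine Nat.card_congr ⟨fun a => ⟨β a, hmapX a a.2⟩, fun a => ⟨β a, ?_⟩, fun a => Subtype.ext (hβ a),
        fun a => Subtype.ext (hβ a)⟩
      have h2 := H.mem r' (hS hr'S).1 a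
      rw [hr'r] at h2
      exact h2.2 a.2
    have h3 := fix_mul_le' (β := β) hβ (V := Sup X (S : Set (I → ℤ))) (A := X r) (V' := Sup X (S2 : Set (I → ℤ)))
      (K := Sup X ((S.erase r : Finset (I → ℤ)) : Set (I → ℤ))) (le_Sup hr)
      (fun a ha => le_Sup (show r' ∈ (S : Set (I → ℤ)) from hr'S) (hmapX a ha)) (Sup_mono hsub2)
      (fun x hx => map_Sup R H hPos2 hρ2 hx) (odd_Sup R hp2 hp hPos2) (fun a ha b hb => ?_)
      (Sup_mono hsub21) (fun a ha => le_Sup (show r' ∈ ((S.erase r : Finset (I → ℤ)) : Set (I → ℤ)) from hr'1)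
        (hmapX a ha))
      (inf_of_not_mem R hS1 hc1 (hS hr) (by rw [Finset.coe_erase]; exact fun h3 => h3.2 rfl))
    · rw [← hcard]
      calc _ = Nat.card ↥(X r) ^ 2 * _ := by rw [← mul_assoc, ← pow_two]
        _ ≤ Nat.card ↥(X r) ^ 2 * Nat.card ↥(Sup X (S2 : Set (I → ℤ)) ⊓ fixedSubgroup β) ^ 2 :=
          Nat.mul_le_mul_left _ h1
        _ = (Nat.card ↥(X r) * Nat.card ↥(Sup X (S2 : Set (I → ℤ)) ⊓ fixedSubgroup β)) ^ 2 :=
          (mul_pow _ _ _).symm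
        _ ≤ _ := Nat.pow_le_pow_left h3 2
    · have h2 := R.comm r r' hrr (hS hr'S).1 hne'.symm (by
        intro h4
        have h5 := (hS hr).2
        rw [h4] at h5
        exact (hS hr'S).1.not_pos_neg (hS hr'S).2 (neg_nonneg.1 h5)) a ha _ (hmapX b hb)
      refine btw_le_Sup R (fun z hz => ?_) h2
      rw [Finset.mem_coe, hmem2]
      refine ⟨?_, ?_, hc r hr r' hr'S z hz⟩
      · exact btwn_ne_right hrr (hS hr'S).1 (hS hr).2 (hS hr'S).2 hne'.symm hz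
      · exact btwn_ne_left hrr (hS hr'S).1 (hS hr).2 (hS hr'S).2 hne'.symm hz

end Cfsg.Agent.H293.TwFix
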