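import Cfsg.Agent.H293.TwBig
import Cfsg.Agent.KFacts.RgdChevCoord
import Cfsg.Agent.CpAut.RgdUntw
import Cfsg.Agent.UGT.U2.FOne.FFourComb
import Cfsg.Agent.Nodes.SimplyLaced

/-!
# Root tables for the lower bounds: `F₄`, `E₆`, `E₇`, `E₈`

Lists of indices of positive roots of the tabulated data.
-/

set_option autoImplicit false
set_option linter.unusedSectionVars false
set_option maxRecDepth 20000

namespace Cfsg.Agent.H293.TwFix.Cert

open CoxeterSystem Cfsg.Agent.ChevalleyStructure.CoxeterGeom Cfsg.Agent.Tits.Roots Cfsg.Agent.Tits.Core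
  Cfsg.Agent.Tits.Exchange
  Cfsg.Agent.Tits.RootComb Cfsg.Agent.Nodes.Comb Cfsg.Agent.Nodes.Reps Cfsg.Agent.Nodes.BNOf
  Cfsg.Agent.Nodes.BNOf.RGD Cfsg.Agent.Nodes.Unique Cfsg.Agent.Nodes.Coroot Cfsg.Agent.KFacts.RgdSL
open Cfsg.Lie Cfsg.Agent.ChevalleyStructure Cfsg.Agent.ChevalleyStructure.CoxeterGeomTypes
  Cfsg.Agent.Nodes.RGDChev

/-- the check for `J` -/
def OkJ (D : ChevalleyDatum) (l : ℕ) (L : Fin l → List ℕ) : Prop :=
  ∀ j, (L j).length = 14 ∧ (L j).Nodup ∧ ∀ r ∈ L j, r < D.nroots ∧ (∀ k, 0 ≤ vec D l r k) ∧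
    pairing (cartanOf D l) j (vec D l r) ≠ 0 ∧ ∃ k, k ≠ j ∧ cartanOf D l j k ≠ 0 ∧ 0 < vec D l r k

/-- the check for the triples -/
def OkT (D : ChevalleyDatum) (l : ℕ) (L : List (ℕ × ℕ × ℕ)) : Prop :=
  L.length = 7 ∧ (L.flatMap fun t => [t.1, t.2.1, t.2.2]).Nodup ∧
    ∀ t ∈ L, t.1 < D.nroots ∧ t.2.1 < D.nroots ∧ t.2.2 < D.nroots ∧ (∀ k, 0 ≤ vec D l t.1 k) ∧
      (∀ k, 0 ≤ vec D l t.2.1 k) ∧ (∀ k, vec D l t.2.2 k = vec D l t.1 k + vec D l t.2.1 k)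

/-- the check for the symmetry `σ` -/
def OkS (D : ChevalleyDatum) (l : ℕ) (σ : Fin l → Fin l) (L : List ℕ) : Prop :=
  L.length = 14 ∧ L.Nodup ∧ ∀ r ∈ L, r < D.nroots ∧ (∀ k, 0 ≤ vec D l r k) ∧ ∃ k, vec D l r (σ k) ≠ vec D l r k

instance (D : ChevalleyDatum) (l : ℕ) (L : Fin l → List ℕ) : Decidable (OkJ D l L) := by
  unfold OkJ; infer_instance
instance (D : ChevalleyDatum) (l : ℕ) (L : List (ℕ × ℕ × ℕ)) : Decidable (OkT D l L) := by
  unfold OkT; infer_instance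
instance (D : ChevalleyDatum) (l : ℕ) (σ : Fin l → Fin l) (L : List ℕ) : Decidable (OkS D l σ L) := by
  unfold OkS; infer_instance

/-- the lists for `F4` -/
def jF4 : Fin 4 → List ℕ :=
  ![[27, 28, 29, 30, 31, 32, 34, 35, 36, 40, 41, 42, 43, 44], [25, 26, 30, 31, 33, 34, 35, 36, 37, 38, 39, 40, 43, 45], [24, 26, 27, 28, 31, 32, 34, 35, 38, 39, 42, 43, 45, 46], [25, 26, 28, 29, 30, 31, 35, 36, 37, 38, 41, 42, 46, 47]]

theorem okJ_F4 : OkJ chevF4 4 jF4 := by decide +kernel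

/-- the triples for `F4` -/
def tF4 : List (ℕ × ℕ × ℕ) :=
  [(32, 41, 46), (28, 38, 40), (27, 35, 37), (24, 30, 31), (25, 42, 43), (26, 45, 47), (34, 39, 44)]

theorem okT_F4 : OkT chevF4 4 tF4 := by decide +kernel

/-- the lists for `E6` -/
def jE6 : Fin 6 → List ℕ :=
  ![[42, 43, 44, 45, 50, 51, 52, 53, 54, 55, 57, 58, 59, 60], [39, 40, 41, 43, 44, 45, 47, 48, 49, 50, 51, 52, 58, 59], [39, 40, 41, 43, 44, 45, 47, 48, 49, 50, 51, 52, 56, 57], [37, 38, 40, 41, 42, 43, 46, 47, 51, 52, 53, 54, 57, 58], [36, 38, 39, 40, 43, 44, 47, 48, 50, 51, 54, 55, 58, 59], [37, 38, 40, 41, 44, 45, 48, 49, 51, 52, 53, 54, 59, 60]]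

theorem okJ_E6 : OkJ chevE6 6 jE6 := by decide +kernel

/-- the triples for `E6` -/
def tE6 : List (ℕ × ℕ × ℕ) :=
  [(40, 63, 66), (42, 56, 57), (41, 50, 54), (44, 49, 55), (52, 58, 68), (39, 46, 47), (51, 65, 71)]

theorem okT_E6 : OkT chevE6 6 tE6 := by decide +kernel

/-- the lists for `E7` -/
def jE7 : Fin 7 → List ℕ :=
  ![[73, 74, 75, 76, 77, 83, 84, 85, 86, 87, 88, 89, 90, 91], [69, 70, 71, 72, 74, 75, 76, 77, 79, 80, 81, 82, 83, 84], [69, 70, 71, 72, 74, 75, 76, 77, 79, 80, 81, 82, 83, 84], [66, 67, 68, 70, 71, 72, 73, 74, 78, 79, 84, 85, 86, 87], [64, 65, 67, 68, 69, 70, 74, 75, 79, 80, 83, 84, 88, 89], [63, 65, 66, 67, 70, 71, 75, 76, 80, 81, 84, 85, 87, 88], [64, 65, 67, 68, 71, 72, 76, 77, 81, 82, 85, 86, 88, 89]]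

theorem okJ_E7 : OkJ chevE7 7 jE7 := by decide +kernel

/-- the triples for `E7` -/
def tE7 : List (ℕ × ℕ × ℕ) :=
  [(69, 85, 88), (76, 120, 124), (65, 115, 117), (92, 99, 121), (68, 109, 113), (87, 101, 119), (86, 97, 114)]

theorem okT_E7 : OkT chevE7 7 tE7 := by decide +kernel

/-- the lists for `E8` -/
def jE8 : Fin 8 → List ℕ :=
  ![[135, 136, 137, 138, 139, 140, 147, 148, 149, 150, 151, 152, 153, 154], [130, 131, 132, 133, 134, 136, 137, 138, 139, 140, 142, 143, 144, 145], [130, 131, 132, 133, 134, 136, 137, 138, 139, 140, 142, 143, 144, 145], [126, 127, 128, 129, 131, 132, 133, 134, 135, 136, 141, 142, 148, 149], [123, 124, 125, 127, 128, 129, 130, 131, 136, 137, 142, 143, 147, 148], [121, 122, 124, 125, 126, 127, 131, 132, 137, 138, 143, 144, 148, 149], [120, 122, 123, 124, 127, 128, 132, 133, 138, 139, 144, 145, 149, 150], [121, 122, 124, 125, 128, 129, 133, 134, 139, 140, 145,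 146, 150, 151]]

theorem okJ_E8 : OkJ chevE8 8 jE8 := by decide +kernel

/-- the triples for `E8` -/
def tE8 : List (ℕ × ℕ × ℕ) :=
  [(127, 209, 213), (128, 169, 172), (150, 164, 186), (149, 177, 208), (133, 206, 216), (125, 148, 151), (157, 192, 223)]

theorem okT_E8 : OkT chevE8 8 tE8 := by decide +kernel

theorem okS_E6 : OkS chevE6 6 ![5, 1, 4, 3, 2, 0] [36, 37, 38, 40, 41, 42, 43, 45, 48, 49, 50, 52, 54, 55] := by decide +kernel

end Cfsg.Agent.H293.TwFix.Cert
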