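import Cfsg.Agent.KFacts.RgdRigid

/-!
# Automorphisms of order two of a group with a root group datum: normal form in the normaliser of the frame

* `twist_conj` : `a` in the cell of `w`, `φ` a frame automorphism, `(conj a * φ)² = 1` (odd characteristic): `conj a * φ` is
  conjugate to `conj k * φ` with `k` over `w`.
-/

set_option autoImplicit false
set_option linter.unusedSectionVars false

namespace Cfsg.Agent.H293.TwFix

open CoxeterSystem Cfsg.Agent.ChevalleyStructure.CoxeterGeom Cfsg.Agent.Tits.Roots Cfsg.Agent.Tits.Core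
  Cfsg.Agent.Tits.Exchange Cfsg.Agent.Nodes.Reps Cfsg.Agent.Nodes.BNOf Cfsg.Agent.Nodes.StabComb
  Cfsg.Agent.Nodes.Bruhat Cfsg.Agent.Nodes.OppDec Cfsg.Agent.Nodes.LeviDec Cfsg.Agent.Nodes.NormalForm
  Cfsg.Agent.Nodes.Comb
  Cfsg.Agent.KFacts.RgdOpp Cfsg.Agent.KFacts.RgdAut Cfsg.Agent.KFacts.RgdDiag Cfsg.Agent.KFacts.RgdRigid

variable {I W Y : Type*} [Fintype I] [DecidableEq I] [Group W] [Group Y] {M : CoxeterMatrix I}
  {cs : CoxeterSystem M W} {A : I → I → ℤ} {h : IsCartan M A} {p : ℕ} {T : Subgroup Y} {n : I → Y}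
  {X : (I → ℤ) → Subgroup Y}

/-- an element of odd order has a square root among its powers -/
theorem exists_sqrt {G : Type*} [Group G] {a : G} (ha : Odd (orderOf a)) : ∃ m : ℕ, a ^ m * a ^ m = a := by
  obtain ⟨k, hk⟩ := ha
  refine ⟨k + 1, ?_⟩
  rw [← pow_add]
  have : k + 1 + (k + 1) = orderOf a + 1 := by omega
  rw [this, pow_succ, pow_orderOf_eq_one, one_mul]

variable (R : RGD cs h p T n X)

include R

/-- An inner automorphism fixing `U` and `U⁻` comes from the torus. -/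
theorem mem_T_of_fix [Finite W] (hG : GG cs h T X = ⊤) {c : Y} (h1 : Fix (MulAut.conj c) (RGD.Sup X (RGD.Pos cs h)))
    (h2 : Fix (MulAut.conj c) (UN cs h X)) : c ∈ T := by
  have h3 : c ∈ RGD.B cs h T X := by
    rw [← normalizer_U' R hG, Subgroup.mem_normalizer_iff]
    intro y
    rw [← MulAut.conj_apply]
    exact (h1 y).symm
  have h4 : c ∈ BN cs h T X := by
    rw [← normalizer_UN R hG, Subgroup.mem_normalizer_iff]
    intro y
    rw [← MulAut.conj_apply]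
    exact (h2 y).symm
  rw [← B_inf_BN R]
  exact ⟨h3, h4⟩

theorem fix_U_of_mem_T {c : Y} (hc : c ∈ T) : Fix (MulAut.conj c) (RGD.Sup X (RGD.Pos cs h)) := by
  have h1 := Subgroup.mem_normalizer_iff.1 (R.T_le_normalizer_U hc)
  intro y
  rw [MulAut.conj_apply]
  exact (h1 y).symm

theorem fix_UN_of_mem_T {c : Y} (hc : c ∈ T) : Fix (MulAut.conj c) (UN cs h X) := by
  have h1 := Subgroup.mem_normalizer_iff.1 (R.T_le_normalizer (S := Neg cs h) (fun x hx => hx.1) hc)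
  intro y
  rw [MulAut.conj_apply]
  exact (h1 y).symm

/-- **Normal form of an automorphism of order two.** -/
theorem twist_conj [Finite W] (hp2 : Odd p) (hG : GG cs h T X = ⊤) {w : W} {a : Y} (ha : Cell R.nsys cs h X w a)
    {φ : MulAut Y} {σ : Equiv.Perm I} (D : Diag T X φ σ) (hU : Fix φ (RGD.Sup X (RGD.Pos cs h)))
    (hUN : Fix φ (UN cs h X)) (h2 : (MulAut.conj a * φ) * (MulAut.conj a * φ) = 1) :
    ∃ g k, Rp cs R.nsys w k ∧ (MulAut.conj k * φ) * (MulAut.conj k * φ) = 1 ∧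
      MulAut.conj g * (MulAut.conj a * φ) * (MulAut.conj g)⁻¹ = MulAut.conj k * φ := by
  have cj : ∀ (x y : Y) (ψ : MulAut Y), MulAut.conj x * (MulAut.conj y * ψ) * (MulAut.conj x)⁻¹ =
      MulAut.conj (x * y * (ψ x)⁻¹) * ψ := by
    intro x y ψ
    ext z
    simp only [MulAut.mul_apply, MulAut.conj_apply, MulAut.conj_inv_apply, map_mul, map_inv, mul_inv_rev, inv_inv,
      mul_assoc]
  have sq : ∀ (x : Y) (ψ : MulAut Y), MulAut.conj x * ψ * (MulAut.conj x * ψ) = MulAut.conj (x * ψ x) * (ψ * ψ) := by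
    intro x ψ
    ext z
    simp only [MulAut.mul_apply, MulAut.conj_apply, map_mul, map_inv, mul_inv_rev, mul_assoc]
  have hσ := D.matrix R
  -- `a φ(a) ∈ T`
  have e1 : φ * φ = MulAut.conj (a * φ a)⁻¹ := by
    rw [sq] at h2
    rw [map_inv]
    exact (inv_eq_of_mul_eq_one_right h2).symm
  have hT1 : (a * φ a)⁻¹ ∈ T := by
    apply mem_T_of_fix R hG
    · rw [← e1]; exact hU.mul hU
    · rw [← e1]; exact hUN.mul hUN
  -- the normal form
  obtain ⟨u, hu, k, hk, v, hv, rfl⟩ := exists_normal_form R ha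
  have hv' : v ∈ RGD.Sup X (RGD.Pos cs h) :=
    RGD.Sup_mono (S := NW cs h w) (S' := RGD.Pos cs h) (fun x hx => ⟨hx.1, hx.2.1⟩) hv
  have hφk := D.rp' (R := R) hσ hk
  -- `hat σ w = w⁻¹`
  have hw : hat cs σ hσ w = w⁻¹ := by
    have c1 : Cell R.nsys cs h X (hat cs σ hσ w) (φ (u * k * v)) := by
      rw [map_mul, map_mul]
      exact ⟨φ u, RGD.U_le_B ((hU u).2 hu), φ k, hφk, φ v, RGD.U_le_B ((hU v).2 hv'), rfl⟩
    have c2 : Cell R.nsys cs h X w⁻¹ (φ (u * k * v)) := by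
      have h3 : φ (u * k * v) = (u * k * v)⁻¹ * ((u * k * v * φ (u * k * v))⁻¹)⁻¹ := by group
      rw [h3]
      exact (ha.inv).mul_right (RGD.T_le_B (inv_mem hT1))
    exact Cell.unique R c1 c2
  have hkT : k * φ k ∈ T := by
    have h1 := hk.mul hφk
    rw [hw, mul_inv_cancel] at h1
    exact h1.mem_of_one
  -- `κ = conj k * φ`
  obtain ⟨κ, hκ⟩ : ∃ κ, κ = MulAut.conj k * φ := ⟨_, rfl⟩
  obtain ⟨x, hx⟩ : ∃ x, x = φ⁻¹ v := ⟨_, rfl⟩
  have hxU : x ∈ RGD.Sup X (RGD.Pos cs h) := by rw [hx]; exact (hU.inv v).2 hv'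
  have hφx : φ x = v := by rw [hx, MulAut.apply_inv_self]
  obtain ⟨b, hb⟩ : ∃ b, b = x * u := ⟨_, rfl⟩
  have hbU : b ∈ RGD.Sup X (RGD.Pos cs h) := by rw [hb]; exact mul_mem hxU hu
  have e2 : MulAut.conj x * (MulAut.conj (u * k * v) * φ) * (MulAut.conj x)⁻¹ = MulAut.conj b * κ := by
    rw [cj, hφx, hκ, hb, ← mul_assoc (MulAut.conj (x * u)), ← map_mul MulAut.conj (x * u) k]
    congr 2
    group
  have e3 : MulAut.conj b * κ * (MulAut.conj b * κ) = 1 := by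
    rw [← e2]
    have : ∀ a b : MulAut Y, b * b = 1 → a * b * a⁻¹ * (a * b * a⁻¹) = 1 := by
      intro a b hb
      have : a * b * a⁻¹ * (a * b * a⁻¹) = a * (b * b) * a⁻¹ := by group
      rw [this, hb]; group
    exact this _ _ h2
  have e4 : κ * κ = MulAut.conj (b * κ b)⁻¹ := by
    rw [sq] at e3
    rw [map_inv]
    exact (inv_eq_of_mul_eq_one_right e3).symm
  have e5 : κ * κ = MulAut.conj (k * φ k) * (φ * φ) := by rw [hκ, sq]
  have hcT : (b * κ b)⁻¹ ∈ T := by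
    apply mem_T_of_fix R hG
    · rw [← e4, e5]; exact (fix_U_of_mem_T R hkT).mul (hU.mul hU)
    · rw [← e4, e5]; exact (fix_UN_of_mem_T R hkT).mul (hUN.mul hUN)
  obtain ⟨b₁, hb₁, c₁, hc₁, hbc⟩ := exists_PW_NW R w ((hU b).2 hbU)
  have hkb : k * b₁ * k⁻¹ ∈ RGD.Sup X (RGD.Pos cs h) :=
    conj_mem_Sup R hk (S' := RGD.Pos cs h) (fun x hx => hx.1) (fun x hx => ⟨hx.1.act _, hx.2.2⟩) hb₁
  have hkc : k * c₁ * k⁻¹ ∈ UN cs h X :=
    conj_mem_Sup R hk (S' := Neg cs h) (fun x hx => hx.1) (fun x hx => ⟨hx.1.act _, hx.2.2⟩) hc₁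
  have hκb : κ b = k * b₁ * k⁻¹ * (k * c₁ * k⁻¹) := by
    rw [hκ, MulAut.mul_apply, MulAut.conj_apply, hbc]; group
  have hkc' : k * c₁ * k⁻¹ ∈ RGD.B cs h T X := by
    have h5 : k * c₁ * k⁻¹ = (k * b₁ * k⁻¹)⁻¹ * (b⁻¹ * ((b * κ b)⁻¹)⁻¹) := by
      rw [hκb]; group
    rw [h5]
    exact mul_mem (inv_mem (RGD.U_le_B hkb)) (mul_mem (inv_mem (RGD.U_le_B hbU)) (RGD.T_le_B (inv_mem hcT)))
  have e6 := eq_one_of_mem_UN_of_mem_B R hkc hkc'
  rw [e6, mul_one] at hκb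
  have hκbU : κ b ∈ RGD.Sup X (RGD.Pos cs h) := by rw [hκb]; exact hkb
  have h7 : (b * κ b)⁻¹ ∈ RGD.Sup X (RGD.Pos cs h) ⊓ T :=
    Subgroup.mem_inf.2 ⟨inv_mem (mul_mem hbU hκbU), hcT⟩
  rw [U_inf_T R, Subgroup.mem_bot, inv_eq_one] at h7
  have e8 : κ b = b⁻¹ := (inv_eq_of_mul_eq_one_right h7).symm
  have hκκ : κ * κ = 1 := by rw [e4, h7, inv_one, map_one]
  -- the square root
  have hodd : Odd (orderOf b) := by
    obtain ⟨m, hm⟩ := R.isPGroup_Upos ⟨b, hbU⟩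
    have h6 : b ^ p ^ m = 1 := congrArg Subtype.val hm
    exact Odd.of_dvd_nat (hp2.pow) (orderOf_dvd_of_pow_eq_one h6)
  obtain ⟨m, hm⟩ := exists_sqrt hodd
  refine ⟨(b ^ m)⁻¹ * x, k, hk, by rw [← hκ]; exact hκκ, ?_⟩
  have e9 : MulAut.conj ((b ^ m)⁻¹ * x) * (MulAut.conj (u * k * v) * φ) * (MulAut.conj ((b ^ m)⁻¹ * x))⁻¹ =
      MulAut.conj (b ^ m)⁻¹ * (MulAut.conj b * κ) * (MulAut.conj (b ^ m)⁻¹)⁻¹ := by
    rw [← e2, map_mul]; group
  rw [e9, cj, map_inv, map_pow, e8, ← hκ]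
  have e10 : (b ^ m)⁻¹ * b * (((b⁻¹) ^ m)⁻¹)⁻¹ = 1 := by
    nth_rewrite 2 [← hm]
    group
  rw [e10, map_one, one_mul]

end Cfsg.Agent.H293.TwFix
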