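import Cfsg.Agent.H293.TwBound
import Cfsg.Agent.KFacts.RgdSL

/-!
# Fixed points of an involutory automorphism on the root groups of an `A₂`-plane

* `tri_abs`, `tri_card` : `|X x| ≤ |C_{X x}(β)| |C_{X y}(β)| |C_{X (x + y)}(β)|` for an `A₂`-pair `x`, `y` of roots whose root
  groups are stable under `β`, `β² = 1`;
* `rmap_of` : the action of `conj k * φ` on the roots.
-/

set_option autoImplicit false
set_option linter.unusedSectionVars false

namespace Cfsg.Agent.H293.TwFix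

open CoxeterSystem Cfsg.Agent.ChevalleyStructure.CoxeterGeom Cfsg.Agent.Tits.Roots Cfsg.Agent.Tits.Core
  Cfsg.Agent.Tits.RootComb Cfsg.Agent.Nodes.Comb Cfsg.Agent.Nodes.Reps Cfsg.Agent.Nodes.BNOf
  Cfsg.Agent.Nodes.BNOf.RGD Cfsg.Agent.Nodes.Unique Cfsg.Agent.Nodes.Coroot Cfsg.Agent.KFacts.RgdSL
  Cfsg.Agent.KFacts.RgdDiag Cfsg.Agent.KFacts.RgdAut Cfsg.Agent.Nodes.OppDec Cfsg.Agent.Nodes.Bruhat
open scoped commutatorElement

/-! ### the abstract lemma -/

theorem card_le_fix_mul_inv {P : Type*} [CommGroup P] [Finite P] (a : P ≃* P) (ha : ∀ x, a (a x) = x) :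
    Nat.card P ≤ Nat.card {x : P // a x = x} * Nat.card {x : P // a x = x⁻¹} := by
  let f : P →* P := (MonoidHom.id P) * a.toMonoidHom
  have hf : ∀ x, f x = x * a x := fun x => rfl
  have h1 := Subgroup.card_mul_index f.ker
  rw [Subgroup.index_ker] at h1
  have h2 : Nat.card ↥f.range ≤ Nat.card {x : P // a x = x} := by
    refine Nat.card_le_card_of_injective (fun y => (⟨y, ?_⟩ : {x : P // a x = x})) ?_
    · obtain ⟨x, hx⟩ := y.2
      rw [← hx, hf, map_mul, ha, mul_comm]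
    · intro y y' he
      exact Subtype.ext (Subtype.mk.inj he)
  have h3 : Nat.card ↥f.ker ≤ Nat.card {x : P // a x = x⁻¹} := by
    refine Nat.card_le_card_of_injective (fun y => (⟨y, ?_⟩ : {x : P // a x = x⁻¹})) ?_
    · have h4 : f y = 1 := y.2
      rw [hf] at h4
      exact (inv_eq_of_mul_eq_one_right h4).symm
    · intro y y' he
      exact Subtype.ext (Subtype.mk.inj he)
  rw [← h1, mul_comm]
  exact Nat.mul_le_mul h2 h3

theorem tri_abs {P Q Z : Type*} [CommGroup P] [Group Q] [Finite P] [Finite Q] [Finite Z] (a : P ≃* P) (b : Q ≃* Q)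
    (c : Z → Z) (m : P → Q → Z) (ha : ∀ x, a (a x) = x) (hb : ∀ x, b (b x) = x)
    (hm : ∀ x y, m (a x) (b y) = c (m x y)) (hi : ∀ x y, m x⁻¹ y⁻¹ = m x y)
    (hinj : ∀ y, y ≠ 1 → Function.Injective fun x => m x y) (hc : Nat.card P ≤ Nat.card Q) :
    Nat.card P ≤ Nat.card {x : P // a x = x} * Nat.card {y : Q // b y = y} * Nat.card {z : Z // c z = z} := by
  have h1a : 0 < Nat.card {x : P // a x = x} := by
    have : Nonempty {x : P // a x = x} := ⟨⟨1, map_one a⟩⟩
    exact Nat.card_pos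
  have h1b : 0 < Nat.card {y : Q // b y = y} := by
    have : Nonempty {y : Q // b y = y} := ⟨⟨1, map_one b⟩⟩
    exact Nat.card_pos
  have h1c : 0 < Nat.card {z : Z // c z = z} := by
    have : Nonempty {z : Z // c z = z} := ⟨⟨m 1 1, by rw [← hm, map_one, map_one]⟩⟩
    exact Nat.card_pos
  by_cases hq : ∃ y : Q, y ≠ 1 ∧ b y = y⁻¹
  · obtain ⟨y, hy, hby⟩ := hq
    have h2 : Nat.card {x : P // a x = x⁻¹} ≤ Nat.card {z : Z // c z = z} := by
      refine Nat.card_le_card_of_injective (fun x => (⟨m x y, ?_⟩ : {z : Z // c z = z})) ?_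
      · rw [← hm, x.2, hby, hi]
      · intro x x' he
        exact Subtype.ext (hinj y hy (congrArg Subtype.val he))
    calc Nat.card P ≤ Nat.card {x : P // a x = x} * Nat.card {x : P // a x = x⁻¹} := card_le_fix_mul_inv a ha
      _ ≤ Nat.card {x : P // a x = x} * Nat.card {z : Z // c z = z} := Nat.mul_le_mul_left _ h2
      _ ≤ _ := by
        rw [mul_assoc]
        exact Nat.mul_le_mul_left _ (Nat.le_mul_of_pos_left _ h1b)
  · push Not at hq
    have h2 : ∀ y : Q, b y = y := by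
      intro y
      by_contra hy
      have h3 : y⁻¹ * b y ≠ 1 := fun h4 => hy (inv_mul_eq_one.1 h4).symm
      exact hq _ h3 (by rw [map_mul, map_inv, hb, mul_inv_rev, inv_inv])
    have h3 : Nat.card Q ≤ Nat.card {y : Q // b y = y} :=
      Nat.card_le_card_of_injective (fun y => (⟨y, h2 y⟩ : {y : Q // b y = y})) fun y y' he =>
        congrArg Subtype.val he
    calc Nat.card P ≤ Nat.card {y : Q // b y = y} := hc.trans h3
      _ ≤ Nat.card {x : P // a x = x} * Nat.card {y : Q // b y = y} := Nat.le_mul_of_pos_left _ h1a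
      _ ≤ _ := Nat.le_mul_of_pos_right _ h1c

variable {I W Y : Type*} [Fintype I] [DecidableEq I] [Group W] [Group Y] {M : CoxeterMatrix I}
  {cs : CoxeterSystem M W} {A : I → I → ℤ} {h : IsCartan M A} {p : ℕ} {T : Subgroup Y} {n : I → Y}
  {X : (I → ℤ) → Subgroup Y}

/-- the restriction of an involutory automorphism to a stable subgroup -/
def resK {β : MulAut Y} (hβ : ∀ x, β (β x) = x) {P : Subgroup Y} (hP : ∀ x ∈ P, β x ∈ P) : P ≃* P where
  toFun x := ⟨β x, hP x x.2⟩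
  invFun x := ⟨β x, hP x x.2⟩
  left_inv x := Subtype.ext (hβ x)
  right_inv x := Subtype.ext (hβ x)
  map_mul' x y := Subtype.ext (map_mul β (x : Y) y)

theorem card_fix_eq {β : MulAut Y} (P : Subgroup Y) (f : P → P) (hf : ∀ x : P, ((f x : P) : Y) = β x) :
    Nat.card {x : P // f x = x} = Nat.card ↥(P ⊓ fixedSubgroup β) := by
  refine Nat.card_congr ⟨fun x => ⟨x.1, x.1.2, ?_⟩, fun x => ⟨⟨x, x.2.1⟩, Subtype.ext ?_⟩, fun x => rfl, fun x => rfl⟩
  · show β (x.1 : Y) = x.1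
    rw [← hf, x.2]
  · rw [hf]
    exact x.2.2

variable (R : RGD cs h p T n X)

include R

theorem X_comm_of_A2 [Finite W] {x y : I → ℤ} (hA : A2 cs h x y) {u v : Y} (hu : u ∈ X x) (hv : v ∈ X x) :
    u * v = v * u := by
  -- `s_y x = x + y`
  obtain ⟨⟨b, hb⟩, hb1⟩ := Subgroup.ne_bot_iff_exists_ne_one.1 (X_ne_bot R hA.ry)
  obtain ⟨s, hs, m, -, hm, -⟩ := A2.exists_mu' R hA.symm hb (fun h0 => hb1 (Subtype.ext h0))
  have hsx : rep cs h s x = x + y := by rw [hs, hA.cxy, neg_one_smul, sub_neg_eq_add]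
  have h1 := R.conj_mem hm hA.rx hu
  have h2 := R.conj_mem hm hA.rx hv
  rw [hsx] at h1 h2
  have h3 := A2.comm_self R hA h1 h2
  have h4 : m * (u * v) * m⁻¹ = m * (v * u) * m⁻¹ := by
    calc m * (u * v) * m⁻¹ = m * u * m⁻¹ * (m * v * m⁻¹) := by group
      _ = m * v * m⁻¹ * (m * u * m⁻¹) := h3
      _ = _ := by group
  exact mul_left_cancel (mul_right_cancel h4)

theorem card_eq_of_A2 [Finite W] {x y : I → ℤ} (hA : A2 cs h x y) : Nat.card ↥(X x) = Nat.card ↥(X y) := by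
  -- `s_x y = x + y = s_y x`
  have key : ∀ {x y : I → ℤ}, A2 cs h x y → Nat.card ↥(X x) = Nat.card ↥(X (x + y)) := by
    intro x y hA
    obtain ⟨⟨b, hb⟩, hb1⟩ := Subgroup.ne_bot_iff_exists_ne_one.1 (X_ne_bot R hA.ry)
    obtain ⟨s, hs, m, -, hm, -⟩ := A2.exists_mu' R hA.symm hb (fun h0 => hb1 (Subtype.ext h0))
    have hsx : rep cs h s x = x + y := by rw [hs, hA.cxy, neg_one_smul, sub_neg_eq_add]
    rw [← hsx, ← R.conj_rp hm hA.rx]
    exact (Subgroup.card_map_of_injective (MulAut.conj m).injective).symm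
  rw [key hA, add_comm, ← key hA.symm]

/-- **The root groups of an `A₂`-plane.** -/
theorem tri_card [Finite W] [Finite Y] {x y : I → ℤ} (hA : A2 cs h x y) {β : MulAut Y} (hβ : ∀ g, β (β g) = g)
    (h1 : ∀ g ∈ X x, β g ∈ X x) (h2 : ∀ g ∈ X y, β g ∈ X y) (h3 : ∀ g ∈ X (x + y), β g ∈ X (x + y)) :
    Nat.card ↥(X x) ≤ Nat.card ↥(X x ⊓ fixedSubgroup β) * Nat.card ↥(X y ⊓ fixedSubgroup β) *
      Nat.card ↥(X (x + y) ⊓ fixedSubgroup β) := by
  let _ : CommGroup ↥(X x) := { (inferInstance : Group ↥(X x)) with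
    mul_comm := fun u v => Subtype.ext (X_comm_of_A2 R hA u.2 v.2) }
  obtain ⟨m, hm⟩ : ∃ m : ↥(X x) → ↥(X y) → ↥(X (x + y)), ∀ u v, ((m u v : ↥(X (x + y))) : Y) = ⁅(u : Y), (v : Y)⁆ :=
    ⟨fun u v => ⟨_, A2.comm_mem R hA u.2 v.2⟩, fun u v => rfl⟩
  have h := tri_abs (resK hβ h1) (resK hβ h2) (resK hβ h3) m (fun u => Subtype.ext (hβ u))
    (fun u => Subtype.ext (hβ u)) (fun u v => ?_) (fun u v => ?_) (fun v hv u u' he => ?_)
    (card_eq_of_A2 R hA).le
  · rwa [card_fix_eq (β := β) (X x) _ fun _ => rfl, card_fix_eq (β := β) (X y) _ fun _ => rfl,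
      card_fix_eq (β := β) (X (x + y)) _ fun _ => rfl] at h
  · apply Subtype.ext
    rw [hm]
    show ⁅β (u : Y), β (v : Y)⁆ = β (m u v)
    rw [hm, map_commutatorElement]
  · apply Subtype.ext
    rw [hm, hm]
    have e1 := A2.comm_left R hA (A2.comm_mem R hA u.2 v.2) u.2
    have e2 := A2.comm_right R hA (A2.comm_mem R hA u.2 v.2) v.2
    have e3 : (u : Y)⁻¹ * (v : Y)⁻¹ * u * v = ((v : Y) * u)⁻¹ * ⁅(u : Y), (v : Y)⁆ * (v * u) := by
      rw [commutatorElement_def]; group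
    have e4 : ⁅(u : Y), (v : Y)⁆ * (v * u) = (v * u) * ⁅(u : Y), (v : Y)⁆ := by
      rw [← mul_assoc, e2, mul_assoc, e1, mul_assoc]
    rw [Subgroup.coe_inv, Subgroup.coe_inv, commutatorElement_def, inv_inv, inv_inv, e3, mul_assoc, e4]
    group
  · have h4 := congrArg Subtype.val he
    simp only [hm] at h4
    have h5 : ⁅(v : Y), (u : Y)⁆ = ⁅(v : Y), (u' : Y)⁆ := by
      rw [← commutatorElement_inv, h4, commutatorElement_inv]
    exact Subtype.ext (A2.comm_inj R hA.symm v.2 (fun h0 => hv (Subtype.ext h0)) u.2 u'.2 h5)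

omit R in
theorem isRoot_comp {σ : Equiv.Perm I} (hσ : ∀ i j, M (σ i) (σ j) = M i j) (hA : ∀ i j, A (σ i) (σ j) = A i j)
    {r : I → ℤ} (hr : IsRoot cs h r) : IsRoot cs h (r ∘ σ.symm) := by
  obtain ⟨w, i, rfl⟩ := hr
  rw [← rep_hat hσ hA, sr_comp]
  exact ⟨_, _, rfl⟩

/-- **The action of `conj k * φ` on the roots.** -/
theorem rmap_of [Finite W] {φ : MulAut Y} {σ : Equiv.Perm I} (D : Diag T X φ σ)
    (hA : ∀ i j, A (σ i) (σ j) = A i j) {w : W} {k : Y} (hk : Rp cs R.nsys w k)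
    (h2 : (MulAut.conj k * φ) * (MulAut.conj k * φ) = 1) :
    RMap cs h X (MulAut.conj k * φ) (fun r => rep cs h w (r ∘ σ.symm)) := by
  have hσ := D.matrix R
  have hroot : ∀ r, IsRoot cs h r → IsRoot cs h (rep cs h w (r ∘ σ.symm)) := fun r hr =>
    (isRoot_comp hσ hA hr).act w
  have hmem : ∀ r, IsRoot cs h r → ∀ x, (MulAut.conj k * φ) x ∈ X (rep cs h w (r ∘ σ.symm)) ↔ x ∈ X r := by
    intro r hr x
    rw [← D.root_comp R hA hr, MulAut.mul_apply, MulAut.conj_apply]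
    constructor
    · intro h3
      have h4 := R.conj_mem' hk ((isRoot_comp hσ hA hr).act w) h3
      rw [rep_inv_apply] at h4
      have e : k⁻¹ * (k * φ x * k⁻¹) * k = φ x := by group
      rwa [e] at h4
    · intro h3
      exact R.conj_mem hk (isRoot_comp hσ hA hr) h3
  refine ⟨hroot, hmem, fun r hr => ?_, fun x y z hx hy hz => ?_⟩
  · apply X_injective R (hroot _ (hroot _ hr)) hr
    ext x
    have h3 := hmem _ (hroot _ hr) ((MulAut.conj k * φ) x)
    rw [hmem r hr] at h3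
    have h4 : (MulAut.conj k * φ) ((MulAut.conj k * φ) x) = x := by
      have := DFunLike.congr_fun h2 x
      exact this
    rw [h4] at h3
    exact h3
  · obtain ⟨hzr, m, a, b, hm, ha, hb, he⟩ := hz
    refine ⟨hroot z hzr, m, a, b, hm, ha, hb, ?_⟩
    show m • rep cs h w (z ∘ σ.symm) = a • rep cs h w (x ∘ σ.symm) + b • rep cs h w (y ∘ σ.symm)
    rw [← map_smul, ← map_smul, ← map_smul, ← map_add]
    congr 1
    funext k
    exact congrFun he (σ.symm k)

end Cfsg.Agent.H293.TwFix
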